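import Mathlib.GroupTheory.Index
import Mathlib.GroupTheory.Sylow
import Mathlib.GroupTheory.Nilpotent
import Cfsg.Prelude.Def_Solvable

/-!
# Small facts for local analysis

* `pPrimeCore_coprime`, `le_pPrimeCore`: the `p'`-core of a finite group has order prime to `p`;
* `exists_mem_normalizer_not_mem`: normalisers grow in a finite `p`-group, inside an ambient group;
* `eq_of_normalizer_inf_eq`: its corollary for self-normalising subgroups.
-/

namespace CfsgLib.LocalEven50

open Subgroup

variable {G : Type*} [Group G]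

theorem card_sup_mul_card_inf [Finite G] (H N : Subgroup G) [N.Normal] :
    Nat.card ↥(H ⊔ N) * Nat.card ↥(H ⊓ N) = Nat.card H * Nat.card N := by
  have h1 : N.relIndex H = N.relIndex (H ⊔ N) := by
    rw [relIndex_sup_right]
  have h2 := card_mul_index (N.subgroupOf (H ⊔ N))
  have h3 := card_mul_index (N.subgroupOf H)
  rw [Nat.card_congr (subgroupOfEquivOfLe (le_sup_right : N ≤ H ⊔ N)).toEquiv] at h2
  have h4 : Nat.card ↥(N.subgroupOf H) = Nat.card ↥(H ⊓ N) := by
    rw [← inf_subgroupOf_right, inf_comm]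
    exact Nat.card_congr (subgroupOfEquivOfLe inf_le_left).toEquiv
  rw [h4] at h3
  simp only [relIndex] at h1
  rw [← h2, ← h3, ← h1]
  ring

theorem card_sup_dvd_mul [Finite G] (N M : Subgroup G) [N.Normal] :
    Nat.card ↥(N ⊔ M) ∣ Nat.card N * Nat.card M :=
  ⟨Nat.card ↥(M ⊓ N), by rw [sup_comm N M, card_sup_mul_card_inf]; ring⟩

theorem pPrimeCore_coprime (p : ℕ) [Finite G] :
    (Nat.card ↥(Cfsg.pPrimeCore p G)).Coprime p := by
  classical
  haveI : Fintype (Subgroup G) := Fintype.ofFinite _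
  set s : Finset (Subgroup G) :=
    Finset.univ.filter (fun N : Subgroup G => N.Normal ∧ (Nat.card N).Coprime p) with hs
  have key : ∀ t : Finset (Subgroup G), (∀ N ∈ t, N.Normal ∧ (Nat.card N).Coprime p) →
      (t.sup id).Normal ∧ (Nat.card ↥(t.sup id)).Coprime p := by
    intro t
    induction t using Finset.induction with
    | empty => intro _; simp only [Finset.sup_empty]; exact ⟨inferInstance, by simp⟩
    | insert N t hN ih =>
      intro h
      obtain ⟨hn, hc⟩ := h N (Finset.mem_insert_self N t)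
      obtain ⟨ihn, ihc⟩ := ih fun M hM => h M (Finset.mem_insert_of_mem hM)
      rw [Finset.sup_insert]
      refine ⟨Subgroup.sup_normal N _, ?_⟩
      exact (hc.mul_left ihc).coprime_dvd_left (card_sup_dvd_mul N _)
  have : Cfsg.pPrimeCore p G = s.sup id := by
    rw [Finset.sup_id_eq_sSup]
    refine congrArg sSup ?_
    ext N
    simp [hs]
  rw [this]
  exact (key s fun N hN => by simpa [hs] using hN).2

theorem le_pPrimeCore {p : ℕ} {N : Subgroup G} (hn : N.Normal) (hc : (Nat.card N).Coprime p) :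
    N ≤ Cfsg.pPrimeCore p G :=
  le_sSup ⟨hn, hc⟩

instance pPrimeCore_normal (p : ℕ) : (Cfsg.pPrimeCore p G).Normal := by
  refine ⟨fun x hx g => ?_⟩
  suffices h : Cfsg.pPrimeCore p G ≤ (Cfsg.pPrimeCore p G).comap (MulAut.conj g).toMonoidHom by
    exact h hx
  refine sSup_le fun N hN y hy => ?_
  exact le_sSup (show N ∈ _ from hN) (hN.1.conj_mem y hy g)

/-- Normalisers grow in finite `p`-groups. -/
theorem exists_mem_normalizer_not_mem [Finite G] {p : ℕ} [Fact p.Prime] {H T : Subgroup G}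
    (hT : IsPGroup p T) (hHT : H ≤ T) (hne : H ≠ T) :
    ∃ x ∈ T, x ∈ normalizer (H : Set G) ∧ x ∉ H := by
  haveI := hT.isNilpotent
  have hlt : H.subgroupOf T < ⊤ := lt_top_iff_ne_top.mpr fun htop =>
    hne (le_antisymm hHT (subgroupOf_eq_top.mp htop))
  obtain ⟨x, hx, hxH⟩ := SetLike.exists_of_lt (Group.normalizerCondition_of_isNilpotent _ hlt)
  refine ⟨x, x.2, mem_normalizer_iff.mpr fun y => ⟨fun hy => ?_, fun hy => ?_⟩,
    fun h => hxH (mem_subgroupOf.mpr h)⟩
  · exact (mem_normalizer_iff.mp hx ⟨y, hHT hy⟩).mp (mem_subgroupOf.mpr hy)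
  · have hyT : y ∈ T := by
      have := T.mul_mem (T.mul_mem (T.inv_mem x.2) (hHT hy)) x.2
      simpa [mul_assoc] using this
    exact (mem_normalizer_iff.mp hx ⟨y, hyT⟩).mpr (mem_subgroupOf.mpr hy)

theorem eq_of_normalizer_inf_eq [Finite G] {p : ℕ} [Fact p.Prime] {H T : Subgroup G}
    (hT : IsPGroup p T) (hHT : H ≤ T) (h : T ⊓ normalizer (H : Set G) = H) : T = H := by
  by_contra hne
  obtain ⟨x, hxT, hxN, hxH⟩ := exists_mem_normalizer_not_mem hT hHT (Ne.symm hne)
  exact hxH (h.le ⟨hxT, hxN⟩)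

end CfsgLib.LocalEven50
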