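import Mathlib.GroupTheory.Sylow
import Cfsg.Prelude.Def_IsolatedElements
import Cfsg.Agent.LocalEven50.Basic

/-!
# Isolated elements of prime order

Elementary facts: an isolated `p`-element centralises every `p`-subgroup containing it, is the only
one of its conjugates in such a subgroup, and two conjugates of it normalising one subgroup `S`
are conjugate inside `N(S)`. Also: fixed points of a coprime action of a `p`-group on Sylow
subgroups of a normal subgroup.
-/

namespace CfsgLib.LocalEven50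

open Subgroup

variable {G : Type*} [Group G] [Finite G] {p : ℕ} [Fact p.Prime]

theorem le_centralizer_of_isIsolated {x : G} (hiso : Cfsg.IsIsolated x) {P : Subgroup G}
    (hP : IsPGroup p P) (hx : x ∈ P) : P ≤ centralizer ({x} : Set G) := by
  set C : Subgroup G := P ⊓ centralizer ({x} : Set G) with hC
  have hxC : x ∈ C := ⟨hx, mem_centralizer_singleton_iff.mpr rfl⟩
  by_contra hne
  obtain ⟨g, hgP, hgN, hgC⟩ := exists_mem_normalizer_not_mem hP (inf_le_left : C ≤ P)
    (fun h => hne (h.ge.trans inf_le_right))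
  refine hgC ⟨hgP, mem_centralizer_singleton_iff.mpr ?_⟩
  have h1 := ((mem_normalizer_iff.mp hgN x).mp hxC).2
  have h2 := hiso g (mem_centralizer_singleton_iff.mp h1).symm
  rwa [mul_inv_eq_iff_eq_mul] at h2

theorem eq_of_isIsolated_mem {x : G} (hiso : Cfsg.IsIsolated x) {P : Subgroup G}
    (hP : IsPGroup p P) (hx : x ∈ P) {g : G} (hg : g * x * g⁻¹ ∈ P) : g * x * g⁻¹ = x :=
  hiso g (mem_centralizer_singleton_iff.mp (le_centralizer_of_isIsolated hiso hP hx hg)).symm

/-- If a `p`-element `x` is isolated and `x`, `g x g⁻¹` normalise `S`, some element of `N(S)` times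
`g` centralises `x`. -/
theorem exists_mul_commute {x : G} (hiso : Cfsg.IsIsolated x) (hp : IsPGroup p (zpowers x))
    {N : Subgroup G} (hx : x ∈ N) {g : G} (hg : g * x * g⁻¹ ∈ N) :
    ∃ n ∈ N, (n * g) * x = x * (n * g) := by
  have hy : IsPGroup p (zpowers (g * x * g⁻¹)) := by
    have := hp.map (MulAut.conj g).toMonoidHom
    rwa [MonoidHom.map_zpowers] at this
  obtain ⟨P, hP⟩ := (hp.comap_subtype (K := N)).exists_le_sylow
  obtain ⟨R, hR⟩ := (hy.comap_subtype (K := N)).exists_le_sylow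
  obtain ⟨n, hn⟩ := MulAction.exists_smul_eq ↥N R P
  have h1 : (⟨x, hx⟩ : ↥N) ∈ (P : Subgroup ↥N) := hP (mem_zpowers x)
  have h2 : n * (⟨g * x * g⁻¹, hg⟩ : ↥N) * n⁻¹ ∈ (P : Subgroup ↥N) := by
    rw [← hn, Sylow.coe_subgroup_smul]
    exact smul_mem_pointwise_smul _ (MulAut.conj n) _ (hR (mem_zpowers (g * x * g⁻¹)))
  refine ⟨n, n.2, ?_⟩
  have h3 : ((n : G) * g) * x * ((n : G) * g)⁻¹ ∈ (P : Subgroup ↥N).map N.subtype :=
    ⟨_, h2, by simp [mul_assoc]⟩
  have h4 := eq_of_isIsolated_mem hiso (P.2.map N.subtype) ⟨_, h1, rfl⟩ h3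
  rwa [mul_inv_eq_iff_eq_mul] at h4

/-- An element of `p`-power order fixes a Sylow subgroup of a normal `p'`-subgroup. -/
theorem exists_invariant_sylow {x : G} (hp : IsPGroup p (zpowers x)) (K : Subgroup G) [K.Normal]
    (hK : (Nat.card K).Coprime p) (q : ℕ) [Fact q.Prime] :
    ∃ S : Sylow q ↥K, x ∈ normalizer (((S : Subgroup ↥K).map K.subtype : Subgroup G) : Set G) := by
  classical
  letI : MulAction (zpowers x) (Sylow q ↥K) :=
    MulAction.compHom _ ((MulAut.conjNormal (H := K)).comp (zpowers x).subtype)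
  have hcard : ¬ p ∣ Nat.card (Sylow q ↥K) := by
    intro h
    obtain ⟨S⟩ : Nonempty (Sylow q ↥K) := inferInstance
    have h' : p ∣ Nat.card K := (h.trans S.card_dvd_index).trans (index_dvd_card _)
    exact (Fact.out : p.Prime).coprime_iff_not_dvd.mp hK.symm h'
  obtain ⟨S, hS⟩ := hp.nonempty_fixed_point_of_prime_not_dvd_card (Sylow q ↥K) hcard
  refine ⟨S, mem_normalizer_iff_map_conj_eq.mpr ?_⟩
  have h1 : (MulAut.conjNormal x : MulAut ↥K) • S = S := hS ⟨x, mem_zpowers x⟩
  have h2 := congrArg (fun P : Sylow q ↥K => (P : Subgroup ↥K).map K.subtype) h1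
  simp only [Sylow.pointwise_smul_def, Subgroup.pointwise_smul_def, map_map] at h2
  conv_rhs => rw [← h2]
  ext z
  simp only [mem_map]
  constructor
  · rintro ⟨_, ⟨s, hs, rfl⟩, rfl⟩
    exact ⟨_, ⟨s, hs, rfl⟩, MulAut.conjNormal_apply x s⟩
  · rintro ⟨_, ⟨s, hs, rfl⟩, rfl⟩
    exact ⟨_, ⟨s, hs, rfl⟩, (MulAut.conjNormal_apply x s).symm⟩

/-- If `K` is a `p'`-subgroup normalised by the element `x` of order `p`, every conjugate of `x` in
`K x` is conjugate to `x` by an element of `K`, provided `x` is isolated. -/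
theorem exists_commute_mul_mem {x : G} (hx : orderOf x = p) (hiso : Cfsg.IsIsolated x)
    {K : Subgroup G} (hK : (Nat.card K).Coprime p) (hxK : x ∈ normalizer (K : Set G)) {n : G}
    (hn : n * x * n⁻¹ * x⁻¹ ∈ K) : ∃ k ∈ K, (k * n) * x = x * (k * n) := by
  classical
  set y := n * x * n⁻¹ with hy
  set O : Set G := Set.range (fun k : K => (k : G) * y * (k : G)⁻¹) with hO
  have hxy : x * y * x⁻¹ = (y * x⁻¹)⁻¹ * y * (y * x⁻¹) := by group
  have hconj : ∀ z ∈ O, x * z * x⁻¹ ∈ O := by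
    rintro z ⟨k, rfl⟩
    have hk' : x * k * x⁻¹ ∈ K := (mem_normalizer_iff.mp hxK k).mp k.2
    refine ⟨⟨x * k * x⁻¹ * (y * x⁻¹)⁻¹, K.mul_mem hk' (K.inv_mem hn)⟩, ?_⟩
    calc (x * k * x⁻¹ * (y * x⁻¹)⁻¹) * y * (x * k * x⁻¹ * (y * x⁻¹)⁻¹)⁻¹
        = (x * k * x⁻¹) * ((y * x⁻¹)⁻¹ * y * (y * x⁻¹)) * (x * k * x⁻¹)⁻¹ := by group
      _ = x * (k * y * (k : G)⁻¹) * x⁻¹ := by rw [← hxy]; group
  have hconjn : ∀ (m : ℕ) (z : G), z ∈ O → x ^ m * z * (x ^ m)⁻¹ ∈ O := by
    intro m
    induction m with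
    | zero => intro z hz; simpa using hz
    | succ m ih =>
      intro z hz
      have := hconj _ (ih z hz)
      rw [pow_succ']
      simpa [mul_assoc] using this
  letI : MulAction (zpowers x) O :=
    { smul := fun a z => ⟨(a : G) * z * (a : G)⁻¹, by
        obtain ⟨a, ha⟩ := a
        obtain ⟨m, rfl⟩ := (mem_zpowers_iff_mem_range_orderOf.mp ha |> fun h => by
          simpa using h : ∃ m, m < orderOf x ∧ x ^ m = a).imp (fun _ => And.right)
        exact hconjn m z z.2⟩
      one_smul := fun z => Subtype.ext (by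
        show (1 : G) * z * (1 : G)⁻¹ = z
        simp)
      mul_smul := fun a b z => Subtype.ext (by
        show ((a * b : zpowers x) : G) * z * ((a * b : zpowers x) : G)⁻¹ = _
        show _ = (a : G) * ((b : G) * z * (b : G)⁻¹) * (a : G)⁻¹
        simp [mul_assoc]) }
  have hp' : IsPGroup p (zpowers x) :=
    IsPGroup.of_card (n := 1) (by rw [Nat.card_zpowers, hx, pow_one])
  have hcard : ¬ p ∣ Nat.card O := by
    have hdvd : Nat.card O ∣ Nat.card K := by
      have e : O = MulAction.orbit ↥(K.map (ConjAct.toConjAct : G ≃* ConjAct G).toMonoidHom) y := by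
        ext z
        constructor
        · rintro ⟨k, rfl⟩
          exact ⟨⟨_, mem_map_of_mem _ k.2⟩, ConjAct.toConjAct_smul (k : G) y⟩
        · rintro ⟨⟨_, k, hk, rfl⟩, rfl⟩
          exact ⟨⟨k, hk⟩, (ConjAct.toConjAct_smul k y).symm⟩
      have h := MulAction.orbitEquivQuotientStabilizer
        ↥(K.map (ConjAct.toConjAct : G ≃* ConjAct G).toMonoidHom) y
      rw [e, Nat.card_congr h, ← index_eq_card]
      refine (index_dvd_card _).trans (dvd_of_eq ?_)
      exact card_map_of_injective (MulEquiv.injective _)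
    exact fun h => (Fact.out : p.Prime).coprime_iff_not_dvd.mp hK.symm (h.trans hdvd)
  haveI : Finite O := Set.Finite.to_subtype (Set.toFinite O)
  obtain ⟨⟨z, k, hk⟩, hz⟩ := hp'.nonempty_fixed_point_of_prime_not_dvd_card O hcard
  have hxz : x * z * x⁻¹ = z := congrArg Subtype.val (hz ⟨x, mem_zpowers x⟩)
  refine ⟨k, k.2, ?_⟩
  have hzc : z = ((k : G) * n) * x * ((k : G) * n)⁻¹ := by rw [← hk, hy]; group
  have := hiso ((k : G) * n) (hzc ▸ (mul_inv_eq_iff_eq_mul.mp hxz))
  rwa [mul_inv_eq_iff_eq_mul] at this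

end CfsgLib.LocalEven50
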