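import Mathlib.FieldTheory.Finite.Basic
import Mathlib.GroupTheory.SpecificGroups.Alternating
import Cfsg.Prelude.Def_BaumannBlocks
import Cfsg.Agent.PLocal.Thompson
import Cfsg.Agent.LocalStructure.Cores
import Cfsg.Agent.Coprime.Action
import Cfsg.Agent.LocalEven48.Basic
import Cfsg.Agent.CharPLocal.Basic
import Cfsg.Agent.Solvable.Frattini

/-!
# Blocks relative to the Baumann subgroup: normalisation and the module `W_E`

* `baumannSubgroupOf_eq_of_le`: `B(T)` is the Baumann subgroup of every Sylow subgroup containing it.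
* `le_normalizer_block`: `p`-subgroups normalised by `B(T)` and `E` normalise the block `E`.
* `sl2Section_cases`, `permSection_cases`: the two module types are irreducible.
* `block_module`: `[V, E] ≠ 1` lies in `W = Ω₁(Z(O_p(E)))` and generates it modulo `C_W(E)`.
-/

namespace CfsgLib.LocalEven50

open Subgroup Cfsg
open scoped commutatorElement

variable {G : Type*} [Group G] {p : ℕ}

theorem map_omegaOneCenter {H : Type*} [Group H] {f : G →* H} (hf : Function.Injective f)
    (X : Subgroup G) : (omegaOneCenter p X).map f = omegaOneCenter p (X.map f) := by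
  rw [omegaOneCenter, omegaOneCenter, PLocal.map_omegaOne hf, PLocal.map_inf_centralizer hf]

theorem map_baumannSubgroupOf {H : Type*} [Group H] {f : G →* H} (hf : Function.Injective f)
    (T : Subgroup G) : (baumannSubgroupOf p T).map f = baumannSubgroupOf p (T.map f) := by
  rw [baumannSubgroupOf, baumannSubgroupOf, PLocal.map_inf_centralizer hf, PLocal.map_omegaOne hf,
    centerThompsonOf, centerThompsonOf, PLocal.map_inf_centralizer hf,
    PLocal.map_thompsonSubgroupOf hf]

theorem le_normalizer_inf {X A B : Subgroup G} (hA : X ≤ normalizer (A : Set G))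
    (hB : X ≤ normalizer (B : Set G)) : X ≤ normalizer ((A ⊓ B : Subgroup G) : Set G) :=
  fun x hx => mem_normalizer_iff.mpr fun y =>
    Iff.and (mem_normalizer_iff.mp (hA hx) y) (mem_normalizer_iff.mp (hB hx) y)

theorem normalizer_le_normalizer_omegaOneCenter (X : Subgroup G) :
    normalizer (X : Set G) ≤ normalizer (omegaOneCenter p X : Set G) := by
  intro g hg
  rw [mem_normalizer_iff_map_conj_eq] at hg ⊢
  exact (map_omegaOneCenter (MulAut.conj g).injective X).trans (congrArg _ hg)

theorem normalizer_le_normalizer_baumann (X : Subgroup G) :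
    normalizer (X : Set G) ≤ normalizer (baumannSubgroupOf p X : Set G) := by
  intro g hg
  rw [mem_normalizer_iff_map_conj_eq] at hg ⊢
  exact (map_baumannSubgroupOf (MulAut.conj g).injective X).trans (congrArg _ hg)

theorem omegaOneCenter_le (X : Subgroup G) : omegaOneCenter p X ≤ X :=
  (PLocal.omegaOne_le _ _).trans inf_le_left

theorem omegaOneCenter_le_centralizer (X : Subgroup G) :
    omegaOneCenter p X ≤ centralizer (X : Set G) :=
  (PLocal.omegaOne_le _ _).trans inf_le_right

theorem isElementaryAbelian_omegaOneCenter (X : Subgroup G) :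
    IsElementaryAbelian p (omegaOneCenter p X) :=
  PLocal.isElementaryAbelian_omegaOne (le_centralizer_iff_isMulCommutative.mp
    (inf_le_right.trans (centralizer_le (inf_le_left (a := X) (b := centralizer (X : Set G))))))

theorem le_omegaOneCenter {X Y : Subgroup G} (hY : Y ≤ X) (hc : Y ≤ centralizer (X : Set G))
    (he : IsElementaryAbelian p Y) : Y ≤ omegaOneCenter p X :=
  fun y hy => PLocal.mem_omegaOne ⟨hY hy, hc hy⟩ (he.2 y hy)

theorem thompsonSubgroupOf_le_baumann (T : Subgroup G) :
    thompsonSubgroupOf p T ≤ baumannSubgroupOf p T :=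
  le_inf (PLocal.thompsonSubgroupOf_le p T)
    (le_centralizer_iff.mp ((PLocal.omegaOne_le _ _).trans inf_le_right))

/-- `B(T)` is the Baumann subgroup of every Sylow subgroup that contains it. -/
theorem baumannSubgroupOf_eq_of_le [Finite G] [Fact p.Prime] (S T : Sylow p G)
    (h : baumannSubgroupOf p (T : Subgroup G) ≤ S) :
    baumannSubgroupOf p (S : Subgroup G) = baumannSubgroupOf p (T : Subgroup G) := by
  obtain ⟨g, hg⟩ := MulAction.exists_smul_eq G T S
  set c := (MulAut.conj g).toMonoidHom
  have hg' : (T : Subgroup G).map c = S := by rw [← hg]; rfl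
  have hcinj : Function.Injective c := (MulAut.conj g).injective
  have hJ : thompsonSubgroupOf p (T : Subgroup G) = thompsonSubgroupOf p (S : Subgroup G) := by
    refine eq_of_le_of_card_ge ?_ ?_
    · rw [PLocal.thompsonSubgroupOf_eq]
      refine sSup_le fun A hA => PLocal.le_thompsonSubgroupOf ?_
      have hAS : A ≤ S :=
        (PLocal.le_thompsonSubgroupOf hA).trans ((thompsonSubgroupOf_le_baumann _).trans h)
      rw [PLocal.maxEAIn_sylow] at hA ⊢
      exact ⟨hA.1, hAS⟩
    · rw [← hg', ← PLocal.map_thompsonSubgroupOf hcinj, card_map_of_injective hcinj]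
  refine (eq_of_le_of_card_ge ?_ ?_).symm
  · refine le_inf h ?_
    have : centerThompsonOf p (S : Subgroup G) = centerThompsonOf p (T : Subgroup G) := by
      rw [centerThompsonOf, centerThompsonOf, hJ]
    rw [this]
    exact inf_le_right
  · rw [← hg', ← map_baumannSubgroupOf hcinj, card_map_of_injective hcinj]

/-! ### Blocks -/

section Block

variable {T E : Subgroup G}

theorem pResOf_block (hE : IsBaumannBlock p T E) : LocalStructure.pResOf p E = E := by
  rw [← LocalStructure.map_pResidual]; exact hE.1

theorem baumann_le_normalizer_block (hE : IsBaumannBlock p T E) :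
    baumannSubgroupOf p T ≤ normalizer (E : Set G) := by
  conv_rhs => rw [← hE.2.1]
  exact le_sup_right.trans (Coprime.sup_le_normalizer_commutator E _)

/-- A group generated by its `p'`-elements that moves a `p`-group moves it nontrivially twice. -/
theorem commutator_eq_bot_of_twice [Finite G] [Fact p.Prime] {X E : Subgroup G}
    (hX : IsPGroup p X) (hres : LocalStructure.pResOf p E = E)
    (hn : E ≤ normalizer (X : Set G)) (h : ⁅⁅X, E⁆, E⁆ = ⊥) : ⁅X, E⁆ = ⊥ := by
  rw [commutator_eq_bot_iff_le_centralizer, le_centralizer_iff]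
  conv_lhs => rw [← hres]
  refine LocalStructure.pResOf_le_of_forall fun e he hec => ?_
  have hz : zpowers e ≤ E := zpowers_le.mpr he
  refine Coprime.le_centralizer_of_commutator_commutator_eq_bot (hz.trans hn) ?_ ?_ (mem_zpowers e)
  · obtain ⟨k, hk⟩ := IsPGroup.iff_card.mp hX
    rw [Nat.card_zpowers, hk]
    exact hec.pow_right k
  · exact le_bot_iff.mp ((commutator_mono (commutator_mono le_rfl hz) hz).trans h.le)

/-- A `p`-subgroup normalised by `B(T)` and by the block `E` normalises `E`, provided it also
normalises `B(T)`. -/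
theorem le_normalizer_block [Finite G] [Fact p.Prime] (hE : IsBaumannBlock p T E) (n : ℕ) :
    ∀ R : Subgroup G, Nat.card R = n → IsPGroup p R → E ≤ normalizer (R : Set G) →
      baumannSubgroupOf p T ≤ normalizer (R : Set G) →
      R ≤ normalizer (baumannSubgroupOf p T : Set G) → R ≤ normalizer (E : Set G) := by
  induction n using Nat.strong_induction_on with
  | _ n ih =>
  intro R hn hR hER hBR hRB
  set B := baumannSubgroupOf p T
  have hBE := baumann_le_normalizer_block hE
  have hDR : ⁅R, E⁆ ≤ R := Coprime.commutator_le_of_le_normalizer hER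
  by_cases hD : ⁅R, E⁆ = R
  · rcases eq_or_ne R ⊥ with rfl | hne
    · exact bot_le
    set N := R ⊓ normalizer (E : Set G)
    by_contra hnot
    have hNlt : N < R :=
      lt_of_le_of_ne inf_le_left fun h => hnot (inf_eq_left.mp h)
    -- `N` contains `[R, B]`
    have hRBN : ⁅R, B⁆ ≤ N := by
      refine le_inf (Coprime.commutator_le_of_le_normalizer hBR) (le_trans ?_ hBE)
      rw [commutator_comm]
      exact Coprime.commutator_le_of_le_normalizer hRB
    -- a normal subgroup of `R`, invariant under `E` and `B`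
    have hRN : R ≤ normalizer (N : Set G) ⊔ R := le_sup_right
    set N' := N ⊔ ⁅R, R⁆
    have hN'R : N' ≤ R := sup_le inf_le_left ((commutator_le).mpr fun a ha b hb =>
      R.mul_mem (R.mul_mem (R.mul_mem ha hb) (R.inv_mem ha)) (R.inv_mem hb))
    have hRn : R ≤ normalizer (N' : Set G) := by
      intro r hr
      refine mem_normalizer_iff_map_conj_eq.mpr (eq_of_le_of_card_ge ?_
        (card_map_of_injective (MulAut.conj r).injective).ge)
      rintro _ ⟨x, hx, rfl⟩
      have hxR := hN'R hx
      have : ⁅r, x⁆ * x ∈ N' :=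
        mul_mem (mem_sup_right (commutator_mem_commutator hr hxR)) hx
      simpa [commutatorElement_def] using this
    have hinv : ∀ X : Subgroup G, X ≤ normalizer (R : Set G) → X ≤ normalizer (E : Set G) →
        X ≤ normalizer (N' : Set G) := by
      intro X hXR hXE
      refine LocalEven48.le_normalizer_sup ?_ ?_
      · exact le_normalizer_inf hXR (hXE.trans le_normalizer)
      · exact (le_inf hXR hXR).trans (CharPLocal.inf_normalizer_le_normalizer_commutator R R)
    have hN'lt : N' < R := by
      refine lt_of_le_of_ne hN'R fun h => hNlt.ne ?_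
      refine le_antisymm inf_le_left ?_
      haveI : Group.IsNilpotent R := hR.isNilpotent
      have hfr : N.subgroupOf R ⊔ commutator R = ⊤ := by
        refine map_injective R.subtype_injective ?_
        rw [Subgroup.map_sup, map_subgroupOf_eq_of_le inf_le_left, map_subtype_commutator,
          ← MonoidHom.range_eq_map, range_subtype]
        exact h
      have := frattini_nongenerating (K := N.subgroupOf R) (top_le_iff.mp
        (hfr.ge.trans (sup_le_sup_left
          (Solvable.commutator_le_frattini hR) _)))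
      exact subgroupOf_eq_top.mp this
    have key : ⁅⁅E, B⁆, R⁆ ≤ N' := by
      refine LocalEven48.three_subgroups_le (hinv E hER le_normalizer) (hinv B hBR hBE) hRn ?_ ?_
      · rw [commutator_comm B R]
        exact (commutator_mono (hRBN.trans le_sup_left) le_rfl).trans
          (Coprime.commutator_le_of_le_normalizer (hinv E hER le_normalizer))
      · exact (commutator_mono hDR le_rfl).trans (hRBN.trans le_sup_left)
    rw [hE.2.1, commutator_comm, hD] at key
    exact hN'lt.not_ge key
  · have hlt : Nat.card ↥(⁅R, E⁆ : Subgroup G) < n := by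
      rw [← hn]
      exact lt_of_le_of_ne (card_le_of_le hDR) fun h => hD (eq_of_le_of_card_ge hDR h.ge)
    have hDE : ⁅R, E⁆ ≤ normalizer (E : Set G) := by
      refine ih _ hlt _ rfl (hR.to_le hDR) ?_ ?_ (hDR.trans hRB)
      · exact le_sup_right.trans (Coprime.sup_le_normalizer_commutator R E)
      · exact (le_inf hBR hBE).trans (CharPLocal.inf_normalizer_le_normalizer_commutator R E)
    intro r hr
    refine mem_normalizer_iff_map_conj_eq.mpr (eq_of_le_of_card_ge ?_
      (card_map_of_injective (MulAut.conj r).injective).ge)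
    conv_lhs => rw [← pResOf_block hE]
    rw [LocalStructure.pResOf, MonoidHom.map_closure, closure_le]
    rintro _ ⟨e, ⟨he, hec⟩, rfl⟩
    have hz : zpowers e ≤ E := zpowers_le.mpr he
    have hcop : (Nat.card (zpowers e)).Coprime (Nat.card R) := by
      obtain ⟨k, hk⟩ := IsPGroup.iff_card.mp hR
      rw [Nat.card_zpowers, hk]
      exact hec.pow_right k
    have h1 : ⁅r, e⁆ ∈ E := by
      refine ((?_ : ⁅R, zpowers e⁆ ≤ E)) (commutator_mem_commutator hr (mem_zpowers e))
      rw [← Coprime.commutator_commutator_eq (hz.trans hER) hcop]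
      refine (commutator_mono (commutator_mono le_rfl hz) hz).trans ?_
      rw [commutator_comm]
      exact Coprime.commutator_le_of_le_normalizer hDE
    have := E.mul_mem h1 he
    simpa [commutatorElement_def] using this

end Block

/-! ### Irreducibility of the two modules -/

theorem sl2Section_cases [Finite G] {F : Type*} [Field F] [Fintype F] {E U U₀ X : Subgroup G}
    (h : ActsAsSL2OnSection F (commutator (Matrix.SpecialLinearGroup (Fin 2) F)) E U U₀)
    (hX0 : U₀ ≤ X) (hXU : X ≤ U) (hXn : E ≤ normalizer (X : Set G)) : X = U₀ ∨ X = U := by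
  obtain ⟨-, -, ρ, ψ, hρ, hψ, hker, hact⟩ := h
  set S : Set (Fin 2 → F) :=
    {v | ∃ x : ↥U, (x : G) ∈ X ∧ Multiplicative.toAdd (ψ x) = v} with hS
  have hadd : ∀ v ∈ S, ∀ w ∈ S, v + w ∈ S := by
    rintro _ ⟨x, hx, rfl⟩ _ ⟨y, hy, rfl⟩
    exact ⟨x * y, mul_mem hx hy, by rw [map_mul, toAdd_mul]⟩
  have hneg : ∀ v ∈ S, -v ∈ S := by
    rintro _ ⟨x, hx, rfl⟩
    exact ⟨x⁻¹, inv_mem hx, by rw [map_inv, toAdd_inv]⟩
  have hsub : ∀ v ∈ S, ∀ w ∈ S, v - w ∈ S := fun v hv w hw => by
    rw [sub_eq_add_neg]; exact hadd v hv _ (hneg w hw)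
  have hinv : ∀ g ∈ commutator (Matrix.SpecialLinearGroup (Fin 2) F), ∀ v ∈ S,
      (g : Matrix (Fin 2) (Fin 2) F).mulVec v ∈ S := by
    intro g hg v hv
    obtain ⟨e, rfl⟩ := hρ.ge hg
    obtain ⟨x, hx, rfl⟩ := hv
    obtain ⟨w, hw, hw'⟩ := hact e x
    exact ⟨w, hw ▸ (mem_normalizer_iff.mp (hXn e.2) x).mp hx, hw'⟩
  by_cases hall : ∀ x : ↥U, (x : G) ∈ X → ψ x = 1
  · exact Or.inl (le_antisymm (fun x hx => (hker ⟨x, hXU hx⟩).mp (hall _ hx)) hX0)
  right
  push Not at hall
  obtain ⟨x₀, hx₀, hx₀1⟩ := hall
  suffices hfull : ∀ v : Fin 2 → F, v ∈ S by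
    refine le_antisymm hXU fun y hy => ?_
    obtain ⟨x, hx, hxv⟩ := hfull (Multiplicative.toAdd (ψ ⟨y, hy⟩))
    have hd : ψ (x⁻¹ * ⟨y, hy⟩) = 1 := by
      rw [map_mul, map_inv, Multiplicative.toAdd.injective hxv, inv_mul_cancel]
    have := X.mul_mem hx (hX0 ((hker _).mp hd))
    simpa using this
  set v := Multiplicative.toAdd (ψ x₀) with hv
  have hvS : v ∈ S := ⟨x₀, hx₀, rfl⟩
  have hv0 : v ≠ 0 := fun h => hx₀1 (Multiplicative.toAdd.injective (h.trans toAdd_one.symm))
  let u : F → Matrix.SpecialLinearGroup (Fin 2) F := fun t =>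
    ⟨!![1, t; 0, 1], by simp [Matrix.det_fin_two]⟩
  let l : F → Matrix.SpecialLinearGroup (Fin 2) F := fun t =>
    ⟨!![1, 0; t, 1], by simp [Matrix.det_fin_two]⟩
  have hcomm : ∀ a b : Matrix.SpecialLinearGroup (Fin 2) F,
      ⁅a, b⁆ ∈ commutator (Matrix.SpecialLinearGroup (Fin 2) F) := fun a b =>
    commutator_mem_commutator (mem_top a) (mem_top b)
  by_cases hbig : ∃ a : F, a ≠ 0 ∧ a * a ≠ 1
  · obtain ⟨a, ha, ha2⟩ := hbig
    let d : Matrix.SpecialLinearGroup (Fin 2) F :=
      ⟨!![a, 0; 0, a⁻¹], by simp [Matrix.det_fin_two, ha]⟩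
    have hu : ∀ t, u ((a * a - 1) * t) ∈ commutator (Matrix.SpecialLinearGroup (Fin 2) F) := by
      intro t
      have e : d * u t = u ((a * a - 1) * t) * (u t * d) := by
        apply Subtype.ext
        show !![a, 0; 0, a⁻¹] * !![1, t; 0, 1] =
          !![1, (a * a - 1) * t; 0, 1] * (!![1, t; 0, 1] * !![a, 0; 0, a⁻¹])
        ext i j
        fin_cases i <;> fin_cases j <;>
          simp [Matrix.mul_apply, Fin.sum_univ_two] <;> field_simp <;> ring
      have e2 : ⁅d, u t⁆ = u ((a * a - 1) * t) := by
        rw [commutatorElement_def, e]; group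
      exact e2 ▸ hcomm d (u t)
    have hl : ∀ t, l ((a⁻¹ * a⁻¹ - 1) * t) ∈ commutator (Matrix.SpecialLinearGroup (Fin 2) F) := by
      intro t
      have e : d * l t = l ((a⁻¹ * a⁻¹ - 1) * t) * (l t * d) := by
        apply Subtype.ext
        show !![a, 0; 0, a⁻¹] * !![1, 0; t, 1] =
          !![1, 0; (a⁻¹ * a⁻¹ - 1) * t, 1] * (!![1, 0; t, 1] * !![a, 0; 0, a⁻¹])
        ext i j
        fin_cases i <;> fin_cases j <;>
          simp [Matrix.mul_apply, Fin.sum_univ_two] <;> field_simp <;> ring
      have e2 : ⁅d, l t⁆ = l ((a⁻¹ * a⁻¹ - 1) * t) := by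
        rw [commutatorElement_def, e]; group
      exact e2 ▸ hcomm d (l t)
    have ha2' : a * a - 1 ≠ 0 := sub_ne_zero.mpr ha2
    have ha3 : a⁻¹ * a⁻¹ - 1 ≠ 0 := by
      refine sub_ne_zero.mpr fun h => ha2 ?_
      rw [← mul_inv, inv_eq_one] at h
      exact h
    have h1 : ∀ w ∈ S, ∀ t : F, ![t * w 1, 0] ∈ S := by
      intro w hw t
      have hsd := hsub _ (hinv _ (hu (t / (a * a - 1))) w hw) w hw
      convert hsd using 1
      ext i
      fin_cases i <;>
        simp [u, Matrix.mulVec, dotProduct, Fin.sum_univ_two, mul_div_cancel₀ _ ha2']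
    have h2 : ∀ w ∈ S, ∀ t : F, ![0, t * w 0] ∈ S := by
      intro w hw t
      have hsd := hsub _ (hinv _ (hl (t / (a⁻¹ * a⁻¹ - 1))) w hw) w hw
      convert hsd using 1
      ext i
      fin_cases i <;>
        simp [l, Matrix.mulVec, dotProduct, Fin.sum_univ_two, mul_div_cancel₀ _ ha3]
    obtain ⟨w, hw, hw1⟩ : ∃ w ∈ S, w 1 ≠ 0 := by
      by_cases h : v 1 = 0
      · refine ⟨_, h2 v hvS 1, ?_⟩
        simp only [one_mul, Matrix.cons_val_one, Matrix.cons_val_fin_one]
        intro h0
        exact hv0 (by ext i; fin_cases i <;> assumption)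
      · exact ⟨v, hvS, h⟩
    have hx : ∀ t : F, ![t, 0] ∈ S := fun t => by
      simpa [hw1] using h1 w hw (t / w 1)
    have hy : ∀ t : F, ![0, t] ∈ S := fun t => by
      simpa using h2 _ (hx 1) t
    intro z
    have := hadd _ (hx (z 0)) _ (hy (z 1))
    convert this using 1
    ext i
    fin_cases i <;> simp
  · -- fields with at most three elements
    push Not at hbig
    haveI hF : Fintype F := ‹_›
    have hcast : ∀ c : F, c = 0 ∨ c = 1 ∨ c = -1 := by
      intro c
      by_cases hc : c = 0
      · exact Or.inl hc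
      · exact Or.inr (mul_self_eq_one_iff.mp (hbig c hc))
    have hsmul : ∀ c : F, ∀ w ∈ S, c • w ∈ S := by
      intro c w hw
      rcases hcast c with rfl | rfl | rfl
      · rw [zero_smul, ← sub_self w]; exact hsub w hw w hw
      · rwa [one_smul]
      · rw [neg_smul, one_smul]; exact hneg w hw
    -- the image of `v` under a commutator is independent of `v`
    have hM : ∀ w ∈ S, ![3 * w 0 - w 1, w 0] ∈ S := by
      intro w hw
      convert hinv _ (hcomm (u 1) (l 1)) w hw using 1
      have e : ((⁅u 1, l 1⁆ : Matrix.SpecialLinearGroup (Fin 2) F) :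
          Matrix (Fin 2) (Fin 2) F) = !![3, -1; 1, 0] := by
        rw [commutatorElement_def, Matrix.SpecialLinearGroup.coe_mul,
          Matrix.SpecialLinearGroup.coe_mul, Matrix.SpecialLinearGroup.coe_mul,
          Matrix.SpecialLinearGroup.coe_inv, Matrix.SpecialLinearGroup.coe_inv]
        show !![1, 1; 0, 1] * !![1, 0; 1, 1] * Matrix.adjugate !![(1 : F), 1; 0, 1] *
          Matrix.adjugate !![(1 : F), 0; 1, 1] = _
        rw [Matrix.adjugate_fin_two_of, Matrix.adjugate_fin_two_of]
        ext i j
        fin_cases i <;> fin_cases j <;> simp [Matrix.mul_apply, Fin.sum_univ_two] <;> ring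
      rw [e]
      ext i
      fin_cases i <;> simp [Matrix.mulVec, dotProduct, Fin.sum_univ_two] <;> ring
    have h23 : (2 : F) = 0 ∨ (3 : F) = 0 := by
      rcases hcast 2 with h | h | h
      · exact Or.inl h
      · exfalso
        exact one_ne_zero (α := F) (by linear_combination h)
      · exact Or.inr (by linear_combination h)
    have hdet : v 0 * v 0 - (3 * v 0 - v 1) * v 1 ≠ 0 := by
      intro hd
      apply hv0
      have e0 := hcast (v 0)
      have e1 := hcast (v 1)
      ext i
      fin_cases i <;> simp only [Pi.zero_apply, Fin.zero_eta, Fin.mk_one] <;>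
        rcases h23 with h2 | h3 <;>
        rcases e0 with a0 | a0 | a0 <;> rcases e1 with a1 | a1 | a1 <;>
        rw [a0, a1] at hd <;>
        first
          | exact a0 | exact a1
          | exfalso; exact one_ne_zero (α := F) (by first
              | linear_combination hd
              | linear_combination -hd
              | linear_combination hd + h2
              | linear_combination hd - h2
              | linear_combination hd + 2 * h2
              | linear_combination hd - 2 * h2
              | linear_combination hd + h3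
              | linear_combination hd - h3
              | linear_combination -hd + h3
              | linear_combination -hd - h3
              | linear_combination -hd + 2 * h3
              | linear_combination hd - 2 * h3
              | linear_combination -hd - 2 * h2
              | linear_combination -hd + 2 * h2)
    intro z
    set D := v 0 * v 0 - (3 * v 0 - v 1) * v 1
    have := hadd _ (hsmul ((z 0 * v 0 - (3 * v 0 - v 1) * z 1) / D) _ hvS)
      _ (hsmul ((v 0 * z 1 - z 0 * v 1) / D) _ (hM v hvS))
    convert this using 1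
    ext i
    fin_cases i <;> simp <;> field_simp <;> ring

theorem permSection_cases [Finite G] {n : ℕ} {E U U₀ X : Subgroup G}
    (h : ActsAsOddPermModuleOnSection n (alternatingGroup (Fin n)) E U U₀) (hn : Odd n)
    (hX0 : U₀ ≤ X) (hXU : X ≤ U) (hXn : E ≤ normalizer (X : Set G)) : X = U₀ ∨ X = U := by
  classical
  obtain ⟨-, -, ρ, ψ, hρ, heven, -, hker, hact⟩ := h
  set S : Set (Fin n → ZMod 2) :=
    {v | ∃ x : ↥U, (x : G) ∈ X ∧ Multiplicative.toAdd (ψ x) = v} with hS
  have hadd : ∀ v ∈ S, ∀ w ∈ S, v + w ∈ S := by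
    rintro _ ⟨x, hx, rfl⟩ _ ⟨y, hy, rfl⟩
    exact ⟨x * y, mul_mem hx hy, by rw [map_mul, toAdd_mul]⟩
  have hinv : ∀ g ∈ alternatingGroup (Fin n), ∀ v ∈ S, (fun i => v (g⁻¹ i)) ∈ S := by
    intro g hg v hv
    obtain ⟨e, rfl⟩ := hρ.ge hg
    obtain ⟨x, hx, rfl⟩ := hv
    obtain ⟨w, hw, hw'⟩ := hact e x
    exact ⟨w, hw ▸ (mem_normalizer_iff.mp (hXn e.2) x).mp hx, funext hw'⟩
  by_cases hall : ∀ x : ↥U, (x : G) ∈ X → ψ x = 1
  · exact Or.inl (le_antisymm (fun x hx => (hker ⟨x, hXU hx⟩).mp (hall _ hx)) hX0)
  right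
  push Not at hall
  obtain ⟨x₀, hx₀, hx₀1⟩ := hall
  suffices hfull : ∀ v : Fin n → ZMod 2, ∑ i, v i = 0 → v ∈ S by
    refine le_antisymm hXU fun y hy => ?_
    obtain ⟨x, hx, hxv⟩ := hfull (Multiplicative.toAdd (ψ ⟨y, hy⟩)) (heven _)
    have hd : ψ (x⁻¹ * ⟨y, hy⟩) = 1 := by
      rw [map_mul, map_inv, Multiplicative.toAdd.injective hxv, inv_mul_cancel]
    have := X.mul_mem hx (hX0 ((hker _).mp hd))
    simpa using this
  have hz : (0 : Fin n → ZMod 2) ∈ S := ⟨1, X.one_mem, by rw [map_one, toAdd_one]⟩
  set v := Multiplicative.toAdd (ψ x₀) with hv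
  have hvS : v ∈ S := ⟨x₀, hx₀, rfl⟩
  have hv0 : v ≠ 0 := fun h => hx₀1 (Multiplicative.toAdd.injective (h.trans toAdd_one.symm))
  have h01 : ∀ c : ZMod 2, c ≠ 0 → c = 1 := by decide
  obtain ⟨i, hi⟩ : ∃ i, v i = 1 := by
    obtain ⟨i, hi⟩ := Function.ne_iff.mp hv0
    exact ⟨i, h01 _ hi⟩
  obtain ⟨j, hj⟩ : ∃ j, v j = 0 := by
    by_contra hne
    push Not at hne
    have := heven x₀
    rw [← hv, Finset.sum_congr rfl (fun k _ => h01 _ (hne k)), Finset.sum_const,
      Finset.card_univ, Fintype.card_fin, nsmul_one,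
      (ZMod.natCast_eq_one_iff_odd.mpr hn)] at this
    exact one_ne_zero this
  have hij : i ≠ j := fun h => one_ne_zero (hi.symm.trans (h ▸ hj))
  -- three-cycles
  let σ : Fin n → Fin n → Fin n → Equiv.Perm (Fin n) := fun a b c =>
    Equiv.swap a b * Equiv.swap b c
  have hσ : ∀ a b c : Fin n, a ≠ b → b ≠ c → σ a b c ∈ alternatingGroup (Fin n) := by
    intro a b c hab hbc
    rw [Equiv.Perm.mem_alternatingGroup, map_mul, Equiv.Perm.sign_swap hab,
      Equiv.Perm.sign_swap hbc]
    rfl
  let P : Fin n → Fin n → (Fin n → ZMod 2) := fun a b k =>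
    (if k = a then 1 else 0) + (if k = b then 1 else 0)
  -- one pair
  obtain ⟨a, b, hab, hP⟩ : ∃ a b, a ≠ b ∧ P a b ∈ S := by
    obtain ⟨k, hki, hkj⟩ : ∃ k, k ≠ i ∧ k ≠ j := by
      by_contra hne
      push Not at hne
      have huniv : (Finset.univ : Finset (Fin n)) = {i, j} := by
        ext k
        simp only [Finset.mem_univ, Finset.mem_insert, Finset.mem_singleton, true_iff]
        by_cases h : k = i
        · exact Or.inl h
        · exact Or.inr (hne k h)
      have := congrArg Finset.card huniv
      rw [Finset.card_univ, Fintype.card_fin, Finset.card_pair hij] at this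
      rw [this] at hn
      exact absurd hn (by decide)
    have hg := hadd _ hvS _ (hinv _ (hσ i j k hij hkj.symm) v hvS)
    have h11 : (1 : ZMod 2) + 1 = 0 := by decide
    rcases (em (v k = 0)) with hk | hk
    · refine ⟨i, j, hij, ?_⟩
      convert hg using 1
      funext l
      simp only [P, Pi.add_apply, σ, mul_inv_rev, Equiv.swap_inv, Equiv.Perm.coe_mul,
        Function.comp_apply]
      by_cases hli : l = i
      · subst hli
        rw [Equiv.swap_apply_left, Equiv.swap_apply_left, if_pos rfl, if_neg hij, hi, hk]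
      by_cases hlj : l = j
      · subst hlj
        rw [Equiv.swap_apply_right, Equiv.swap_apply_of_ne_of_ne hij (Ne.symm hki),
          if_pos rfl, if_neg hli, hi, hj]
      by_cases hlk : l = k
      · subst hlk
        rw [Equiv.swap_apply_of_ne_of_ne hli hlj, Equiv.swap_apply_right, if_neg hli, if_neg hlj,
          hk, hj]
      rw [Equiv.swap_apply_of_ne_of_ne hli hlj, Equiv.swap_apply_of_ne_of_ne hlj hlk,
        if_neg hli, if_neg hlj, add_zero, CharTwo.add_self_eq_zero]
    · refine ⟨j, k, hkj.symm, ?_⟩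
      convert hg using 1
      funext l
      simp only [P, Pi.add_apply, σ, mul_inv_rev, Equiv.swap_inv, Equiv.Perm.coe_mul,
        Function.comp_apply]
      by_cases hli : l = i
      · subst hli
        rw [Equiv.swap_apply_left, Equiv.swap_apply_left, if_neg hij, if_neg hki.symm, hi,
          h01 _ hk, add_zero, h11]
      by_cases hlj : l = j
      · subst hlj
        rw [Equiv.swap_apply_right, Equiv.swap_apply_of_ne_of_ne hij (Ne.symm hki),
          if_pos rfl, if_neg hkj.symm, hi, hj, add_zero, zero_add]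
      by_cases hlk : l = k
      · subst hlk
        rw [Equiv.swap_apply_of_ne_of_ne hli hlj, Equiv.swap_apply_right, if_neg hlj, if_pos rfl,
          h01 _ hk, hj, add_zero, zero_add]
      rw [Equiv.swap_apply_of_ne_of_ne hli hlj, Equiv.swap_apply_of_ne_of_ne hlj hlk,
        if_neg hlj, if_neg hlk, add_zero, CharTwo.add_self_eq_zero]
  have hmove : ∀ a b c : Fin n, a ≠ b → c ≠ a → c ≠ b → P a b ∈ S → P c a ∈ S := by
    intro a b c hab hca hcb hP
    -- the cycle `c → b → a → c` sends `{a, b}` to `{c, a}`
    convert hinv _ (hσ b a c hab.symm hca.symm) _ hP using 1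
    funext l
    simp only [P, σ, mul_inv_rev, Equiv.swap_inv, Equiv.Perm.coe_mul, Function.comp_apply]
    by_cases hlc : l = c
    · subst hlc
      rw [Equiv.swap_apply_of_ne_of_ne hcb hca, Equiv.swap_apply_right]
      simp [hab, hca]
    by_cases hla : l = a
    · subst hla
      rw [Equiv.swap_apply_right, Equiv.swap_apply_of_ne_of_ne hab.symm hcb.symm]
      simp [hab.symm, hlc]
    by_cases hlb : l = b
    · subst hlb
      rw [Equiv.swap_apply_left, Equiv.swap_apply_left]
      simp [hca, hcb, hlc, hla]
    rw [Equiv.swap_apply_of_ne_of_ne hlb hla, Equiv.swap_apply_of_ne_of_ne hla hlc]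
    simp [hlc, hla, hlb]
  have hsymm : ∀ a b, P a b = P b a := fun a b => funext fun k => add_comm _ _
  have hto : ∀ c, c ≠ a → P c a ∈ S := by
    intro c hc
    by_cases hcb : c = b
    · subst hcb; rw [hsymm]; exact hP
    · exact hmove a b c hab hc hcb hP
  intro w hw
  have hws : w = ∑ c ∈ Finset.univ.filter (fun c => c ≠ a ∧ w c = 1), P c a := by
    funext l
    rw [Finset.sum_apply]
    simp only [P, Finset.sum_add_distrib]
    by_cases hla : l = a
    · subst hla
      rw [Finset.sum_ite_eq]
      simp only [Finset.mem_filter, ne_eq, not_true_eq_false, false_and, and_false, if_false,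
        zero_add, if_true, Finset.sum_const, nsmul_one]
      rw [← Finset.sum_erase_add _ _ (Finset.mem_univ l)] at hw
      have e : ∑ k ∈ Finset.univ.erase l, w k =
          ((Finset.univ.filter fun c => c ≠ l ∧ w c = 1).card : ZMod 2) := by
        rw [← nsmul_one, ← Finset.sum_const, Finset.sum_filter]
        refine Finset.sum_congr_of_eq_on_inter ?_ ?_ ?_
        · intro k hk hk'; simp at hk'
        · intro k _ hk
          have : k = l := by simpa using hk
          simp [this]
        · intro k hk _
          simp only [Finset.mem_erase] at hk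
          by_cases h : w k = 0
          · simp [h]
          · simp [h01 _ h, hk.1]
      rw [← e]
      linear_combination (norm := ring_nf) hw
      simp [show (2 : ZMod 2) = 0 from rfl]
    · rw [Finset.sum_ite_eq]
      simp only [Finset.mem_filter, Finset.mem_univ, true_and, hla, if_false,
        Finset.sum_const_zero, add_zero, ne_eq, not_false_eq_true]
      by_cases h : w l = 1
      · simp [h]
      · rw [if_neg h]
        by_contra h'
        exact h (h01 _ h')
  rw [hws]
  exact Finset.sum_induction _ (fun v => v ∈ S) (fun a b ha hb => hadd a ha b hb) hz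
    fun c hc => hto c (Finset.mem_filter.mp hc).2.1

section Module

variable [Finite G] [Fact p.Prime]

/-- For a block `E` of a group of characteristic `p`, with `V = Ω₁(Z(O_p(G)))`: `[V, E]` lies in
`W = Ω₁(Z(O_p(E)))`, is not centralised by `E`, and generates `W` modulo `C_W(E)`. -/
theorem block_module (hG : centralizer (pCore p G : Set G) ≤ pCore p G) (T : Sylow p G)
    {E : Subgroup G} (hE : IsBaumannBlock p (T : Subgroup G) E) :
    pCore p G ≤ normalizer (E : Set G) ∧
    ⁅omegaOneCenter p (pCore p G), E⁆ ≤ omegaOneCenter p (pCoreOf p E) ∧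
    ⁅⁅omegaOneCenter p (pCore p G), E⁆, E⁆ ≠ ⊥ ∧
    omegaOneCenter p (pCoreOf p E) = ⁅omegaOneCenter p (pCore p G), E⁆ ⊔
      (omegaOneCenter p (pCoreOf p E) ⊓ centralizer (E : Set G)) := by
  haveI := LocalStructure.pCore_normal (p := p) (G := G)
  set R := pCore p G with hR
  set V := omegaOneCenter p R
  set W := omegaOneCenter p (pCoreOf p E)
  set Z := W ⊓ centralizer (E : Set G)
  have hRT : R ≤ T := PLocal.pCore_le_sylow T
  have hnR : ∀ X : Subgroup G, X ≤ normalizer (R : Set G) := fun X => by
    rw [normalizer_eq_top]; exact le_top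
  have hRp : IsPGroup p R := LocalStructure.pCore_isPGroup
  have hREn : R ≤ normalizer (E : Set G) :=
    le_normalizer_block hE _ R rfl hRp (hnR _) (hnR _)
      ((hRT.trans le_normalizer).trans (normalizer_le_normalizer_baumann _))
  have hEV : E ≤ normalizer (V : Set G) := (hnR _).trans (normalizer_le_normalizer_omegaOneCenter R)
  set U := ⁅V, E⁆
  have hUV : U ≤ V := Coprime.commutator_le_of_le_normalizer hEV
  have hUE : U ≤ E := by
    refine (commutator_mono (omegaOneCenter_le R) le_rfl).trans ?_
    rw [commutator_comm]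
    exact Coprime.commutator_le_of_le_normalizer hREn
  have hEU : E ≤ normalizer (U : Set G) :=
    le_sup_right.trans (Coprime.sup_le_normalizer_commutator V E)
  have hVp : IsPGroup p V := PLocal.isPGroup_of_isElementaryAbelian
    (isElementaryAbelian_omegaOneCenter R)
  have hUQ : U ≤ pCoreOf p E := LocalStructure.le_pCoreOf hUE hEU (hVp.to_le hUV)
  have hUel : IsElementaryAbelian p U :=
    PLocal.isElementaryAbelian_of_le (isElementaryAbelian_omegaOneCenter R) hUV
  have hUc : U ≤ centralizer (U : Set G) := le_centralizer_iff_isMulCommutative.mpr hUel.1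
  -- `[U, E] ≠ 1`
  have hZT : omegaOneCenter p (T : Subgroup G) ≤ V := by
    refine PLocal.omegaOne_mono (le_inf ?_ (inf_le_right.trans (centralizer_le hRT)))
    exact (inf_le_right.trans (centralizer_le hRT)).trans hG
  have hUne : ⁅U, E⁆ ≠ ⊥ := by
    intro h
    apply hE.2.2.2.1
    rw [commutator_comm]
    exact le_bot_iff.mp ((commutator_mono hZT le_rfl).trans
      (commutator_eq_bot_of_twice hVp (pResOf_block hE) hEV h).le)
  have hWQ : W ≤ pCoreOf p E := omegaOneCenter_le _
  have hEQ : E ≤ normalizer (pCoreOf p E : Set G) := LocalStructure.le_normalizer_pCoreOf E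
  have hEW : E ≤ normalizer (W : Set G) :=
    hEQ.trans (normalizer_le_normalizer_omegaOneCenter _)
  have hZW : Z ≤ W := inf_le_left
  have hEZ : E ≤ normalizer (Z : Set G) :=
    (le_centralizer_iff.mp (inf_le_right : Z ≤ _)).trans (centralizer_le_normalizer _)
  have hUW : U ≤ W := by
    rcases hE.2.2.2.2 with ⟨F, _, _, n, hn, -, -, hlin | ⟨rfl, hsec, hQQ, -, hZE, hcard, -⟩⟩ |
      ⟨-, m, -, -, hlin⟩
    · exact hUQ.trans hlin.le
    · have hWUQ : W ⊔ U ≤ pCoreOf 3 E := sup_le hWQ hUQ
      rcases sl2Section_cases hsec le_sup_left hWUQ (LocalEven48.le_normalizer_sup hEW hEU) with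
        h | h
      · exact le_sup_right.trans h.le
      · exfalso
        have hab : ⁅pCoreOf 3 E, pCoreOf 3 E⁆ = ⊥ := by
          rw [commutator_eq_bot_iff_le_centralizer, le_centralizer_iff_isMulCommutative]
          conv => rw [← h]
          refine PLocal.isMulCommutative_sup (isElementaryAbelian_omegaOneCenter _).1 hUel.1 ?_
          exact (omegaOneCenter_le_centralizer _).trans (centralizer_le hUQ)
        have hn0 : n ≠ 0 := by
          rintro rfl
          have := Fintype.one_lt_card (α := F)
          rw [hn, pow_zero] at this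
          exact lt_irrefl 1 this
        have h1 := hQQ.symm.trans hab
        rw [hZE, h1, card_bot] at hcard
        exact absurd hcard.symm (Nat.one_lt_pow hn0 (by norm_num)).ne'
    · exact hUQ.trans hlin.le
  refine ⟨hREn, hUW, hUne, ?_⟩
  have hcase : U ⊔ Z = Z ∨ U ⊔ Z = W := by
    rcases hE.2.2.2.2 with ⟨F, _, _, n, -, -, hsec, -⟩ | ⟨-, m, -, hsec, -⟩
    · exact sl2Section_cases hsec le_sup_right (sup_le hUW hZW)
        (LocalEven48.le_normalizer_sup hEU hEZ)
    · exact permSection_cases hsec ⟨m, rfl⟩ le_sup_right (sup_le hUW hZW)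
        (LocalEven48.le_normalizer_sup hEU hEZ)
  rcases hcase with h | h
  · refine absurd ?_ hUne
    rw [commutator_eq_bot_iff_le_centralizer]
    exact le_sup_left.trans (h.le.trans inf_le_right)
  · exact h.symm

end Module

end CfsgLib.LocalEven50
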