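import Cfsg.Agent.Linear.Basic

/-!
# A Sylow subgroup of `PSL₂(q)` in the defining characteristic

It has order `q`, and together with any of its nontrivial elements an opposite one generates the
whole group.
-/

namespace CfsgLib.LocalEven50

open Subgroup
open scoped MatrixGroups

variable (F : Type*) [Field F]

/-- `t ↦ [[1, t], [0, 1]]`. -/
def upperHom : Multiplicative F →* SL(2, F) where
  toFun t := ⟨!![1, t.toAdd; 0, 1], by simp [Matrix.det_fin_two]⟩
  map_one' := by
    apply Subtype.ext; ext i j; fin_cases i <;> fin_cases j <;> simp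
  map_mul' s t := by
    apply Subtype.ext
    show _ = !![1, s.toAdd; 0, 1] * !![1, t.toAdd; 0, 1]
    ext i j; fin_cases i <;> fin_cases j <;> simp [Matrix.mul_apply, Fin.sum_univ_two, add_comm]

/-- `t ↦ [[1, 0], [t, 1]]`. -/
def lowerHom : Multiplicative F →* SL(2, F) where
  toFun t := ⟨!![1, 0; t.toAdd, 1], by simp [Matrix.det_fin_two]⟩
  map_one' := by
    apply Subtype.ext; ext i j; fin_cases i <;> fin_cases j <;> simp
  map_mul' s t := by
    apply Subtype.ext
    show _ = !![1, 0; s.toAdd, 1] * !![1, 0; t.toAdd, 1]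
    ext i j; fin_cases i <;> fin_cases j <;> simp [Matrix.mul_apply, Fin.sum_univ_two]

theorem closure_upper_lower (K : Subgroup SL(2, F)) (hu : ∀ t, upperHom F t ∈ K)
    (hl : ∀ t, lowerHom F t ∈ K) (g : SL(2, F)) : g ∈ K := by
  have key : ∀ g : SL(2, F), (g : Matrix (Fin 2) (Fin 2) F) 1 0 ≠ 0 → g ∈ K := by
    intro g hc
    set a := (g : Matrix (Fin 2) (Fin 2) F) 0 0
    set b := (g : Matrix (Fin 2) (Fin 2) F) 0 1
    set c := (g : Matrix (Fin 2) (Fin 2) F) 1 0
    set d := (g : Matrix (Fin 2) (Fin 2) F) 1 1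
    have hdet : a * d - b * c = 1 := by
      have := g.2
      rwa [Matrix.det_fin_two] at this
    have e : g = upperHom F (.ofAdd ((a - 1) / c)) * lowerHom F (.ofAdd c) *
        upperHom F (.ofAdd ((d - 1) / c)) := by
      apply Subtype.ext
      show (g : Matrix (Fin 2) (Fin 2) F) =
        !![1, (a - 1) / c; 0, 1] * !![1, 0; c, 1] * !![1, (d - 1) / c; 0, 1]
      ext i j
      fin_cases i <;> fin_cases j <;> simp [Matrix.mul_apply, Fin.sum_univ_two]
      all_goals try field_simp
      all_goals first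
        | ring1
        | linear_combination hdet
        | linear_combination -hdet
    rw [e]
    exact mul_mem (mul_mem (hu _) (hl _)) (hu _)
  by_cases hc : (g : Matrix (Fin 2) (Fin 2) F) 1 0 = 0
  · have hd : (g : Matrix (Fin 2) (Fin 2) F) 1 1 ≠ 0 := by
      intro hd
      have := g.2
      rw [Matrix.det_fin_two, hc, hd] at this
      simp at this
    have h := key (g * lowerHom F (.ofAdd 1)) (by
      show (HMul.hMul (g : Matrix (Fin 2) (Fin 2) F) (!![1, 0; 1, 1] : Matrix (Fin 2) (Fin 2) F)) 1 0 ≠ 0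
      simp [Matrix.mul_apply, Fin.sum_univ_two, hc, hd])
    have h2 := mul_mem h (inv_mem (hl (.ofAdd 1)))
    rwa [mul_inv_cancel_right] at h2
  · exact key g hc

/-- A nontrivial upper and all lower transvections generate. -/
theorem closure_single_upper (K : Subgroup SL(2, F)) {t : F} (ht : t ≠ 0)
    (hu : upperHom F (.ofAdd t) ∈ K) (hl : ∀ s, lowerHom F s ∈ K) : K = ⊤ := by
  refine eq_top_iff.mpr fun g _ => closure_upper_lower F K (fun s => ?_) hl g
  set w := upperHom F (.ofAdd t) * lowerHom F (.ofAdd (-t⁻¹)) * upperHom F (.ofAdd t)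
  have hw : w ∈ K := mul_mem (mul_mem hu (hl _)) hu
  have e : upperHom F s * w = w * lowerHom F (.ofAdd (-(s.toAdd) / (t * t))) := by
    apply Subtype.ext
    show !![1, s.toAdd; 0, 1] * (!![1, t; 0, 1] * !![1, 0; -t⁻¹, 1] * !![1, t; 0, 1]) =
      !![1, t; 0, 1] * !![1, 0; -t⁻¹, 1] * !![1, t; 0, 1] *
        !![1, 0; -(s.toAdd) / (t * t), 1]
    ext i j
    fin_cases i <;> fin_cases j <;>
      simp [Matrix.mul_apply, Fin.sum_univ_two, -toAdd_eq_zero, -mul_eq_zero]
    all_goals try field_simp
    all_goals ring_nf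
  have h := mul_mem (mul_mem hw (hl (.ofAdd (-(s.toAdd) / (t * t))))) (inv_mem hw)
  rwa [← e, mul_inv_cancel_right] at h

/-- The Sylow subgroup of unitriangular matrices of `PSL₂(q)`. -/
theorem psl2_sylow_generation [Fintype F] {p n : ℕ} [Fact p.Prime] (hF : Fintype.card F = p ^ n) :
    ∃ (P : Sylow p (Matrix.ProjectiveSpecialLinearGroup (Fin 2) F))
      (c : Matrix.ProjectiveSpecialLinearGroup (Fin 2) F),
      Nat.card (P : Subgroup (Matrix.ProjectiveSpecialLinearGroup (Fin 2) F)) = Fintype.card F ∧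
      (∀ x ∈ (P : Subgroup (Matrix.ProjectiveSpecialLinearGroup (Fin 2) F)), x ≠ 1 →
        zpowers x ⊔ (P : Subgroup (Matrix.ProjectiveSpecialLinearGroup (Fin 2) F)).map (MulAut.conj c).toMonoidHom = ⊤) := by
  classical
  let π : SL(2, F) →* Matrix.ProjectiveSpecialLinearGroup (Fin 2) F :=
    QuotientGroup.mk' (center (Matrix.SpecialLinearGroup (Fin 2) F))
  set f := π.comp (upperHom F) with hf
  have hinj : Function.Injective f := by
    rw [injective_iff_map_eq_one]
    intro t ht
    have hc : upperHom F t ∈ center (Matrix.SpecialLinearGroup (Fin 2) F) :=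
      (QuotientGroup.eq_one_iff _).mp ht
    have h0 : (!![1, 0; 1, 1] : Matrix (Fin 2) (Fin 2) F) * !![1, t.toAdd; 0, 1] =
        !![1, t.toAdd; 0, 1] * !![1, 0; 1, 1] :=
      congrArg Subtype.val (mem_center_iff.mp hc (lowerHom F (.ofAdd 1)))
    have h := congrFun (congrFun h0 0) 0
    simp [Matrix.mul_apply, Fin.sum_univ_two] at h
    exact h
  have hcard : Nat.card f.range = Fintype.card F := by
    rw [Nat.card_congr (MonoidHom.ofInjective hinj).toEquiv.symm, ← Nat.card_eq_fintype_card]
    exact Nat.card_congr Multiplicative.toAdd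
  have hp : IsPGroup p f.range := IsPGroup.of_card (n := n) (hcard.trans hF)
  have hn : n ≠ 0 := by
    rintro rfl
    have := Fintype.one_lt_card (α := F)
    rw [hF, pow_zero] at this
    exact lt_irrefl 1 this
  have hpr := (Fact.out : p.Prime)
  have hidx : ¬ p ∣ f.range.index := by
    intro hd
    have h1 := card_mul_index f.range
    have h2 := Linear.card_PSL_two_mul (F := F)
    have h3 : p ^ n * p ∣ p ^ n * (Fintype.card F ^ 2 - 1) := by
      have h4 : p ^ n * p ∣ Nat.card (Matrix.ProjectiveSpecialLinearGroup (Fin 2) F) := by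
        rw [← h1, hcard, hF]; exact Nat.mul_dvd_mul_left _ hd
      have h5 := h4.mul_left (Nat.gcd 2 (Fintype.card F - 1))
      rw [h2, hF] at h5
      rwa [hF]
    have h6 := (Nat.mul_dvd_mul_iff_left (pow_pos hpr.pos n)).mp h3
    have h7 : p ∣ Fintype.card F ^ 2 := by
      rw [hF]; exact (dvd_pow_self p hn).trans (dvd_pow_self _ two_ne_zero)
    have h8 : 1 ≤ Fintype.card F ^ 2 := Nat.one_le_pow _ _ Fintype.card_pos
    exact hpr.one_lt.ne' (Nat.dvd_one.mp ((Nat.dvd_add_right h6).mp
      (by rwa [Nat.sub_add_cancel h8])))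
  let w : SL(2, F) := ⟨!![0, 1; -1, 0], by simp [Matrix.det_fin_two]⟩
  refine ⟨hp.toSylow hidx, π w, hcard, ?_⟩
  rintro x ⟨t, rfl⟩ hx
  have ht : t.toAdd ≠ 0 := fun h => hx (by
    rw [show t = 1 from Multiplicative.toAdd.injective h, map_one])
  set X := zpowers (f t) ⊔ f.range.map (MulAut.conj (π w)).toMonoidHom
  show X = ⊤
  have hK : X.comap π = ⊤ := by
    refine closure_single_upper F _ ht ?_ (fun s => ?_)
    · exact mem_sup_left (mem_zpowers (f t))
    · refine mem_sup_right ⟨f (s⁻¹), ⟨s⁻¹, rfl⟩, ?_⟩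
      have e : w * upperHom F s⁻¹ = lowerHom F s * w := by
        apply Subtype.ext
        show !![0, 1; -1, 0] * !![1, -(s.toAdd); 0, 1] =
          !![1, 0; s.toAdd, 1] * !![0, 1; -1, 0]
        ext i j
        fin_cases i <;> fin_cases j <;> simp [Matrix.mul_apply, Fin.sum_univ_two]
      show π w * π (upperHom F s⁻¹) * (π w)⁻¹ = π (lowerHom F s)
      rw [← map_mul, e, map_mul, mul_inv_cancel_right]
  have h := map_comap_eq_self_of_surjective (QuotientGroup.mk'_surjective _ :
    Function.Surjective π) X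
  rw [← h, hK, map_top_of_surjective π (QuotientGroup.mk'_surjective _)]

end CfsgLib.LocalEven50
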