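import Mathlib.GroupTheory.Nilpotent
import Mathlib.Algebra.Group.Subgroup.Pointwise
import Cfsg.Prelude.Def_BaumannBlocks
import Cfsg.Prelude.Def_PLocal
import Cfsg.Agent.LocalEvenBasic.CardLattice

/-!
# Subgroups of largest measure and centrally large subgroups

The top of the Chermak–Delgado lattice of a finite group: the subgroups `R` with `|R| |C(R)|`
largest.  The centrally large subgroups are exactly those members `R` with `C(R) ≤ R`.
-/

namespace CfsgLib.LocalEven50

open Subgroup Cfsg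
open scoped Pointwise

variable {G : Type*} [Group G]

theorem centralizer_sup_eq (H K : Subgroup G) :
    centralizer ((H ⊔ K : Subgroup G) : Set G) =
      centralizer (H : Set G) ⊓ centralizer (K : Set G) :=
  le_antisymm (le_inf (centralizer_le (le_sup_left (a := H) (b := K)))
      (centralizer_le (le_sup_right (a := H) (b := K))))
    (le_centralizer_iff.mp
      (sup_le (le_centralizer_iff.mp inf_le_left) (le_centralizer_iff.mp inf_le_right)))

theorem le_centralizer_centralizer (H : Subgroup G) :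
    H ≤ centralizer ((centralizer (H : Set G) : Subgroup G) : Set G) :=
  le_centralizer_iff.mp le_rfl

theorem sup_centralizer_le_centralizer_inf (H K : Subgroup G) :
    centralizer (H : Set G) ⊔ centralizer (K : Set G) ≤
      centralizer ((H ⊓ K : Subgroup G) : Set G) :=
  sup_le (centralizer_le (inf_le_left (a := H) (b := K)))
    (centralizer_le (inf_le_right (a := H) (b := K)))

theorem coe_sup_swap {H K : Subgroup G}
    (h : ((H ⊔ K : Subgroup G) : Set G) = (H : Set G) * (K : Set G)) :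
    ((K ⊔ H : Subgroup G) : Set G) = (K : Set G) * (H : Set G) := by
  rw [sup_comm]
  ext x
  constructor
  · intro hx
    obtain ⟨a, ha, b, hb, hab⟩ := h.le (inv_mem hx : x⁻¹ ∈ H ⊔ K)
    simp only at hab
    exact ⟨b⁻¹, inv_mem hb, a⁻¹, inv_mem ha, by simp only; rw [← mul_inv_rev, hab, inv_inv]⟩
  · rintro ⟨k, hk, a, ha, rfl⟩
    exact mul_mem (mem_sup_right hk) (mem_sup_left ha)

/-- The product formula: if `|H| |K| = |H ∩ K| |H ⊔ K|`, then `H ⊔ K = H K`. -/
theorem coe_sup_eq_mul_of_card [Finite G] (H K : Subgroup G)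
    (h : Nat.card H * Nat.card K = Nat.card ↥(H ⊓ K) * Nat.card ↥(H ⊔ K)) :
    ((H ⊔ K : Subgroup G) : Set G) = (H : Set G) * (K : Set G) := by
  classical
  have h2 : Nat.card ↥(H ⊓ K) * K.relIndex H = Nat.card H := by
    rw [← inf_relIndex_right K H, inf_comm H K]
    exact LocalEvenBasic.card_mul_relIndex_of_le _ _ inf_le_right
  let f : (↥H ⧸ K.subgroupOf H) × ↥K → ↥(H ⊔ K) := fun x =>
    ⟨(x.1.out : G) * x.2, mul_mem (mem_sup_left x.1.out.2) (mem_sup_right x.2.2)⟩
  have hf : Function.Injective f := by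
    rintro ⟨q, k⟩ ⟨q', k'⟩ he
    have he' : (q.out : G) * k = q'.out * k' := congrArg Subtype.val he
    have h1 : (q.out : G)⁻¹ * q'.out = (k : G) * (k' : G)⁻¹ := by
      rw [eq_mul_inv_iff_mul_eq, mul_assoc, ← he', inv_mul_cancel_left]
    have hq : q = q' := by
      rw [← QuotientGroup.out_eq' q, ← QuotientGroup.out_eq' q', QuotientGroup.eq,
        mem_subgroupOf]
      simp only [coe_mul, coe_inv]
      rw [h1]
      exact mul_mem k.2 (inv_mem k'.2)
    subst hq
    exact Prod.ext rfl (Subtype.ext (mul_left_cancel he'))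
  have hc : Nat.card ((↥H ⧸ K.subgroupOf H) × ↥K) = Nat.card ↥(H ⊔ K) := by
    rw [Nat.card_prod]
    refine Nat.eq_of_mul_eq_mul_left (Nat.card_pos : 0 < Nat.card ↥(H ⊓ K)) ?_
    rw [← h, ← mul_assoc]
    exact congrArg (· * Nat.card K) h2
  ext x
  constructor
  · intro hx
    obtain ⟨⟨q, k⟩, hqk⟩ := ((Nat.bijective_iff_injective_and_card f).mpr ⟨hf, hc⟩).2 ⟨x, hx⟩
    exact ⟨q.out, q.out.2, k, k.2, congrArg Subtype.val hqk⟩
  · rintro ⟨a, ha, k, hk, rfl⟩
    exact mul_mem (mem_sup_left ha) (mem_sup_right hk)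

/-- The converse of `coe_sup_eq_mul_of_card`. -/
theorem card_sup_mul_card_inf_of_coe [Finite G] (H K : Subgroup G)
    (h : ((H ⊔ K : Subgroup G) : Set G) = (H : Set G) * (K : Set G)) :
    Nat.card ↥(H ⊔ K) * Nat.card ↥(H ⊓ K) = Nat.card H * Nat.card K := by
  classical
  refine le_antisymm ?_ ((LocalEvenBasic.card_mul_le_inf_mul_sup H K).trans_eq (mul_comm _ _))
  have h2 : Nat.card ↥(H ⊓ K) * K.relIndex H = Nat.card H := by
    rw [← inf_relIndex_right K H, inf_comm H K]
    exact LocalEvenBasic.card_mul_relIndex_of_le _ _ inf_le_right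
  let f : (↥H ⧸ K.subgroupOf H) × ↥K → ↥(H ⊔ K) := fun x =>
    ⟨(x.1.out : G) * x.2, mul_mem (mem_sup_left x.1.out.2) (mem_sup_right x.2.2)⟩
  have hf : Function.Surjective f := by
    rintro ⟨x, hx⟩
    obtain ⟨a, ha, k, hk, rfl⟩ := h.le hx
    obtain ⟨l, hl⟩ := QuotientGroup.mk_out_eq_mul (K.subgroupOf H) ⟨a, ha⟩
    refine ⟨⟨QuotientGroup.mk (⟨a, ha⟩ : H), ⟨((l : H) : G)⁻¹ * k,
      mul_mem (inv_mem (mem_subgroupOf.mp l.2)) hk⟩⟩, Subtype.ext ?_⟩
    show ((QuotientGroup.mk (⟨a, ha⟩ : H)).out : G) * _ = _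
    rw [hl]
    simp [mul_assoc]
  have h3 := Nat.card_le_card_of_surjective f hf
  rw [Nat.card_prod] at h3
  calc Nat.card ↥(H ⊔ K) * Nat.card ↥(H ⊓ K)
      ≤ K.relIndex H * Nat.card K * Nat.card ↥(H ⊓ K) := Nat.mul_le_mul_right _ h3
    _ = Nat.card H * Nat.card K := by rw [← h2]; ring

theorem card_center_subgroup (R : Subgroup G) :
    Nat.card (center ↥R) = Nat.card ↥(R ⊓ centralizer (R : Set G)) := by
  rw [← card_map_of_injective (f := R.subtype) R.subtype_injective]
  congr 2
  ext x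
  constructor
  · rintro ⟨z, hz, rfl⟩
    exact ⟨z.2, mem_centralizer_iff.mpr fun r hr =>
      congrArg Subtype.val (mem_center_iff.mp hz ⟨r, hr⟩)⟩
  · rintro ⟨hx, hx'⟩
    exact ⟨⟨x, hx⟩, mem_center_iff.mpr fun r =>
      Subtype.ext (mem_centralizer_iff.mp hx' r r.2), rfl⟩

section Finite

variable [Finite G]

theorem le_maxCentralizerProduct (R : Subgroup G) :
    Nat.card R * Nat.card (centralizer (R : Set G)) ≤ maxCentralizerProduct G :=
  le_csSup (Set.finite_range fun R : Subgroup G =>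
    Nat.card R * Nat.card (centralizer (R : Set G))).bddAbove ⟨R, rfl⟩

theorem exists_isCentralizerLarge : ∃ R : Subgroup G, IsCentralizerLarge R :=
  Nat.sSup_mem (Set.range_nonempty fun R : Subgroup G =>
    Nat.card R * Nat.card (centralizer (R : Set G))) (Set.finite_range _).bddAbove

theorem le_maxCentralProduct (R : Subgroup G) :
    Nat.card R * Nat.card (center ↥R) ≤ maxCentralProduct G :=
  le_csSup (Set.finite_range fun R : Subgroup G =>
    Nat.card R * Nat.card (center ↥R)).bddAbove ⟨R, rfl⟩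

theorem isCentralizerLarge_of_ge {R : Subgroup G}
    (h : maxCentralizerProduct G ≤ Nat.card R * Nat.card (centralizer (R : Set G))) :
    IsCentralizerLarge R :=
  le_antisymm (le_maxCentralizerProduct R) h

theorem large_centralizer {Q : Subgroup G} (hQ : IsCentralizerLarge Q) :
    IsCentralizerLarge (centralizer (Q : Set G)) ∧
      centralizer ((centralizer (Q : Set G) : Subgroup G) : Set G) = Q := by
  set C := centralizer (Q : Set G)
  have h1 : Nat.card C * Nat.card Q ≤ Nat.card C * Nat.card (centralizer (C : Set G)) :=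
    Nat.mul_le_mul_left _ (card_le_of_le (le_centralizer_centralizer Q))
  have h2 : Nat.card C * Nat.card Q = maxCentralizerProduct G := (mul_comm _ _).trans hQ
  have h3 := le_maxCentralizerProduct C
  refine ⟨le_antisymm h3 (h2 ▸ h1), (eq_of_le_of_card_ge (le_centralizer_centralizer Q) ?_).symm⟩
  exact Nat.le_of_mul_le_mul_left (h3.trans h2.ge) Nat.card_pos

/-- The Chermak–Delgado argument. -/
theorem large_sup_inf {Q R : Subgroup G} (hQ : IsCentralizerLarge Q) (hR : IsCentralizerLarge R) :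
    ((Q ⊔ R : Subgroup G) : Set G) = (Q : Set G) * (R : Set G) ∧
    IsCentralizerLarge (Q ⊔ R) ∧ IsCentralizerLarge (Q ⊓ R) ∧
    ((centralizer (Q : Set G) ⊔ centralizer (R : Set G) : Subgroup G) : Set G) =
      (centralizer (Q : Set G) : Set G) * (centralizer (R : Set G) : Set G) ∧
    centralizer ((Q ⊓ R : Subgroup G) : Set G) =
      centralizer (Q : Set G) ⊔ centralizer (R : Set G) := by
  have i1 := LocalEvenBasic.card_mul_le_inf_mul_sup Q R
  have i2 := LocalEvenBasic.card_mul_le_inf_mul_sup (centralizer (Q : Set G))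
    (centralizer (R : Set G))
  rw [← centralizer_sup_eq] at i2
  have i3 := card_le_of_le (sup_centralizer_le_centralizer_inf Q R)
  have i4 := le_maxCentralizerProduct (Q ⊔ R)
  have i5 := le_maxCentralizerProduct (Q ⊓ R)
  have hQ' : _ = maxCentralizerProduct G := hQ
  have hR' : _ = maxCentralizerProduct G := hR
  have hbp : 0 < Nat.card ↥(Q ⊓ R) := Nat.card_pos
  have hap : 0 < Nat.card ↥(Q ⊔ R) := Nat.card_pos
  have hcp : 0 < Nat.card (centralizer ((Q ⊔ R : Subgroup G) : Set G)) := Nat.card_pos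
  have hdp : 0 < Nat.card (centralizer ((Q ⊓ R : Subgroup G) : Set G)) := Nat.card_pos
  have hep : 0 < Nat.card ↥(centralizer (Q : Set G) ⊔ centralizer (R : Set G)) := Nat.card_pos
  have hMp : 0 < maxCentralizerProduct G := hQ' ▸ Nat.mul_pos Nat.card_pos Nat.card_pos
  set M := maxCentralizerProduct G
  set A := Nat.card ↥(Q ⊔ R)
  set B := Nat.card ↥(Q ⊓ R)
  set c := Nat.card (centralizer ((Q ⊔ R : Subgroup G) : Set G))
  set d := Nat.card (centralizer ((Q ⊓ R : Subgroup G) : Set G))
  set e := Nat.card ↥(centralizer (Q : Set G) ⊔ centralizer (R : Set G))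
  set q := Nat.card Q
  set r := Nat.card R
  set a := Nat.card (centralizer (Q : Set G))
  set b := Nat.card (centralizer (R : Set G))
  have k0 : M * M = (q * r) * (a * b) := by
    calc M * M = (q * a) * (r * b) := by rw [hQ', hR']
      _ = (q * r) * (a * b) := by ring
  have k1 : (q * r) * (a * b) ≤ (B * A) * (c * e) := Nat.mul_le_mul i1 i2
  have k2 : (B * A) * (c * e) ≤ (B * A) * (c * d) :=
    Nat.mul_le_mul_left _ (Nat.mul_le_mul_left _ i3)
  have k3 : (B * A) * (c * d) = (A * c) * (B * d) := by ring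
  have e4 : A * c = M := by
    refine le_antisymm i4 (not_lt.mp fun hl => ?_)
    have := Nat.mul_lt_mul_of_lt_of_le hl i5 hMp
    omega
  have e5 : B * d = M := by
    refine le_antisymm i5 (not_lt.mp fun hl => ?_)
    have := Nat.mul_lt_mul_of_le_of_lt i4 hl hMp
    omega
  have e45 : (A * c) * (B * d) = M * M := by rw [e4, e5]
  have e1 : q * r = B * A := by
    refine le_antisymm i1 (not_lt.mp fun hl => ?_)
    have := Nat.mul_lt_mul_of_lt_of_le hl i2 (Nat.mul_pos hcp hep)
    omega
  have e2 : a * b = c * e := by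
    refine le_antisymm i2 (not_lt.mp fun hl => ?_)
    have := Nat.mul_lt_mul_of_le_of_lt i1 hl (Nat.mul_pos hbp hap)
    omega
  have e3 : e = d := by
    refine le_antisymm i3 (not_lt.mp fun hl => ?_)
    have := Nat.mul_lt_mul_of_le_of_lt (le_refl (B * A)) (Nat.mul_lt_mul_of_pos_left hl hcp)
      (Nat.mul_pos hbp hap)
    omega
  refine ⟨coe_sup_eq_mul_of_card Q R e1, e4, e5, coe_sup_eq_mul_of_card _ _ ?_,
    (eq_of_le_of_card_ge (sup_centralizer_le_centralizer_inf Q R) e3.ge).symm⟩
  rw [← centralizer_sup_eq]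
  exact e2

/-- `f(G) = f₁(G)`. -/
theorem maxCentralProduct_eq : maxCentralProduct G = maxCentralizerProduct G := by
  apply le_antisymm
  · refine csSup_le ⟨_, ⊥, rfl⟩ ?_
    rintro _ ⟨R, rfl⟩
    rw [card_center_subgroup]
    exact (Nat.mul_le_mul_left _ (card_le_of_le inf_le_right)).trans (le_maxCentralizerProduct R)
  · obtain ⟨Q, hQ⟩ := exists_isCentralizerLarge (G := G)
    have h1 := large_centralizer hQ
    have h2 := (large_sup_inf hQ h1.1).2.1
    have h3 : centralizer ((Q ⊔ centralizer (Q : Set G) : Subgroup G) : Set G) ≤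
        Q ⊔ centralizer (Q : Set G) := by
      rw [centralizer_sup_eq]; exact inf_le_left.trans le_sup_right
    refine h2.ge.trans ?_
    have := le_maxCentralProduct (Q ⊔ centralizer (Q : Set G))
    rwa [card_center_subgroup, inf_eq_right.mpr h3] at this

theorem isCentrallyLarge_iff {R : Subgroup G} :
    IsCentrallyLarge R ↔ IsCentralizerLarge R ∧ centralizer (R : Set G) ≤ R := by
  unfold IsCentrallyLarge
  rw [card_center_subgroup, maxCentralProduct_eq]
  constructor
  · intro h
    have h1 : Nat.card ↥(R ⊓ centralizer (R : Set G)) ≤ Nat.card (centralizer (R : Set G)) :=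
      card_le_of_le inf_le_right
    have h2 := le_maxCentralizerProduct R
    have hL : IsCentralizerLarge R :=
      isCentralizerLarge_of_ge (h.ge.trans (Nat.mul_le_mul_left _ h1))
    have h3 : Nat.card (centralizer (R : Set G)) ≤ Nat.card ↥(R ⊓ centralizer (R : Set G)) :=
      Nat.le_of_mul_le_mul_left (h2.trans h.ge) Nat.card_pos
    exact ⟨hL, (eq_of_le_of_card_ge inf_le_right h3).ge.trans inf_le_left⟩
  · rintro ⟨hL, hC⟩
    rw [inf_eq_right.mpr hC]
    exact hL

theorem exists_isCentrallyLarge : ∃ R : Subgroup G, IsCentrallyLarge R :=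
  Nat.sSup_mem (Set.range_nonempty fun R : Subgroup G =>
    Nat.card R * Nat.card (center ↥R)) (Set.finite_range _).bddAbove

theorem centrallyLarge_sup {Q R : Subgroup G} (hQ : IsCentrallyLarge Q)
    (hR : IsCentralizerLarge R) : IsCentrallyLarge (Q ⊔ R) := by
  obtain ⟨hQ1, hQ2⟩ := isCentrallyLarge_iff.mp hQ
  refine isCentrallyLarge_iff.mpr ⟨(large_sup_inf hQ1 hR).2.1, ?_⟩
  rw [centralizer_sup_eq]
  exact inf_le_left.trans (hQ2.trans le_sup_left)

theorem centrallyLarge_sup_sSup {S : Set (Subgroup G)}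
    (h : ∀ X ∈ S, ∀ R : Subgroup G, IsCentrallyLarge R → IsCentrallyLarge (R ⊔ X))
    {Q : Subgroup G} (hQ : IsCentrallyLarge Q) : IsCentrallyLarge (Q ⊔ sSup S) := by
  have hS : S.Finite := Set.toFinite S
  induction S, hS using Set.Finite.induction_on generalizing Q with
  | empty => simpa using hQ
  | @insert a s _ _ ih =>
    rw [sSup_insert, ← sup_assoc]
    exact ih (fun X hX => h X (Set.mem_insert_of_mem a hX)) (h a (Set.mem_insert a s) Q hQ)

theorem exists_minimalCentrallyLarge_le {R : Subgroup G} (hR : IsCentrallyLarge R) :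
    ∃ Q ≤ R, IsMinimalCentrallyLarge Q := by
  haveI : Nonempty {Q : Subgroup G // Q ≤ R ∧ IsCentrallyLarge Q} := ⟨⟨R, le_rfl, hR⟩⟩
  obtain ⟨⟨Q, hQR, hQ⟩, hmin⟩ := Finite.exists_min
    (α := {Q : Subgroup G // Q ≤ R ∧ IsCentrallyLarge Q}) (fun Q => Nat.card Q.1)
  exact ⟨Q, hQR, hQ, fun Q' hle hQ' =>
    eq_of_le_of_card_ge hle (hmin ⟨Q', hle.trans hQR, hQ'⟩)⟩

theorem centrallyLarge_centrallyLargeJoin : IsCentrallyLarge (centrallyLargeJoin G) := by
  obtain ⟨Q, hQ⟩ := exists_isCentrallyLarge (G := G)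
  have := centrallyLarge_sup_sSup (S := {R | IsCentrallyLarge R})
    (fun X hX R hR => centrallyLarge_sup hR (isCentrallyLarge_iff.mp hX).1) hQ
  rwa [sup_eq_right.mpr (le_sSup (show Q ∈ {R : Subgroup G | IsCentrallyLarge R} from hQ))]
    at this

theorem centrallyLarge_minimalCentrallyLargeJoin :
    IsCentrallyLarge (minimalCentrallyLargeJoin G) := by
  obtain ⟨R, hR⟩ := exists_isCentrallyLarge (G := G)
  obtain ⟨Q, -, hQ⟩ := exists_minimalCentrallyLarge_le hR
  have := centrallyLarge_sup_sSup (S := {R | IsMinimalCentrallyLarge R})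
    (fun X hX R hR => centrallyLarge_sup hR (isCentrallyLarge_iff.mp hX.1).1) hQ.1
  rwa [sup_eq_right.mpr
    (le_sSup (show Q ∈ {R : Subgroup G | IsMinimalCentrallyLarge R} from hQ))] at this

/-! ### Abelian subgroups of largest order -/

theorem isMulCommutative_sup_of_le_centralizer {A B : Subgroup G}
    (hA : A ≤ centralizer (A : Set G)) (hB : B ≤ centralizer (B : Set G))
    (hAB : A ≤ centralizer (B : Set G)) : IsMulCommutative ↥(A ⊔ B) := by
  refine le_centralizer_iff_isMulCommutative.mp ?_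
  rw [centralizer_sup_eq]
  exact le_inf (sup_le hA (le_centralizer_iff.mp hAB)) (sup_le hAB hB)

theorem exists_maxAbelian : ∃ A : Subgroup G, A ∈ maxAbelianSubgroups G := by
  haveI : Nonempty {B : Subgroup G // IsMulCommutative B} := ⟨⟨⊥, inferInstance⟩⟩
  obtain ⟨⟨A, hA⟩, hmax⟩ := Finite.exists_max
    (α := {B : Subgroup G // IsMulCommutative B}) (fun B => Nat.card B.1)
  exact ⟨A, hA, fun B hB => hmax ⟨B, hB⟩⟩

theorem centralizer_maxAbelian {A : Subgroup G} (hA : A ∈ maxAbelianSubgroups G) :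
    centralizer (A : Set G) = A := by
  have hAC := le_centralizer_iff_isMulCommutative.mpr hA.1
  refine le_antisymm (fun x hx => ?_) hAC
  have h := hA.2 _ (isMulCommutative_sup_of_le_centralizer hAC
    (le_centralizer_iff_isMulCommutative.mpr (inferInstance : IsMulCommutative (zpowers x)))
    (le_centralizer_iff.mp (zpowers_le.mpr hx)))
  exact (eq_of_le_of_card_ge le_sup_left h).ge (mem_sup_right (mem_zpowers x))

/-- A centrally large subgroup permutes with the abelian subgroups of largest order. -/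
theorem centrallyLarge_sup_maxAbelian {Q A : Subgroup G} (hQ : IsCentrallyLarge Q)
    (hA : A ∈ maxAbelianSubgroups G) :
    ((Q ⊔ A : Subgroup G) : Set G) = (Q : Set G) * (A : Set G) ∧ IsCentrallyLarge (Q ⊔ A) ∧
    (Q ⊓ A) ⊔ centralizer (Q : Set G) ∈ maxAbelianSubgroups G := by
  obtain ⟨hQ1, hQ2⟩ := isCentrallyLarge_iff.mp hQ
  have hCQ : centralizer (Q : Set G) ≤
      centralizer ((centralizer (Q : Set G) : Subgroup G) : Set G) :=
    centralizer_le (show (centralizer (Q : Set G) : Set G) ⊆ Q from hQ2)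
  have hB : IsMulCommutative ↥((Q ⊓ A) ⊔ centralizer (Q : Set G)) := by
    refine isMulCommutative_sup_of_le_centralizer ?_ hCQ
      (inf_le_left.trans (le_centralizer_centralizer Q))
    exact inf_le_right.trans ((le_centralizer_iff_isMulCommutative.mpr hA.1).trans
      (centralizer_le (inf_le_right (a := Q) (b := A))))
  have i1 := LocalEvenBasic.card_mul_le_inf_mul_sup (Q ⊓ A) (centralizer (Q : Set G))
  have hinf : Q ⊓ A ⊓ centralizer (Q : Set G) = centralizer ((Q ⊔ A : Subgroup G) : Set G) := by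
    rw [centralizer_sup_eq, centralizer_maxAbelian hA, inf_assoc, inf_comm A,
      inf_eq_right.mpr (inf_le_left.trans hQ2)]
  rw [hinf] at i1
  have i2 := hA.2 _ hB
  have i3 := LocalEvenBasic.card_mul_le_inf_mul_sup Q A
  have i4 := le_maxCentralizerProduct (Q ⊔ A)
  have hQ' : _ = maxCentralizerProduct G := hQ1
  have hip : 0 < Nat.card ↥(Q ⊓ A) := Nat.card_pos
  have hsp : 0 < Nat.card ↥(Q ⊔ A) := Nat.card_pos
  have hwp : 0 < Nat.card (centralizer ((Q ⊔ A : Subgroup G) : Set G)) := Nat.card_pos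
  have hap : 0 < Nat.card A := Nat.card_pos
  set M := maxCentralizerProduct G
  set i := Nat.card ↥(Q ⊓ A)
  set s := Nat.card ↥(Q ⊔ A)
  set w := Nat.card (centralizer ((Q ⊔ A : Subgroup G) : Set G))
  set bb := Nat.card ↥((Q ⊓ A) ⊔ centralizer (Q : Set G))
  set a := Nat.card A
  set q := Nat.card Q
  set z := Nat.card (centralizer (Q : Set G))
  have k0 : (q * a) * (i * z) = M * (a * i) := by rw [← hQ']; ring
  have k1 : (q * a) * (i * z) ≤ (i * s) * (w * bb) := Nat.mul_le_mul i3 i1
  have k2 : (i * s) * (w * bb) ≤ (i * s) * (w * a) :=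
    Nat.mul_le_mul_left _ (Nat.mul_le_mul_left _ i2)
  have k3 : (i * s) * (w * a) = (s * w) * (a * i) := by ring
  have e4 : s * w = M := by
    refine le_antisymm i4 (not_lt.mp fun hl => ?_)
    have := Nat.mul_lt_mul_of_pos_right hl (Nat.mul_pos hap hip)
    omega
  have e45 : (s * w) * (a * i) = M * (a * i) := by rw [e4]
  have e3 : q * a = i * s := by
    refine le_antisymm i3 (not_lt.mp fun hl => ?_)
    have := Nat.mul_lt_mul_of_lt_of_le hl (i1.trans (Nat.mul_le_mul_left _ i2))
      (Nat.mul_pos hwp hap)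
    omega
  have e2 : bb = a := by
    refine le_antisymm i2 (not_lt.mp fun hl => ?_)
    have := Nat.mul_lt_mul_of_le_of_lt (le_refl (i * s)) (Nat.mul_lt_mul_of_pos_left hl hwp)
      (Nat.mul_pos hip hsp)
    omega
  refine ⟨coe_sup_eq_mul_of_card Q A e3, isCentrallyLarge_iff.mpr ⟨e4, ?_⟩, hB,
    fun B hB' => (hA.2 B hB').trans e2.ge⟩
  rw [← hinf]
  exact inf_le_left.trans (inf_le_left.trans le_sup_left)

theorem centrallyLarge_sup_thompsonSubgroupA {Q : Subgroup G} (hQ : IsCentrallyLarge Q) :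
    IsCentrallyLarge (Q ⊔ thompsonSubgroupA G) :=
  centrallyLarge_sup_sSup (fun _ hX _ hR => (centrallyLarge_sup_maxAbelian hR hX).2.1) hQ

theorem centralizer_thompsonSubgroupA_le :
    centralizer (thompsonSubgroupA G : Set G) ≤ thompsonSubgroupA G := by
  obtain ⟨A, hA⟩ := exists_maxAbelian (G := G)
  calc centralizer (thompsonSubgroupA G : Set G) ≤ centralizer (A : Set G) :=
        centralizer_le (show (A : Set G) ⊆ thompsonSubgroupA G from
          le_sSup (α := Subgroup G) hA)
    _ = A := centralizer_maxAbelian hA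
    _ ≤ thompsonSubgroupA G := le_sSup hA

/-- `C(Z(J)) ≤ Q J` for centrally large `Q`. -/
theorem centralizer_center_thompsonSubgroupA_le {Q : Subgroup G} (hQ : IsCentrallyLarge Q) :
    centralizer ((thompsonSubgroupA G ⊓ centralizer (thompsonSubgroupA G : Set G) :
      Subgroup G) : Set G) ≤ Q ⊔ thompsonSubgroupA G := by
  rw [inf_eq_right.mpr centralizer_thompsonSubgroupA_le]
  have h := (isCentrallyLarge_iff.mp (centrallyLarge_sup_thompsonSubgroupA hQ)).1
  conv_rhs => rw [← (large_centralizer h).2]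
  refine centralizer_le ?_
  rw [centralizer_sup_eq]
  exact fun x hx => hx.2

end Finite

end CfsgLib.LocalEven50
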