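import Mathlib.GroupTheory.Nilpotent
import Cfsg.Prelude.Def_BaumannBlocks
import Cfsg.Agent.LocalEven50.PSL2Gen
import Cfsg.Agent.LocalEven50.CentralizerLarge
import Cfsg.Agent.PLocal.Thompson
import Cfsg.Agent.Coprime.Action

/-!
# Irreducible modules of `SL₂(q)` with quadratic or large fixed points of a root group

Such a module is natural.
-/

namespace CfsgLib.LocalEven50

open Subgroup Cfsg
open scoped MatrixGroups commutatorElement

variable {F : Type*} [Field F]

/-- `[[a, 0], [0, a⁻¹]]`. -/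
def diagHom : Fˣ →* SL(2, F) where
  toFun a := ⟨!![(a : F), 0; 0, ((a⁻¹ : Fˣ) : F)], by simp [Matrix.det_fin_two]⟩
  map_one' := by
    apply Subtype.ext; ext i j; fin_cases i <;> fin_cases j <;> simp
  map_mul' a b := by
    apply Subtype.ext
    show _ = !![(a : F), 0; 0, ((a⁻¹ : Fˣ) : F)] * !![(b : F), 0; 0, ((b⁻¹ : Fˣ) : F)]
    ext i j; fin_cases i <;> fin_cases j <;> simp [Matrix.mul_apply, Fin.sum_univ_two, mul_comm]

/-- `[[0, -1], [1, 0]]`. -/
def rotSL : SL(2, F) := ⟨!![0, -1; 1, 0], by simp [Matrix.det_fin_two]⟩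

theorem lower_eq (s : Multiplicative F) :
    lowerHom F s = rotSL * upperHom F s⁻¹ * rotSL⁻¹ := by
  rw [eq_mul_inv_iff_mul_eq]
  apply Subtype.ext
  show !![1, 0; s.toAdd, 1] * !![0, -1; 1, 0] = !![0, -1; 1, 0] * !![1, -(s.toAdd); 0, 1]
  ext i j; fin_cases i <;> fin_cases j <;> simp [Matrix.mul_apply, Fin.sum_univ_two]

theorem rot_mul_rot : (rotSL : SL(2, F)) * rotSL = diagHom (-1) := by
  apply Subtype.ext
  show !![0, -1; 1, 0] * !![0, -1; 1, 0] =
    !![((-1 : Fˣ) : F), 0; 0, (((-1 : Fˣ)⁻¹ : Fˣ) : F)]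
  ext i j; fin_cases i <;> fin_cases j <;> simp [Matrix.mul_apply, Fin.sum_univ_two]

theorem diag_mul_upper (a : Fˣ) (t : F) :
    diagHom a * upperHom F (.ofAdd t) = upperHom F (.ofAdd (a * a * t)) * diagHom a := by
  apply Subtype.ext
  show !![(a : F), 0; 0, ((a⁻¹ : Fˣ) : F)] * !![1, t; 0, 1] =
    !![1, a * a * t; 0, 1] * !![(a : F), 0; 0, ((a⁻¹ : Fˣ) : F)]
  ext i j
  fin_cases i <;> fin_cases j <;> simp [Matrix.mul_apply, Fin.sum_univ_two]
  field_simp

theorem diag_eq (a : Fˣ) :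
    diagHom a = upperHom F (.ofAdd (a : F)) * lowerHom F (.ofAdd (-((a : F)⁻¹))) *
      upperHom F (.ofAdd (a : F)) * rotSL := by
  apply Subtype.ext
  show !![(a : F), 0; 0, ((a⁻¹ : Fˣ) : F)] =
    !![1, (a : F); 0, 1] * !![1, 0; -((a : F)⁻¹), 1] * !![1, (a : F); 0, 1] * !![0, -1; 1, 0]
  ext i j
  fin_cases i <;> fin_cases j <;> simp [Matrix.mul_apply, Fin.sum_univ_two]

/-- Bruhat decomposition. -/
theorem bruhat (g : SL(2, F)) :
    (∃ a : Fˣ, ∃ t, g = diagHom a * upperHom F t) ∨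
      ∃ a : Fˣ, ∃ s t, g = upperHom F s * diagHom a * rotSL * upperHom F t := by
  set A := (g : Matrix (Fin 2) (Fin 2) F) 0 0 with hA
  set B := (g : Matrix (Fin 2) (Fin 2) F) 0 1 with hB
  set C := (g : Matrix (Fin 2) (Fin 2) F) 1 0 with hC
  set D := (g : Matrix (Fin 2) (Fin 2) F) 1 1 with hD
  have hdet : A * D - B * C = 1 := by
    have := g.2
    rwa [Matrix.det_fin_two] at this
  by_cases hc : C = 0
  · have ha : A ≠ 0 := fun h => by simp [h, hc] at hdet
    refine Or.inl ⟨Units.mk0 A ha, .ofAdd (B / A), ?_⟩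
    apply Subtype.ext
    show (g : Matrix (Fin 2) (Fin 2) F) =
      !![A, 0; 0, (((Units.mk0 A ha)⁻¹ : Fˣ) : F)] * !![1, B / A; 0, 1]
    ext i j
    fin_cases i <;> fin_cases j <;> simp [Matrix.mul_apply, Fin.sum_univ_two, ← hA, ← hB, ← hC,
      ← hD, hc, Units.val_inv_eq_inv_val]
    · field_simp
    · field_simp
      rw [hc, mul_zero, sub_zero] at hdet
      linear_combination hdet
  · refine Or.inr ⟨(Units.mk0 C hc)⁻¹, .ofAdd (A / C), .ofAdd (D / C), ?_⟩
    apply Subtype.ext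
    show (g : Matrix (Fin 2) (Fin 2) F) =
      !![1, A / C; 0, 1] * !![(((Units.mk0 C hc)⁻¹ : Fˣ) : F), 0;
        0, ((((Units.mk0 C hc)⁻¹)⁻¹ : Fˣ) : F)] * !![0, -1; 1, 0] * !![1, D / C; 0, 1]
    ext i j
    fin_cases i <;> fin_cases j <;> simp [Matrix.mul_apply, Fin.sum_univ_two, ← hA, ← hB, ← hC,
      ← hD, Units.val_inv_eq_inv_val]
    all_goals field_simp
    all_goals first
      | ring1
      | linear_combination hdet
      | linear_combination -hdet

variable {X : Type*} [Group X] [Finite X] [Finite F] {p : ℕ} [Fact p.Prime]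

/-- An irreducible module in which a root group is quadratic or has large fixed points is
natural. -/
theorem exists_natural [CharP F p] (θ : SL(2, F) →* X) {V : Subgroup X}
    (hV : IsElementaryAbelian p V) (hn : θ.range ≤ normalizer (V : Set X))
    (hirr : ∀ U : Subgroup X, U ≤ V → θ.range ≤ normalizer (U : Set X) → U = ⊥ ∨ U = V)
    (hnt : ⁅V, θ.range⁆ ≠ ⊥)
    (hyp : ⁅⁅V, (upperHom F).range.map θ⁆, (upperHom F).range.map θ⁆ = ⊥ ∨
      Nat.card V ≤ Nat.card ↥(V ⊓ centralizer ((upperHom F).range.map θ : Set X)) ^ 2) :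
    ∃ ψ : ↥V ≃* Multiplicative (Fin 2 → F), ∀ (g : SL(2, F)) (v w : ↥V),
      (w : X) = θ g * (v : X) * (θ g)⁻¹ →
        Multiplicative.toAdd (ψ w) =
          (g : Matrix (Fin 2) (Fin 2) F).mulVec (Multiplicative.toAdd (ψ v)) := by
  classical
  set c : SL(2, F) →* MulAut X := MulAut.conj.comp θ with hc
  have hcc : ∀ g v, c g v = θ g * v * (θ g)⁻¹ := fun g v => rfl
  set UX := (upperHom F).range.map θ with hUX
  set LX := (lowerHom F).range.map θ with hLX
  set V0 := V ⊓ centralizer (UX : Set X) with hV0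
  set V1 := V ⊓ centralizer (LX : Set X) with hV1
  have hnorm : ∀ g, ∀ v ∈ V, c g v ∈ V := fun g v hv =>
    (mem_normalizer_iff.mp (hn ⟨g, rfl⟩) v).mp hv
  have hVc : V ≤ centralizer (V : Set X) := le_centralizer_iff_isMulCommutative.mpr hV.1
  have hcomm : ∀ x ∈ V, ∀ y ∈ V, x * y = y * x := fun x hx y hy =>
    (mem_centralizer_iff.mp (hVc hx) y hy).symm
  have memV0 : ∀ v, v ∈ V0 ↔ v ∈ V ∧ ∀ t, c (upperHom F t) v = v := by
    intro v
    rw [hV0, mem_inf, mem_centralizer_iff]
    refine and_congr_right fun _ => ⟨fun h t => ?_, ?_⟩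
    · rw [hcc, h _ ⟨_, ⟨t, rfl⟩, rfl⟩, mul_inv_cancel_right]
    · rintro h _ ⟨_, ⟨t, rfl⟩, rfl⟩
      exact mul_inv_eq_iff_eq_mul.mp (h t)
  have memV1 : ∀ v, v ∈ V1 ↔ v ∈ V ∧ ∀ t, c (lowerHom F t) v = v := by
    intro v
    rw [hV1, mem_inf, mem_centralizer_iff]
    refine and_congr_right fun _ => ⟨fun h t => ?_, ?_⟩
    · rw [hcc, h _ ⟨_, ⟨t, rfl⟩, rfl⟩, mul_inv_cancel_right]
    · rintro h _ ⟨_, ⟨t, rfl⟩, rfl⟩
      exact mul_inv_eq_iff_eq_mul.mp (h t)
  have hall : ∀ v : X, (∀ t, c (upperHom F t) v = v) → (∀ t, c (lowerHom F t) v = v) →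
      ∀ g, c g v = v := fun v hu hl g =>
    closure_upper_lower F ((MulAction.stabilizer (MulAut X) v).comap c) hu hl g
  have hfix : ∀ v ∈ V, (∀ g, c g v = v) → v = 1 := by
    intro v hv h
    by_contra hne
    have hcen : V ⊓ centralizer (θ.range : Set X) = V := by
      refine (hirr _ inf_le_left ?_).resolve_left fun hb => hne (mem_bot.mp (hb.le ⟨hv, ?_⟩))
      · exact (le_centralizer_iff.mp inf_le_right).trans (centralizer_le_normalizer _)
      · refine mem_centralizer_iff.mpr ?_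
        rintro _ ⟨g, rfl⟩
        exact mul_inv_eq_iff_eq_mul.mp (h g)
    exact hnt ((commutator_eq_bot_iff_le_centralizer).mpr (inf_eq_left.mp hcen))
  have hdisj : V0 ⊓ V1 = ⊥ := by
    refine eq_bot_iff.mpr fun v hv => mem_bot.mpr (hfix v hv.1.1 (hall v ?_ ?_))
    · exact ((memV0 v).mp hv.1).2
    · exact ((memV1 v).mp hv.2).2
  have hrot01 : ∀ x ∈ V0, c rotSL x ∈ V1 := by
    intro x hx
    refine (memV1 _).mpr ⟨hnorm _ _ ((memV0 x).mp hx).1, fun t => ?_⟩
    rw [← MulAut.mul_apply, ← map_mul, lower_eq, inv_mul_cancel_right, map_mul, MulAut.mul_apply,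
      ((memV0 x).mp hx).2]
  have hrot10 : ∀ y ∈ V1, c rotSL⁻¹ y ∈ V0 := by
    intro y hy
    refine (memV0 _).mpr ⟨hnorm _ _ ((memV1 y).mp hy).1, fun t => ?_⟩
    have h := ((memV1 y).mp hy).2 t⁻¹
    rw [lower_eq, inv_inv] at h
    have e : upperHom F t * rotSL⁻¹ = rotSL⁻¹ * (rotSL * upperHom F t * rotSL⁻¹) := by group
    rw [← MulAut.mul_apply, ← map_mul, e, map_mul, MulAut.mul_apply, h]
  have hdiag0 : ∀ a : Fˣ, ∀ x ∈ V0, c (diagHom a) x ∈ V0 := by
    intro a x hx
    refine (memV0 _).mpr ⟨hnorm _ _ ((memV0 x).mp hx).1, fun t => ?_⟩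
    have e : upperHom F t * diagHom a =
        diagHom a * upperHom F (.ofAdd (t.toAdd / (a * a))) := by
      rw [diag_mul_upper, show (a : F) * a * (t.toAdd / (a * a)) = t.toAdd by
        field_simp, ofAdd_toAdd]
    rw [← MulAut.mul_apply, ← map_mul, e, map_mul, MulAut.mul_apply, ((memV0 x).mp hx).2]
  have hrr : ∀ v, c rotSL (c rotSL⁻¹ v) = v := fun v => by
    rw [← MulAut.mul_apply, ← map_mul, mul_inv_cancel, map_one, MulAut.one_apply]
  -- `V = V0 V1`
  have hjoin : V0 ⊔ V1 = V := by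
    refine le_antisymm (sup_le inf_le_left inf_le_left) ?_
    rcases hyp with hq | hs
    · have hUn : UX ≤ normalizer (V : Set X) :=
        (by rintro _ ⟨g, -, rfl⟩; exact hn ⟨g, rfl⟩)
      have hLn : LX ≤ normalizer (V : Set X) :=
        (by rintro _ ⟨g, -, rfl⟩; exact hn ⟨g, rfl⟩)
      have h0 : ⁅V, UX⁆ ≤ V0 := le_inf (Coprime.commutator_le_of_le_normalizer hUn)
        (commutator_eq_bot_iff_le_centralizer.mp hq)
      have h1 : ⁅V, LX⁆ ≤ V1 := by
        rw [commutator_le]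
        rintro v hv _ ⟨_, ⟨t, rfl⟩, rfl⟩
        have hm : ⁅c rotSL⁻¹ v, θ (upperHom F t⁻¹)⁆ ∈ V0 :=
          h0 (commutator_mem_commutator (hnorm _ _ hv) ⟨_, ⟨_, rfl⟩, rfl⟩)
        have := hrot01 _ hm
        rw [map_commutatorElement, ← MulAut.mul_apply, ← map_mul, mul_inv_cancel, map_one,
          MulAut.one_apply, hcc, ← map_mul, ← map_inv, ← map_mul, ← lower_eq] at this
        exact this
      set Y := ⁅V, UX⁆ ⊔ ⁅V, LX⁆ with hY
      have hYV : Y ≤ V := sup_le (Coprime.commutator_le_of_le_normalizer hUn)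
        (Coprime.commutator_le_of_le_normalizer hLn)
      have habs : ∀ x : X, x ∈ normalizer (V : Set X) → (∀ v ∈ V, ⁅v, x⁆ ∈ Y) →
          x ∈ normalizer (Y : Set X) := by
        intro x hx hv
        refine mem_normalizer_iff_map_conj_eq.mpr (eq_of_le_of_card_ge ?_
          (card_map_of_injective (MulAut.conj x).injective).ge)
        rintro _ ⟨y, hy, rfl⟩
        have h := Y.mul_mem (Y.inv_mem (hv y (hYV hy))) hy
        rw [commutatorElement_inv, commutatorElement_def] at h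
        simpa [mul_assoc] using h
      have hYn : θ.range ≤ normalizer (Y : Set X) := by
        rintro _ ⟨g, rfl⟩
        refine closure_upper_lower F ((normalizer (Y : Set X)).comap θ) (fun t => ?_) (fun t => ?_) g
        · exact habs _ (hn ⟨_, rfl⟩) fun v hv =>
            mem_sup_left (commutator_mem_commutator hv ⟨_, ⟨t, rfl⟩, rfl⟩)
        · exact habs _ (hn ⟨_, rfl⟩) fun v hv =>
            mem_sup_right (commutator_mem_commutator hv ⟨_, ⟨t, rfl⟩, rfl⟩)
      rcases hirr Y hYV hYn with hb | hb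
      · exfalso
        refine hnt (commutator_eq_bot_iff_le_centralizer.mpr (le_centralizer_iff.mp ?_))
        rintro _ ⟨g, rfl⟩
        rw [hY, sup_eq_bot_iff, commutator_eq_bot_iff_le_centralizer,
          commutator_eq_bot_iff_le_centralizer, le_centralizer_iff,
          le_centralizer_iff (H := V) (K := LX)] at hb
        exact closure_upper_lower F ((centralizer (V : Set X)).comap θ)
          (fun t => hb.1 ⟨_, ⟨t, rfl⟩, rfl⟩) (fun t => hb.2 ⟨_, ⟨t, rfl⟩, rfl⟩) g
      · exact hb.ge.trans (sup_le (h0.trans le_sup_left) (h1.trans le_sup_right))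
    · have hcard : Nat.card V0 ≤ Nat.card V1 :=
        Nat.card_le_card_of_injective (fun x : ↥V0 => (⟨_, hrot01 x x.2⟩ : ↥V1))
          fun x y h => Subtype.ext ((c rotSL).injective (congrArg Subtype.val h))
      have h := card_sup_mul_card_inf_of_coe V0 V1
        (coe_mul_of_left_le_normalizer_right V0 V1 ((inf_le_left.trans (hVc.trans
          (centralizer_le (inf_le_left : V1 ≤ V)))).trans (centralizer_le_normalizer _)))
      rw [hdisj, card_bot, mul_one] at h
      refine (eq_of_le_of_card_ge (sup_le inf_le_left inf_le_left) ?_).ge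
      rw [h]
      exact hs.trans ((sq _).le.trans (Nat.mul_le_mul_left _ hcard))
  have hsplit : ∀ v ∈ V, ∃ x ∈ V0, ∃ y ∈ V1, x * y = v := by
    intro v hv
    have h := hjoin.ge hv
    rw [← SetLike.mem_coe, coe_mul_of_left_le_normalizer_right V0 V1 ((inf_le_left.trans
      (hVc.trans (centralizer_le (inf_le_left : V1 ≤ V)))).trans
        (centralizer_le_normalizer _))] at h
    exact h
  -- the action is quadratic
  have hquad : ∀ t, ∀ v ∈ V, c (upperHom F t) v * v⁻¹ ∈ V0 := by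
    let Q : Subgroup X :=
      { carrier := {v | v ∈ V ∧ ∀ t, c (upperHom F t) v * v⁻¹ ∈ V0}
        one_mem' := ⟨V.one_mem, fun t => by simp [V0.one_mem]⟩
        mul_mem' := fun {a b} ha hb => ⟨V.mul_mem ha.1 hb.1, fun t => by
          have e : c (upperHom F t) (a * b) * (a * b)⁻¹ =
              (c (upperHom F t) a * a⁻¹) * (c (upperHom F t) b * b⁻¹) := by
            rw [map_mul, mul_inv_rev, mul_assoc, mul_assoc]
            congr 1
            rw [← mul_assoc (c (upperHom F t) b),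
              hcomm _ (V.mul_mem (hnorm _ _ hb.1) (V.inv_mem hb.1)) _ (V.inv_mem ha.1)]
          rw [e]
          exact V0.mul_mem (ha.2 t) (hb.2 t)⟩
        inv_mem' := fun {a} ha => ⟨V.inv_mem ha.1, fun t => by
          rw [map_inv, inv_inv, hcomm _ (V.inv_mem (hnorm _ _ ha.1)) _ ha.1]
          have := V0.inv_mem (ha.2 t)
          rwa [mul_inv_rev, inv_inv] at this⟩ }
    have hQ0 : V0 ≤ Q := fun x hx => ⟨((memV0 x).mp hx).1, fun t => by
      rw [((memV0 x).mp hx).2, mul_inv_cancel]; exact V0.one_mem⟩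
    have hQu : ∀ s, ∀ v ∈ Q, c (upperHom F s) v ∈ Q := by
      intro s v hv
      have := Q.mul_mem (hQ0 (hv.2 s)) hv
      rwa [inv_mul_cancel_right] at this
    have hQh : ∀ a : Fˣ, ∀ v ∈ Q, c (diagHom a) v ∈ Q := by
      intro a v hv
      refine ⟨hnorm _ _ hv.1, fun t => ?_⟩
      have e : upperHom F t * diagHom a =
          diagHom a * upperHom F (.ofAdd (t.toAdd / (a * a))) := by
        rw [diag_mul_upper, show (a : F) * a * (t.toAdd / (a * a)) = t.toAdd by
          field_simp, ofAdd_toAdd]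
      rw [← MulAut.mul_apply, ← map_mul, e, map_mul, MulAut.mul_apply, ← map_inv, ← map_mul]
      exact hdiag0 a _ (hv.2 _)
    -- a nontrivial element of `V1` in `Q`
    obtain ⟨y, hy1, hyQ, hyne⟩ : ∃ y ∈ V1, y ∈ Q ∧ y ≠ 1 := by
      have hnot : ¬ V ≤ V0 := by
        intro h
        have hb : V1 = ⊥ := by
          rw [← hdisj]; exact le_antisymm (le_inf (inf_le_left.trans h) le_rfl) inf_le_right
        have hb0 : V0 = ⊥ := by
          refine eq_bot_iff.mpr fun x hx => mem_bot.mpr ?_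
          have := hb.le (hrot01 x hx)
          exact (c rotSL).injective (by rw [mem_bot.mp this, map_one])
        exact hnt (commutator_eq_bot_iff_le_centralizer.mpr (by rw [← hjoin, hb, hb0]; simp))
      have hVp : IsPGroup p V := PLocal.isPGroup_of_isElementaryAbelian hV
      have hUp : IsPGroup p UX := by
        refine IsPGroup.map ?_ θ
        rw [MonoidHom.range_eq_map]
        refine IsPGroup.map (fun u => ⟨1, Subtype.ext ?_⟩) _
        apply Multiplicative.toAdd.injective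
        show p ^ 1 • (u : Multiplicative F).toAdd = 0
        simp
      have hUn : UX ≤ normalizer (V : Set X) := by rintro _ ⟨g, -, rfl⟩; exact hn ⟨g, rfl⟩
      have hH : IsPGroup p ↥(V ⊔ UX) := hVp.to_sup_of_normal_left' hUp hUn
      obtain ⟨n, htop⟩ := (hH.isNilpotent).nilpotent
      obtain ⟨v, hv, hv0⟩ := SetLike.not_le_iff_exists.mp hnot
      have hbad : ∃ j, ∃ w : ↥(V ⊔ UX), (w : X) ∈ V ∧ (w : X) ∉ V0 ∧
          w ∈ Subgroup.upperCentralSeries ↥(V ⊔ UX) j :=
        ⟨n, ⟨v, mem_sup_left hv⟩, hv, hv0, by rw [htop]; exact mem_top _⟩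
      obtain ⟨w, hwV, hw0, hwj⟩ := Nat.find_spec hbad
      have hwQ : (w : X) ∈ Q := by
        refine ⟨hwV, fun t => ?_⟩
        by_contra hmem
        rcases hj : Nat.find hbad with _ | j
        · rw [hj, Subgroup.upperCentralSeries_zero] at hwj
          exact hw0 (by rw [show w = 1 from hwj]; exact V0.one_mem)
        · rw [hj] at hwj
          refine Nat.find_min hbad (show j < Nat.find hbad by omega)
            ⟨⁅(⟨θ (upperHom F t), mem_sup_right ⟨_, ⟨t, rfl⟩, rfl⟩⟩ : ↥(V ⊔ UX)), w⁆, ?_, hmem, ?_⟩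
          · exact V.mul_mem (hnorm _ _ hwV) (V.inv_mem hwV)
          · rw [← commutatorElement_inv]
            exact inv_mem (Subgroup.mem_upperCentralSeries_succ_iff.mp hwj _)
      obtain ⟨x, hx, y, hy, e⟩ := hsplit w hwV
      refine ⟨y, hy, ?_, fun h => hw0 (by rw [← e, h, mul_one]; exact hx)⟩
      rw [show y = x⁻¹ * (w : X) by rw [← e, inv_mul_cancel_left]]
      exact Q.mul_mem (Q.inv_mem (hQ0 hx)) hwQ
    set z := c rotSL⁻¹ y
    have hz0 : z ∈ V0 := hrot10 y hy1
    set Y := closure (Set.range fun g => c g z) with hY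
    have hYQ : Y ≤ Q := by
      refine (closure_le _).mpr ?_
      rintro _ ⟨g, rfl⟩
      show c g z ∈ Q
      rcases bruhat g with ⟨a, t, rfl⟩ | ⟨a, s, t, rfl⟩
      · rw [map_mul, MulAut.mul_apply, ((memV0 z).mp hz0).2]
        exact hQ0 (hdiag0 a z hz0)
      · rw [map_mul, MulAut.mul_apply, ((memV0 z).mp hz0).2, map_mul, MulAut.mul_apply,
          map_mul, MulAut.mul_apply, hrr]
        exact hQu s _ (hQh a _ hyQ)
    have hYn : θ.range ≤ normalizer (Y : Set X) := by
      rintro _ ⟨g, rfl⟩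
      refine mem_normalizer_iff_map_conj_eq.mpr (eq_of_le_of_card_ge ?_
        (card_map_of_injective (MulAut.conj (θ g)).injective).ge)
      rw [hY, MonoidHom.map_closure, closure_le]
      rintro _ ⟨_, ⟨h, rfl⟩, rfl⟩
      exact subset_closure ⟨g * h, by simp [hcc, mul_assoc]⟩
    intro t v hv
    rcases hirr Y (hYQ.trans fun _ h => h.1) hYn with hb | hb
    · exfalso
      apply hyne
      have := mem_bot.mp (hb.le (subset_closure ⟨rotSL, rfl⟩))
      exact (hrr y).symm.trans this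
    · exact (hYQ (hb.ge hv)).2 t
  -- the root group in coordinates
  have hkey : ∀ a : Fˣ, ∀ x ∈ V0,
      c (upperHom F (.ofAdd (a : F))) (c rotSL x) = c (diagHom a) x * c rotSL x := by
    intro a x hx
    set y := c rotSL x
    have hy : y ∈ V1 := hrot01 x hx
    set s := (Multiplicative.ofAdd (-((a : F)⁻¹)) : Multiplicative F)
    set u := c (upperHom F (.ofAdd (a : F)))
    set l := c (lowerHom F s)
    set d := u y * y⁻¹
    have hd : d ∈ V0 := hquad _ y ((memV1 y).mp hy).1
    set f := l d * d⁻¹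
    have hlV : l d ∈ V := hnorm _ _ ((memV0 d).mp hd).1
    have hf : f ∈ V1 := by
      have hm := hrot01 _ (hquad s⁻¹ _ (hnorm rotSL⁻¹ _ ((memV0 d).mp hd).1))
      have e : c rotSL (c (upperHom F s⁻¹) (c rotSL⁻¹ d)) = l d := by
        rw [← MulAut.mul_apply, ← map_mul, ← MulAut.mul_apply, ← map_mul, ← lower_eq]
      rwa [map_mul (c rotSL), e, map_inv (c rotSL), hrr] at hm
    have hdv := ((memV0 d).mp hd)
    have hyv := ((memV1 y).mp hy)
    have hfv := ((memV1 f).mp hf)
    have e1 : c (diagHom a) x = u (l (u y)) := by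
      rw [diag_eq a, map_mul, map_mul, map_mul]
      rfl
    have huy : u y = d * y := (inv_mul_cancel_right _ _).symm
    have e2 : l (u y) = d * (f * y) := by
      rw [huy, map_mul, hyv.2, show l d = f * d from (inv_mul_cancel_right _ _).symm,
        hcomm f hfv.1 d hdv.1, mul_assoc]
    have e3 : u (l (u y)) = d * (u (f * y) * (f * y)⁻¹) * (f * y) := by
      rw [e2, map_mul, hdv.2, mul_assoc d, inv_mul_cancel_right]
    have hm := hquad (.ofAdd (a : F)) (f * y) (V.mul_mem hfv.1 hyv.1)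
    have hfy : f * y = 1 := by
      refine mem_bot.mp (hdisj.le ⟨?_, V1.mul_mem hf hy⟩)
      have h := hdiag0 a x hx
      rw [e1, e3] at h
      exact (mul_mem_cancel_left (V0.mul_mem hd hm)).mp h
    rw [e1, e3, hfy, map_one, inv_one, mul_one, mul_one, mul_one, huy]
  -- coordinates
  obtain ⟨x₀, hx₀, hx₀ne⟩ : ∃ x ∈ V0, x ≠ 1 := by
    by_contra hno
    push Not at hno
    refine hnt (commutator_eq_bot_iff_le_centralizer.mpr (fun v hv => ?_))
    obtain ⟨x, hx, y, hy, rfl⟩ := hsplit v hv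
    have hy1 : y = 1 := (c rotSL⁻¹).injective ((hno _ (hrot10 y hy)).trans (map_one _).symm)
    rw [hno x hx, hy1, one_mul]
    exact one_mem _
  set ω := fun t : F => c (upperHom F (.ofAdd t)) (c rotSL x₀) * (c rotSL x₀)⁻¹ with hω
  have hωV0 : ∀ t, ω t ∈ V0 := fun t => hquad _ _ (hnorm _ _ ((memV0 x₀).mp hx₀).1)
  have hω0 : ω 0 = 1 := by simp [hω]
  have hωadd : ∀ s t, ω (s + t) = ω s * ω t := by
    intro s t
    have e : c (upperHom F (.ofAdd s)) (c (upperHom F (.ofAdd t)) (c rotSL x₀)) =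
        ω t * c (upperHom F (.ofAdd s)) (c rotSL x₀) := by
      conv_lhs => rw [show c (upperHom F (.ofAdd t)) (c rotSL x₀) = ω t * c rotSL x₀ from
        (inv_mul_cancel_right _ _).symm, map_mul, ((memV0 _).mp (hωV0 t)).2]
    show c (upperHom F (.ofAdd (s + t))) (c rotSL x₀) * (c rotSL x₀)⁻¹ = _
    rw [ofAdd_add, map_mul, map_mul, MulAut.mul_apply, e, mul_assoc]
    exact (hcomm _ ((memV0 _).mp (hωV0 s)).1 _ ((memV0 _).mp (hωV0 t)).1).symm
  have hωdiag : ∀ a : Fˣ, ω a = c (diagHom a) x₀ := fun a => by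
    show c (upperHom F (.ofAdd (a : F))) (c rotSL x₀) * _ = _
    rw [hkey a x₀ hx₀, mul_inv_cancel_right]
  have hωne : ∀ t, t ≠ 0 → ω t ≠ 1 := fun t ht h => by
    rw [← Units.val_mk0 ht, hωdiag] at h
    exact hx₀ne ((c _).injective (h.trans (map_one _).symm))
  have hωmul : ∀ s t, c (upperHom F (.ofAdd s)) (c rotSL (ω t)) = ω (s * t) * c rotSL (ω t) := by
    intro s t
    rcases eq_or_ne s 0 with rfl | hs
    · simp [hω0]
    rcases eq_or_ne t 0 with rfl | ht
    · simp [hω0]
    have h := hkey (Units.mk0 s hs) (ω t) (hωV0 t)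
    have e : c (diagHom (Units.mk0 s hs)) (ω t) = ω (s * t) := by
      rw [← Units.val_mk0 ht, hωdiag, ← MulAut.mul_apply, ← map_mul, ← map_mul, ← hωdiag]
      rfl
    rwa [e, Units.val_mk0] at h
  have hωneg : ∀ t, c rotSL (c rotSL (ω t)) = ω (-t) := by
    intro t
    rw [← MulAut.mul_apply, ← map_mul, rot_mul_rot]
    rcases eq_or_ne t 0 with rfl | ht
    · simp [hω0]
    rw [← Units.val_mk0 ht, hωdiag, ← MulAut.mul_apply, ← map_mul, ← map_mul, neg_one_mul,
      ← hωdiag, Units.val_neg]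
  have hωV1 : ∀ t, c rotSL (ω t) ∈ V1 := fun t => hrot01 _ (hωV0 t)
  -- the coordinate map
  let f : Multiplicative (Fin 2 → F) →* ↥V :=
    { toFun := fun v => ⟨ω (v.toAdd 0) * c rotSL (ω (v.toAdd 1)),
        V.mul_mem ((memV0 _).mp (hωV0 _)).1 ((memV1 _).mp (hωV1 _)).1⟩
      map_one' := by apply Subtype.ext; simp [hω0]
      map_mul' := fun v w => by
        apply Subtype.ext
        show ω (v.toAdd 0 + w.toAdd 0) * c rotSL (ω (v.toAdd 1 + w.toAdd 1)) =
          ω (v.toAdd 0) * c rotSL (ω (v.toAdd 1)) * (ω (w.toAdd 0) * c rotSL (ω (w.toAdd 1)))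
        rw [hωadd, hωadd, map_mul]
        exact Commute.mul_mul_mul_comm
          (hcomm _ ((memV0 _).mp (hωV0 (w.toAdd 0))).1 _ ((memV1 _).mp (hωV1 (v.toAdd 1))).1) _ _ }
  have hfinj : Function.Injective f := by
    rw [injective_iff_map_eq_one]
    intro v hv
    have h := congrArg Subtype.val hv
    change ω (v.toAdd 0) * c rotSL (ω (v.toAdd 1)) = 1 at h
    have h1 : c rotSL (ω (v.toAdd 1)) = 1 := by
      refine mem_bot.mp (hdisj.le ⟨?_, hωV1 _⟩)
      rw [eq_inv_of_mul_eq_one_right h]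
      exact V0.inv_mem (hωV0 _)
    rw [h1, mul_one] at h
    have h1' : ω (v.toAdd 1) = 1 := (c rotSL).injective (h1.trans (map_one _).symm)
    apply Multiplicative.toAdd.injective
    funext i
    fin_cases i
    · exact not_imp_comm.mp (hωne _) (fun h' => h' h)
    · exact not_imp_comm.mp (hωne _) (fun h' => h' h1')
  let K : Submonoid SL(2, F) :=
    { carrier := {g | ∀ v : Fin 2 → F, c g (f (.ofAdd v) : X) =
        f (.ofAdd ((g : Matrix (Fin 2) (Fin 2) F).mulVec v))}
      one_mem' := fun v => by simp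
      mul_mem' := fun {g h} hg hh v => by
        rw [map_mul, MulAut.mul_apply, hh v, hg, Matrix.mulVec_mulVec]
        rfl }
  have hK : ∀ g : SL(2, F), g ∈ K := by
    let K' : Subgroup SL(2, F) :=
      { K with
        inv_mem' := fun {g} hg v => by
          have h := hg (((g⁻¹ : SL(2, F)) : Matrix (Fin 2) (Fin 2) F).mulVec v)
          rw [Matrix.mulVec_mulVec, ← Matrix.SpecialLinearGroup.coe_mul, mul_inv_cancel,
            Matrix.SpecialLinearGroup.coe_one, Matrix.one_mulVec] at h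
          rw [← h, ← MulAut.mul_apply, ← map_mul, inv_mul_cancel, map_one, MulAut.one_apply] }
    have hu : ∀ t, upperHom F t ∈ K' := by
      intro t v
      show c (upperHom F t) (ω (v 0) * c rotSL (ω (v 1))) =
        ω ((!![1, t.toAdd; 0, 1] : Matrix (Fin 2) (Fin 2) F).mulVec v 0) *
          c rotSL (ω ((!![1, t.toAdd; 0, 1] : Matrix (Fin 2) (Fin 2) F).mulVec v 1))
      rw [map_mul, ((memV0 _).mp (hωV0 _)).2, show t = .ofAdd t.toAdd from rfl, hωmul,
        ← mul_assoc, ← hωadd]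
      simp [Matrix.mulVec, dotProduct, Fin.sum_univ_two]
    have hr : rotSL ∈ K' := by
      intro v
      show c rotSL (ω (v 0) * c rotSL (ω (v 1))) =
        ω ((!![0, -1; 1, 0] : Matrix (Fin 2) (Fin 2) F).mulVec v 0) *
          c rotSL (ω ((!![0, -1; 1, 0] : Matrix (Fin 2) (Fin 2) F).mulVec v 1))
      rw [map_mul, hωneg, hcomm _ ((memV1 _).mp (hωV1 _)).1 _ ((memV0 _).mp (hωV0 _)).1]
      simp [Matrix.mulVec, dotProduct, Fin.sum_univ_two]
    exact closure_upper_lower F K' hu fun t => by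
      rw [lower_eq]; exact mul_mem (mul_mem hr (hu _)) (inv_mem hr)
  have hfsurj : Function.Surjective f := by
    have hY : f.range.map V.subtype = V := by
      refine (hirr _ (map_subtype_le _) ?_).resolve_left fun hb => ?_
      · rintro _ ⟨g, rfl⟩
        refine mem_normalizer_iff_map_conj_eq.mpr (eq_of_le_of_card_ge ?_
          (card_map_of_injective (MulAut.conj (θ g)).injective).ge)
        rintro _ ⟨_, ⟨_, ⟨v, rfl⟩, rfl⟩, rfl⟩
        exact ⟨_, ⟨_, rfl⟩, (hK g v.toAdd).symm⟩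
      · rw [map_eq_bot_iff_of_injective _ V.subtype_injective, MonoidHom.range_eq_bot_iff] at hb
        have h1 := hfinj ((DFunLike.congr_fun hb (.ofAdd ![1, 0])).trans (map_one f).symm)
        exact one_ne_zero (congrFun (Multiplicative.ofAdd.injective h1) 0)
    rw [← MonoidHom.range_eq_top]
    refine map_injective V.subtype_injective (hY.trans ?_)
    rw [← MonoidHom.range_eq_map, range_subtype]
  let e := MulEquiv.ofBijective f ⟨hfinj, hfsurj⟩
  refine ⟨e.symm, fun g v w h => ?_⟩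
  have hv : (f (.ofAdd (e.symm v).toAdd) : X) = v :=
    congrArg Subtype.val (e.apply_symm_apply v)
  have hw : w = f (.ofAdd ((g : Matrix (Fin 2) (Fin 2) F).mulVec (e.symm v).toAdd)) := by
    apply Subtype.ext
    rw [← hK g, hv, h, hcc]
  rw [hw]
  exact congrArg Multiplicative.toAdd (e.symm_apply_apply _)

end CfsgLib.LocalEven50
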