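import Cfsg.Agent.LocalEven50.ChiefTransfer

/-!
# Pushing up, second case: `p = 3` and two noncentral chief factors

`θ X = (X^χ)^a`; `U = θ⁻¹ V`, `U₂ = θ⁻² V`, `V₁ = θ V`, `V₂ = θ² V` with `[V, V₂] ≠ 1`.
-/

set_option linter.style.haveILetI false
set_option linter.unusedSectionVars false

namespace CfsgLib.LocalEven50

open Subgroup Cfsg
open scoped MatrixGroups commutatorElement

variable {G : Type*} [Group G] [Finite G] {p : ℕ} [Fact p.Prime]

theorem tw_sup {S : Subgroup G} {φ : MulAut ↥S} {X Y : Subgroup G} (hX : X ≤ S) (hY : Y ≤ S) :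
    tw φ (X ⊔ Y) = tw φ X ⊔ tw φ Y := by
  simp only [tw]
  rw [subgroupOf_sup hX hY, Subgroup.map_sup]

theorem commutator_le_iff_mk {A B Y : Subgroup G} [Y.Normal] :
    ⁅A, B⁆ ≤ Y ↔
      A.map (QuotientGroup.mk' Y) ≤ centralizer (B.map (QuotientGroup.mk' Y) : Set (G ⧸ Y)) := by
  rw [← commutator_eq_bot_iff_le_centralizer, ← map_commutator, Subgroup.map_eq_bot_iff,
    QuotientGroup.ker_mk']

theorem commutator_sup_le {A₁ A₂ B Y : Subgroup G} [Y.Normal] (h1 : ⁅A₁, B⁆ ≤ Y)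
    (h2 : ⁅A₂, B⁆ ≤ Y) : ⁅A₁ ⊔ A₂, B⁆ ≤ Y := by
  rw [commutator_le_iff_mk] at h1 h2 ⊢
  rw [Subgroup.map_sup]
  exact sup_le h1 h2

theorem normalizer_inf_normalizer_le (A B : Subgroup G) :
    normalizer (A : Set G) ⊓ normalizer (B : Set G) ≤ normalizer ((A ⊓ B : Subgroup G) : Set G) :=
  fun _ hx => mem_normalizer_iff.mpr fun y =>
    Iff.and (mem_normalizer_iff.mp hx.1 y) (mem_normalizer_iff.mp hx.2 y)

theorem commutator_le_of_le {A S : Subgroup G} (hA : A ≤ S) : ⁅A, S⁆ ≤ S :=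
  (commutator_mono hA le_rfl).trans (commutator_le_self S)

/-- The outcome of the pushing up theorem in the second case. -/
structure PUCaseII (p : ℕ) (S : Subgroup G) {F : Type*} [Field F] (ρ : G →* SL(2, F))
    (T : Subgroup G) : Prop where
  eq_three : p = 3
  surj : Function.Surjective ρ
  ker : ρ.ker = pCore p G
  normal : T.Normal
  zR_le : zR p G ≤ T
  le_core : T ≤ pCore p G
  rep : IsRepOn ρ (zR p G) (zG p G)
  rep' : IsRepOn ρ (pCore p G) T
  central : ∃ N : Subgroup G, N.Normal ∧ N ⊔ S = ⊤ ∧ ⁅T, N⁆ ≤ zR p G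
  class_three : S.lowerCentralSeries 3 = ⊥
  class_ne_two : S.lowerCentralSeries 2 ≠ ⊥
  exponent : Monoid.exponent ↥S = 9
  refined : ∃ N : Subgroup G, N.Normal ∧ N ⊔ S = ⊤ ∧ ⁅T, N⁆ ≤ zR p G ∧
    ⁅pCore p G, pCore p G⁆ ≤ T ⊓ centralizer (N : Set G) ∧
    (∀ r ∈ pCore p G, r ^ p ∈ T ⊓ centralizer (N : Set G)) ∧
    ∀ w ∈ pCore p G, ∀ x ∈ S, ∃ v ∈ zR p G, ∀ x' ∈ S,
      ⁅⁅w, x⁆, x'⁆ * ⁅v, x'⁆⁻¹ ∈ T ⊓ centralizer (N : Set G)
  twist : ∃ χ : MulAut ↥S, tw χ (zR p G) ≤ pCore p G ∧ tw χ (zR p G) ⊓ T ≤ zS S ∧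
    T ≤ centralizer (tw χ (zR p G) : Set G)
  transversal : ∃ A : Subgroup G, A ≤ S ∧ A ≤ centralizer (A : Set G) ∧ A ⊔ pCore p G = S ∧
    Nat.card F * Nat.card ↥(A ⊓ pCore p G) ≤ Nat.card A ∧
    Nat.card S ≤ Nat.card F * Nat.card F * Nat.card ↥(S ⊓ centralizer (A : Set G))

variable {S : Sylow p G} {M : Subgroup G} {q : ℕ} {a : G} {F : Type*} [Field F] [Fintype F]

set_option maxHeartbeats 1000000 in
theorem PUBase.case_two (B : PUBase p (S : Subgroup G) M q a) {n : ℕ} (hn : Fintype.card F = p ^ n)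
    {φ : G →* Matrix.ProjectiveSpecialLinearGroup (Fin 2) F}
    (hker : φ.ker ⊓ (S : Subgroup G) = pCore p G)
    (hU : (cj a (S : Subgroup G)).map φ = (pUpper F).range)
    (hL : (S : Subgroup G).map φ = (pLower F).range) (hq : Fintype.card F = q)
    {χ : MulAut ↥(S : Subgroup G)}
    (hsm : ∀ i ≤ 1, ∀ X ∈ lev p (S : Subgroup G) i, X ≤ pCore p G)
    (hcrit : ⁅zR p G, push (S : Subgroup G) (per χ a 2) (zR p G)⁆ ≠ ⊥) :
    ∃ (ρ : G →* SL(2, F)) (T : Subgroup G), PUCaseII p (S : Subgroup G) ρ T := by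
  classical
  haveI := pCore_normal p G
  revert χ
  set S₀ := (S : Subgroup G)
  intro χ hcrit
  set R := pCore p G with hR
  set V := zR p G with hV
  set V0 := zG p G with hV0
  set C := zS S₀ with hC
  set V1 := cj a (tw χ V) with hV1
  set V2 := cj a (tw χ V1) with hV2
  set U := tw χ⁻¹ V with hUdef
  set U2 := tw χ⁻¹ (cj a⁻¹ U) with hU2
  have hcrit' : ⁅V, V2⁆ ≠ ⊥ := hcrit
  have hVS : V ≤ S₀ := B.zR_le
  have hVlev : V ∈ lev p S₀ 0 := rfl
  have hVR : V ≤ R := inf_le_left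
  have hV1R : V1 ≤ R := hsm 1 le_rfl _ ⟨a, χ, V, hVlev, rfl⟩
  have hUR : U ≤ R := hsm 1 le_rfl _ (tw_mem_lev _ hVlev)
  have hcjR : ∀ (g : G) {X : Subgroup G}, X ≤ R → cj g X ≤ R :=
    fun g X hX => (cj_mono hX).trans (cj_normal g R).le
  have hRS : R ≤ S₀ := B.core_le
  have hRSa : R ≤ cj a S₀ := (cj_normal a R).ge.trans (cj_mono hRS)
  have hRV : ∀ {X : Subgroup G}, X ≤ R → ⁅V, X⁆ = ⊥ := fun hX => PUCore.comm_of_le_core hX
  have hV2S : V2 ≤ cj a S₀ := cj_mono (tw_le _ _)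
  have hU2S : U2 ≤ S₀ := tw_le _ _
  have hUS : U ≤ S₀ := tw_le _ _
  have hthU : cj a (tw χ U) = V := by rw [hUdef, tw_tw_inv hVS, cj_normal]
  have hth'V1 : tw χ⁻¹ (cj a⁻¹ V1) = V := by rw [hV1, cj_inv_cj, tw_inv_tw hVS]
  have hth'V : tw χ⁻¹ (cj a⁻¹ V) = U := by rw [cj_normal a⁻¹ V]
  have hthU2 : cj a (tw χ U2) = U := by
    rw [hU2, tw_tw_inv ((hcjR _ hUR).trans hRS), cj_cj_inv]
  have hth'V2 : tw χ⁻¹ (cj a⁻¹ V2) = V1 := by
    rw [hV2, cj_inv_cj, tw_inv_tw (hV1R.trans hRS)]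
  -- noncommuting pairs
  have hUV1 : ⁅U, V1⁆ ≠ ⊥ := fun h => hcrit' (by
    have := cj_comm_bot (a := a) (tw_comm_bot (φ := χ) h)
    rwa [hthU] at this)
  have hVU2 : ⁅V, U2⁆ ≠ ⊥ := fun h => hUV1 (by
    have := cj_comm_bot (a := a) (tw_comm_bot (φ := χ) h)
    rwa [hthU2, commutator_comm] at this)
  have hnotR : ∀ {X : Subgroup G}, ⁅V, X⁆ ≠ ⊥ → ∃ x ∈ X, x ∉ R := fun h =>
    SetLike.not_le_iff_exists.mp fun hle => h (hRV hle)
  have hCR : C ≤ R := B.zS_le.trans hVR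
  set C1 := cj a C with hC1
  have hC1V : C1 ≤ V := B.cj_zS_le
  have hCU : C ≤ U := by
    rw [hUdef]; exact ((charIn_zS S₀).eq inf_le_left χ⁻¹).ge.trans (tw_mono B.zS_le)
  have hC1V1 : C1 ≤ V1 :=
    cj_mono (((charIn_zS S₀).eq inf_le_left χ).ge.trans (tw_mono B.zS_le))
  have hUq : ⁅U, S₀⁆ ≤ C := by
    have := (tw_mono (φ := χ⁻¹) B.quad).trans (charIn_zS S₀ χ⁻¹)
    rwa [tw_commutator hVS le_rfl, tw_self] at this
  have hV1q : ⁅V1, cj a S₀⁆ ≤ C1 := by
    have := cj_mono (a := a) ((tw_mono (φ := χ) B.quad).trans (charIn_zS S₀ χ))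
    rwa [tw_commutator hVS le_rfl, tw_self, cj_commutator] at this
  have hE : ⁅U, V1⁆ ≤ V0 := by
    rw [hV0, ← B.inf_eq]
    refine le_inf ((commutator_mono le_rfl (hV1R.trans hRS)).trans hUq) ?_
    rw [commutator_comm]
    exact (commutator_mono le_rfl (hUR.trans hRSa)).trans hV1q
  -- `Q`, `Q'`, `T`
  set Q := R ⊓ centralizer (V1 : Set G) with hQ
  set Q' := R ⊓ centralizer (U : Set G) with hQ'
  set T := Q ⊓ Q' with hT
  have hQR : Q ≤ R := inf_le_left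
  have hQ'R : Q' ≤ R := inf_le_left
  have hV1V1 : V1 ≤ centralizer (V1 : Set G) :=
    commutator_eq_bot_iff_le_centralizer.mp
      (cj_comm_bot (tw_comm_bot (commutator_eq_bot_iff_le_centralizer.mpr B.zR_comm)))
  have hUU : U ≤ centralizer (U : Set G) :=
    commutator_eq_bot_iff_le_centralizer.mp
      (tw_comm_bot (commutator_eq_bot_iff_le_centralizer.mpr B.zR_comm))
  have hV1Q : V1 ≤ Q := le_inf hV1R hV1V1
  have hUQ' : U ≤ Q' := le_inf hUR hUU
  have hVQ : V ≤ Q := le_inf hVR (commutator_eq_bot_iff_le_centralizer.mp (hRV hV1R))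
  have hVQ' : V ≤ Q' := le_inf hVR (commutator_eq_bot_iff_le_centralizer.mp (hRV hUR))
  have hVT : V ≤ T := le_inf hVQ hVQ'
  have hUQ : U ⊓ Q ≤ C := by
    obtain ⟨z, hz, hzR⟩ := hnotR (X := tw χ V1) fun h => hcrit' (by
      have := cj_comm_bot (a := a) h
      rwa [cj_normal a V] at this)
    have h0 : ⁅U ⊓ Q, V1⁆ = ⊥ := commutator_eq_bot_iff_le_centralizer.mpr
      (inf_le_right.trans inf_le_right)
    have h1 : tw χ (U ⊓ Q) ≤ V ⊓ centralizer ({z} : Set G) :=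
      le_inf ((tw_mono inf_le_left).trans (tw_tw_inv hVS).le)
        ((commutator_eq_bot_iff_le_centralizer.mp (tw_comm_bot h0)).trans
          (centralizer_le (Set.singleton_subset_iff.mpr hz)))
    rw [B.fix z (tw_le _ _ hz) hzR] at h1
    calc U ⊓ Q = tw χ⁻¹ (tw χ (U ⊓ Q)) := (tw_inv_tw (inf_le_left.trans hUS)).symm
      _ ≤ tw χ⁻¹ C := tw_mono h1
      _ ≤ C := charIn_zS S₀ χ⁻¹
  have hV1Q' : V1 ⊓ Q' ≤ C1 := by
    obtain ⟨z, hz, hzR⟩ := hnotR hVU2
    have h0 : ⁅V1 ⊓ Q', U⁆ = ⊥ := commutator_eq_bot_iff_le_centralizer.mpr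
      (inf_le_right.trans inf_le_right)
    have h1 : tw χ⁻¹ (cj a⁻¹ (V1 ⊓ Q')) ≤ V ⊓ centralizer ({z} : Set G) :=
      le_inf ((tw_mono (cj_mono inf_le_left)).trans hth'V1.le)
        ((commutator_eq_bot_iff_le_centralizer.mp (tw_comm_bot (cj_comm_bot h0))).trans
          (centralizer_le (Set.singleton_subset_iff.mpr hz)))
    rw [B.fix z (hU2S hz) hzR] at h1
    have h2 := cj_mono (a := a) ((tw_mono (φ := χ) h1).trans (charIn_zS S₀ χ))
    rwa [tw_tw_inv ((hcjR _ (inf_le_left.trans hV1R)).trans hRS), cj_cj_inv] at h2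
  have hqR : Nat.card R * q = Nat.card S₀ := by
    have := LocalEvenBasic.card_mul_relIndex_of_le R S₀ hRS
    rwa [B.data.index_core] at this
  have hcardV : Nat.card V = q * Nat.card C := B.card_zR
  -- images of `R`
  set Ra := cj a (tw χ R) with hRa
  have hRa' : Ra = cj a S₀ ⊓ centralizer (V1 : Set G) := by
    rw [hRa, hR, ← B.core_eq, tw_inf_centralizer hVS, cj_inf, cj_centralizer]
  have hQeq : Q = R ⊓ Ra := by rw [hRa', ← inf_assoc, inf_eq_left.mpr hRSa]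
  have hQ'eq : Q' = R ⊓ tw χ⁻¹ R := by
    conv_rhs => arg 2; rw [hR, ← B.core_eq, tw_inf_centralizer hVS]
    rw [← inf_assoc, inf_eq_left.mpr hRS]
  have hindex : ∀ (P X : Subgroup G), X ≤ P → Nat.card P = Nat.card S₀ → R ≤ P →
      Nat.card X = Nat.card R → Nat.card R ≤ q * Nat.card ↥(R ⊓ X) := by
    intro P X hXP hP hRP hX
    have h1 := card_sup_mul_card_inf_of_coe X R (mul_normal X R)
    rw [hX, inf_comm] at h1
    refine Nat.le_of_mul_le_mul_left (a := Nat.card R) ?_ (Nat.card_pos (α := ↥R))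
    calc Nat.card R * Nat.card R = Nat.card ↥(X ⊔ R) * Nat.card ↥(R ⊓ X) := h1.symm
      _ ≤ Nat.card S₀ * Nat.card ↥(R ⊓ X) :=
          Nat.mul_le_mul_right _ ((Nat.card_le_card_of_injective _ (inclusion_injective (sup_le hXP hRP))).trans hP.le)
      _ = _ := by rw [← hqR]; ring
  have hQidx : Nat.card R ≤ q * Nat.card Q := by
    rw [hQeq]
    exact hindex (cj a S₀) Ra (cj_mono (tw_le _ _)) (card_cj _ _) hRSa
      ((card_cj _ _).trans (card_tw hRS))
  have hQ'idx : Nat.card R ≤ q * Nat.card Q' := by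
    rw [hQ'eq]
    exact hindex S₀ _ (tw_le _ _) rfl hRS (card_tw hRS)
  have hcardU : Nat.card U = Nat.card V := card_tw hVS
  have hcardV1 : Nat.card V1 = Nat.card V := (card_cj _ _).trans (card_tw hVS)
  have hRnQ : R ≤ normalizer (Q : Set G) := by
    refine le_normalizer_iff_commutator_le_left.mpr (le_inf ((commutator_mono hQR le_rfl).trans
      (commutator_le_left R R)) ?_)
    refine commutator_eq_bot_iff_le_centralizer.mp (commutator_commutator_eq_bot_of_rotate ?_ ?_)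
    · refine le_bot_iff.mp ((commutator_mono ?_ le_rfl).trans (commutator_eq_bot_iff_le_centralizer.mpr
        (?_ : V1 ≤ centralizer (Q : Set G))).le)
      · rw [commutator_comm]
        exact ((commutator_mono le_rfl hRSa).trans hV1q).trans hC1V1
      · exact le_centralizer_iff.mp inf_le_right
    · rw [commutator_comm V1 Q, show ⁅Q, V1⁆ = ⊥ from
        commutator_eq_bot_iff_le_centralizer.mpr inf_le_right, commutator_bot_left]
  have hRnQ' : R ≤ normalizer (Q' : Set G) := by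
    refine le_normalizer_iff_commutator_le_left.mpr (le_inf ((commutator_mono hQ'R le_rfl).trans
      (commutator_le_left R R)) ?_)
    refine commutator_eq_bot_iff_le_centralizer.mp (commutator_commutator_eq_bot_of_rotate ?_ ?_)
    · refine le_bot_iff.mp ((commutator_mono ?_ le_rfl).trans (commutator_eq_bot_iff_le_centralizer.mpr
        (?_ : U ≤ centralizer (Q' : Set G))).le)
      · rw [commutator_comm]
        exact ((commutator_mono le_rfl hRS).trans hUq).trans hCU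
      · exact le_centralizer_iff.mp inf_le_right
    · rw [commutator_comm U Q', show ⁅Q', U⁆ = ⊥ from
        commutator_eq_bot_iff_le_centralizer.mpr inf_le_right, commutator_bot_left]
  have hsplit : ∀ (X Y : Subgroup G), X ≤ R → Y ≤ R → R ≤ normalizer (Y : Set G) →
      Nat.card ↥(X ⊓ Y) ≤ Nat.card C → Nat.card X = q * Nat.card C → Nat.card R ≤ q * Nat.card Y →
      X ⊔ Y = R ∧ Nat.card R = q * Nat.card Y := by
    intro X Y hX hY hn' hinf hcX hcY
    have h1 := card_sup_mul_card_inf_of_coe X Y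
      (coe_mul_of_left_le_normalizer_right X Y (hX.trans hn'))
    have h2 := card_le_of_le (sup_le hX hY)
    have h3 : q * Nat.card Y ≤ Nat.card ↥(X ⊔ Y) := by
      refine Nat.le_of_mul_le_mul_right ?_ (Nat.card_pos (α := ↥(X ⊓ Y)))
      rw [h1, hcX, mul_assoc, mul_assoc, mul_comm (Nat.card C)]
      exact Nat.mul_le_mul_left _ (Nat.mul_le_mul_left _ hinf)
    exact ⟨eq_of_le_of_card_ge (sup_le hX hY) (hcY.trans h3), le_antisymm hcY (h3.trans h2)⟩
  obtain ⟨hUQR, hcardQ⟩ := hsplit U Q hUR hQR hRnQ (card_le_of_le hUQ)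
    (hcardU.trans hcardV) hQidx
  obtain ⟨hV1Q'R, hcardQ'⟩ := hsplit V1 Q' hV1R hQ'R hRnQ'
    ((card_le_of_le hV1Q').trans (card_cj a C).le) (hcardV1.trans hcardV) hQ'idx
  have hQT : V1 ⊔ T = Q := by
    refine le_antisymm (sup_le hV1Q inf_le_left) fun x hx => ?_
    have hx' : x ∈ ((V1 ⊔ Q' : Subgroup G) : Set G) := hV1Q'R.ge (hQR hx)
    rw [coe_mul_of_left_le_normalizer_right V1 Q' (hV1R.trans hRnQ')] at hx'
    obtain ⟨v, hv, w, hw, rfl⟩ := hx'
    exact mul_mem (mem_sup_left hv)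
      (mem_sup_right ⟨by simpa using Q.mul_mem (Q.inv_mem (hV1Q hv)) hx, hw⟩)
  have hQ'T : U ⊔ T = Q' := by
    refine le_antisymm (sup_le hUQ' inf_le_right) fun x hx => ?_
    have hx' : x ∈ ((U ⊔ Q : Subgroup G) : Set G) := hUQR.ge (hQ'R hx)
    rw [coe_mul_of_left_le_normalizer_right U Q (hUR.trans hRnQ)] at hx'
    obtain ⟨v, hv, w, hw, rfl⟩ := hx'
    exact mul_mem (mem_sup_left hv)
      (mem_sup_right ⟨hw, by simpa using Q'.mul_mem (Q'.inv_mem (hUQ' hv)) hx⟩)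
  have hTR : T ≤ R := inf_le_left.trans hQR
  have hgen : U ⊔ V1 ⊔ T = R :=
    le_antisymm (sup_le (sup_le hUR hV1R) hTR)
      (by rw [sup_assoc, hQT, hUQR])
  have hcardT : Nat.card Q = q * Nat.card T := by
    have hVT' : V1 ⊓ T = C1 := by
      refine le_antisymm ((inf_le_inf_left _ inf_le_right).trans hV1Q') (le_inf hC1V1 ?_)
      exact (hC1V.trans hVT)
    have h1 := card_sup_mul_card_inf_of_coe V1 T (coe_mul_of_left_le_normalizer_right V1 T
      ((hV1R.trans (le_inf hRnQ hRnQ')).trans (normalizer_inf_normalizer_le Q Q')))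
    rw [hQT, hVT', card_cj, hcardV1, hcardV] at h1
    exact Nat.eq_of_mul_eq_mul_right (Nat.card_pos (α := ↥C)) (h1.trans (by ring))
  -- quadratic pieces
  have hQ2 : ⁅Q, V2⁆ ≤ V ∧ ∀ u ∈ Q, ∃ v ∈ V, ∀ x ∈ V2, ⁅u, x⁆ = ⁅v, x⁆ := by
    set Qa := cj a (tw χ Q)
    have hQaV2 : ⁅Qa, V2⁆ = ⊥ := cj_comm_bot (tw_comm_bot
      (commutator_eq_bot_iff_le_centralizer.mpr inf_le_right))
    have hsub : Q ≤ V ⊔ Qa := by
      have h1 : tw χ⁻¹ (cj a⁻¹ Q) ≤ R := by
        refine (tw_mono (cj_mono (hQeq.le.trans inf_le_right))).trans ?_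
        rw [hRa, cj_inv_cj, tw_inv_tw hRS]
      have h2 := cj_mono (a := a) (tw_mono (φ := χ) (h1.trans hUQR.ge))
      rwa [tw_tw_inv ((hcjR _ hQR).trans hRS), cj_cj_inv, tw_sup hUS (hQR.trans hRS), cj_sup,
        hthU] at h2
    have key : ∀ u ∈ Q, ∃ v ∈ V, ∀ x ∈ V2, ⁅u, x⁆ = ⁅v, x⁆ := by
      intro u hu
      have hu' : u ∈ ((V ⊔ Qa : Subgroup G) : Set G) := hsub hu
      rw [normal_mul V Qa] at hu'
      obtain ⟨v, hv, k, hk, rfl⟩ := hu'
      refine ⟨v, hv, fun x hx => ?_⟩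
      have hkx := mem_bot.mp (hQaV2.le (commutator_mem_commutator hk hx))
      rw [show ⁅v * k, x⁆ = v * ⁅k, x⁆ * v⁻¹ * ⁅v, x⁆ by simp only [commutatorElement_def]; group,
        hkx, mul_one, mul_inv_cancel, one_mul]
    refine ⟨commutator_le.mpr fun u hu x hx => ?_, key⟩
    obtain ⟨v, hv, e⟩ := key u hu
    rw [e x hx]
    exact commutator_le_left V ⊤ (commutator_mem_commutator hv (mem_top x))
  have hQ'2 : ⁅Q', U2⁆ ≤ V := by
    set Qb := tw χ⁻¹ (cj a⁻¹ Q')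
    have hQbU2 : ⁅Qb, U2⁆ = ⊥ := tw_comm_bot (cj_comm_bot
      (commutator_eq_bot_iff_le_centralizer.mpr inf_le_right))
    have h1 : cj a (tw χ Q') ≤ R := by
      rw [hR, ← B.core_eq_cj a]
      refine le_inf (cj_mono (tw_le _ _)) (commutator_eq_bot_iff_le_centralizer.mp ?_)
      have h0 : ⁅Q', U⁆ = ⊥ := commutator_eq_bot_iff_le_centralizer.mpr inf_le_right
      have := cj_comm_bot (a := a) (tw_comm_bot (φ := χ) h0)
      rwa [hthU] at this
    have h2 : Q' ≤ V ⊔ Qb := by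
      have := tw_mono (φ := χ⁻¹) (cj_mono (a := a⁻¹) (h1.trans hV1Q'R.ge))
      rwa [cj_inv_cj, tw_inv_tw (hQ'R.trans hRS), cj_sup,
        tw_sup ((hcjR _ hV1R).trans hRS) ((hcjR _ hQ'R).trans hRS), hth'V1] at this
    refine (commutator_mono h2 le_rfl).trans (commutator_sup_le ?_ (hQbU2.le.trans bot_le))
    exact (commutator_mono le_rfl le_top).trans (commutator_le_left V ⊤)
  have hsupS : ∀ (P X Y W : Subgroup G), X ≤ P → R ≤ P → Nat.card P = Nat.card S₀ →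
      Nat.card X = Nat.card V → Nat.card ↥(X ⊓ R) ≤ Nat.card C → X ⊔ R = P := by
    intro P X Y W hXP hRP hP hcX hinf
    refine eq_of_le_of_card_ge (sup_le hXP hRP) ?_
    have h1 := card_sup_mul_card_inf_of_coe X R (mul_normal X R)
    refine Nat.le_of_mul_le_mul_right ?_ (Nat.card_pos (α := ↥(X ⊓ R)))
    calc Nat.card P * Nat.card ↥(X ⊓ R) ≤ Nat.card R * q * Nat.card C := by
          rw [hP, ← hqR]; exact Nat.mul_le_mul_left _ hinf
      _ = Nat.card X * Nat.card R := by rw [hcX, hcardV]; ring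
      _ = _ := h1.symm
  have hS : U2 ⊔ R = S₀ := by
    refine hsupS S₀ U2 ⊥ ⊥ hU2S hRS rfl ?_ ?_
    · rw [hU2, card_tw ((hcjR _ hUR).trans hRS), card_cj, hcardU]
    · have h0 : ⁅U2 ⊓ R, V⁆ = ⊥ := by rw [commutator_comm]; exact hRV inf_le_right
      have h1 : cj a (tw χ (U2 ⊓ R)) ≤ U ⊓ Q := by
        refine le_inf ((cj_mono (tw_mono inf_le_left)).trans hthU2.le) (le_inf ?_ ?_)
        · exact ((cj_mono (tw_mono inf_le_left)).trans hthU2.le).trans hUR
        · exact commutator_eq_bot_iff_le_centralizer.mp (cj_comm_bot (tw_comm_bot h0))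
      have := card_le_of_le (h1.trans hUQ)
      rwa [card_cj, card_tw (inf_le_left.trans hU2S)] at this
  have hSa : V2 ⊔ R = cj a S₀ := by
    refine hsupS (cj a S₀) V2 ⊥ ⊥ hV2S hRSa (card_cj _ _) ?_ ?_
    · rw [hV2, card_cj, card_tw (hV1R.trans hRS), hcardV1]
    · have h0 : ⁅V2 ⊓ R, V⁆ = ⊥ := by rw [commutator_comm]; exact hRV inf_le_right
      have h1 : tw χ⁻¹ (cj a⁻¹ (V2 ⊓ R)) ≤ V1 ⊓ Q' := by
        refine le_inf ((tw_mono (cj_mono inf_le_left)).trans hth'V2.le) (le_inf ?_ ?_)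
        · exact ((tw_mono (cj_mono inf_le_left)).trans hth'V2.le).trans hV1R
        · have := commutator_eq_bot_iff_le_centralizer.mp (tw_comm_bot (φ := χ⁻¹)
            (cj_comm_bot (a := a⁻¹) h0))
          rwa [hth'V] at this
      have := card_le_of_le (h1.trans hV1Q')
      rwa [card_tw ((hcjR _ inf_le_right).trans hRS), card_cj, card_cj] at this
  -- `T` is normal
  obtain ⟨x₀, hx₀, hx₀R⟩ := hnotR hcrit'
  obtain ⟨y₀, hy₀, hy₀R⟩ := hnotR hVU2
  have hnormT : ∀ X : Subgroup G, ⁅T, X⁆ ≤ V → X ≤ normalizer (T : Set G) := fun X h =>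
    le_normalizer_iff_commutator_le_left.mpr (h.trans hVT)
  haveI hTn : T.Normal := by
    rw [← normalizer_eq_top_iff, eq_top_iff, ← B.gen (hV2S hx₀) hx₀R]
    refine sup_le (zpowers_le.mpr (hnormT V2 ((commutator_mono inf_le_left le_rfl).trans hQ2.1)
      hx₀)) ?_
    rw [← hS]
    exact sup_le (hnormT U2 ((commutator_mono inf_le_right le_rfl).trans hQ'2))
      ((le_inf hRnQ hRnQ').trans (normalizer_inf_normalizer_le Q Q'))
  set N := (centralizer (T.map (QuotientGroup.mk' V) : Set (G ⧸ V))).comap (QuotientGroup.mk' V)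
    with hNdef
  haveI : (T.map (QuotientGroup.mk' V)).Normal :=
    Normal.map inferInstance _ (QuotientGroup.mk'_surjective V)
  haveI hNn : N.Normal := by rw [hNdef]; exact Normal.comap inferInstance _
  have hTN : ⁅T, N⁆ ≤ V := by
    rw [commutator_le_iff_mk, le_centralizer_iff]
    exact map_comap_le _ _
  have hU2N : U2 ≤ N := by
    rw [hNdef, ← map_le_iff_le_comap, le_centralizer_iff, ← commutator_le_iff_mk]
    exact (commutator_mono inf_le_right le_rfl).trans hQ'2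
  have hNS : N ⊔ S₀ = ⊤ := B.sup_eq_top (hU2N hy₀) (hU2S hy₀) hy₀R
  -- `P`
  set P := T ⊓ centralizer (N : Set G) with hP
  haveI : P.Normal := Subgroup.normal_inf_normal T _
  have hV0V : V0 ≤ V := inf_le_left
  have hV0P : V0 ≤ P := le_inf (hV0V.trans hVT) (inf_le_right.trans (centralizer_le le_top))
  have hPR : P ≤ R := inf_le_left.trans hTR
  have hPV : P ⊓ V ≤ V0 := by
    intro v hv
    rw [hV0, ← B.inf_eq]
    refine ⟨?_, ?_⟩
    · rw [← B.fix y₀ (hU2S hy₀) hy₀R]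
      exact ⟨hv.2, mem_centralizer_singleton_iff.mpr
        (mem_centralizer_iff.mp hv.1.2 y₀ (hU2N hy₀)).symm⟩
    · have hy : a * y₀ * a⁻¹ ∈ cj a S₀ := mem_cj.mpr (by simpa [mul_assoc] using hU2S hy₀)
      rw [← B.fix_cj hy (fun h => hy₀R (by
        simpa [mul_assoc] using Normal.conj_mem ‹(pCore p G).Normal› _ h a⁻¹))]
      exact ⟨hv.2, mem_centralizer_singleton_iff.mpr
        (mem_centralizer_iff.mp hv.1.2 _ (hNn.conj_mem _ (hU2N hy₀) a)).symm⟩
  have hVV : ⁅V, V⁆ = ⊥ := commutator_eq_bot_iff_le_centralizer.mpr B.zR_comm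
  have hTT : ⁅T, T⁆ ≤ P := by
    refine le_inf (commutator_le_left T T) (commutator_eq_bot_iff_le_centralizer.mp
      (commutator_commutator_eq_bot_of_rotate ?_ ?_))
    · exact le_bot_iff.mp ((commutator_mono hTN le_rfl).trans (hRV hTR).le)
    · rw [commutator_comm N T]
      exact le_bot_iff.mp ((commutator_mono hTN le_rfl).trans (hRV hTR).le)
  have hR'P : ⁅R, R⁆ ≤ P := by
    have hUT : ⁅U, T⁆ = ⊥ := by
      rw [commutator_comm]; exact commutator_eq_bot_iff_le_centralizer.mpr (inf_le_right.trans inf_le_right)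
    have hV1T : ⁅V1, T⁆ = ⊥ := by
      rw [commutator_comm]; exact commutator_eq_bot_iff_le_centralizer.mpr (inf_le_left.trans inf_le_right)
    have h1 : ⁅U, U⁆ ≤ P :=
      (commutator_eq_bot_iff_le_centralizer.mpr hUU).le.trans bot_le
    have h2 : ⁅V1, V1⁆ ≤ P :=
      (commutator_eq_bot_iff_le_centralizer.mpr hV1V1).le.trans bot_le
    have h3 : ⁅U, V1⁆ ≤ P := hE.trans hV0P
    have h4 : ⁅U, T⁆ ≤ P := hUT.le.trans bot_le
    have h5 : ⁅V1, T⁆ ≤ P := hV1T.le.trans bot_le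
    rw [← hgen]
    refine commutator_sup_le (commutator_sup_le ?_ ?_) ?_ <;> rw [commutator_comm]
    · exact commutator_sup_le (commutator_sup_le h1 ((commutator_comm _ _).trans_le h3))
        ((commutator_comm _ _).trans_le h4)
    · exact commutator_sup_le (commutator_sup_le h3 h2) ((commutator_comm _ _).trans_le h5)
    · exact commutator_sup_le (commutator_sup_le h4 h5) hTT
  have hRT : ⁅R, R⁆ ≤ T := hR'P.trans inf_le_left
  have hRp : ∀ r ∈ R, r ^ p ∈ P := by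
    set π := QuotientGroup.mk' P
    have hab : R.map π ≤ centralizer (R.map π : Set (G ⧸ P)) := commutator_le_iff_mk.mp hR'P
    have hTp : ∀ t ∈ T, t ^ p ∈ P := by
      intro t ht
      refine ⟨T.pow_mem ht p, mem_centralizer_iff.mpr fun g hg => ?_⟩
      have hv : g * t * g⁻¹ * t⁻¹ ∈ V := by
        have := inv_mem (hTN (commutator_mem_commutator ht hg))
        rwa [commutatorElement_inv, commutatorElement_def] at this
      have hc : Commute (g * t * g⁻¹ * t⁻¹) t :=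
        (mem_centralizer_iff.mp hv.2 t (hTR ht)).symm
      have e : g * t ^ p * g⁻¹ = t ^ p := by
        rw [← conj_pow, show g * t * g⁻¹ = (g * t * g⁻¹ * t⁻¹) * t by group, hc.mul_pow,
          B.elem.2 _ hv, one_mul]
      exact mul_inv_eq_iff_eq_mul.mp e
    intro r hr
    rw [← hgen] at hr
    have key : ∀ z ∈ (U ⊔ V1) ⊔ T, z ∈ R ∧ z ^ p ∈ P := by
      intro z hz
      rw [sup_eq_closure, sup_eq_closure] at hz
      induction hz using closure_induction with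
      | mem z hz =>
        rcases hz with hz | hz
        · induction hz using closure_induction with
          | mem z hz =>
            rcases hz with ⟨v, hv, rfl⟩ | hz
            · refine ⟨hUR ⟨v, hv, rfl⟩, ?_⟩
              rw [← map_pow, show v ^ p = 1 from Subtype.ext (by
                rw [SubmonoidClass.coe_pow]; exact B.elem.2 _ hv), map_one]
              exact P.one_mem
            · refine ⟨hV1R hz, ?_⟩
              obtain ⟨v', ⟨v, hv, rfl⟩, rfl⟩ := hz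
              rw [← map_pow, ← map_pow, show v ^ p = 1 from Subtype.ext (by
                rw [SubmonoidClass.coe_pow]; exact B.elem.2 _ hv), map_one, map_one]
              exact P.one_mem
          | one => exact ⟨R.one_mem, by rw [one_pow]; exact P.one_mem⟩
          | mul x y _ _ hx hy =>
            refine ⟨R.mul_mem hx.1 hy.1, (QuotientGroup.eq_one_iff _).mp ?_⟩
            show π ((x * y) ^ p) = 1
            have hxy : Commute (π x) (π y) :=
              (mem_centralizer_iff.mp (hab (mem_map_of_mem π hx.1)) _ (mem_map_of_mem π hy.1)).symm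
            rw [map_pow, map_mul, hxy.mul_pow, ← map_pow, ← map_pow,
              show π (x ^ p) = 1 from (QuotientGroup.eq_one_iff _).mpr hx.2,
              show π (y ^ p) = 1 from (QuotientGroup.eq_one_iff _).mpr hy.2, mul_one]
          | inv x _ hx => exact ⟨R.inv_mem hx.1, by rw [inv_pow]; exact P.inv_mem hx.2⟩
        · exact ⟨hTR hz, hTp z hz⟩
      | one => exact ⟨R.one_mem, by rw [one_pow]; exact P.one_mem⟩
      | mul x y _ _ hx hy =>
        refine ⟨R.mul_mem hx.1 hy.1, (QuotientGroup.eq_one_iff _).mp ?_⟩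
        show π ((x * y) ^ p) = 1
        have hxy : Commute (π x) (π y) :=
          (mem_centralizer_iff.mp (hab (mem_map_of_mem π hx.1)) _ (mem_map_of_mem π hy.1)).symm
        rw [map_pow, map_mul, hxy.mul_pow, ← map_pow, ← map_pow,
          show π (x ^ p) = 1 from (QuotientGroup.eq_one_iff _).mpr hx.2,
          show π (y ^ p) = 1 from (QuotientGroup.eq_one_iff _).mpr hy.2, mul_one]
      | inv x _ hx => exact ⟨R.inv_mem hx.1, by rw [inv_pow]; exact P.inv_mem hx.2⟩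
    exact (key r hr).2
  -- characteristic subgroups inside `P`
  have hdP : ∀ X, CharIn S₀ X → X ≤ P → S₀ ≤ normalizer (X : Set G) → X = ⊥ := by
    intro X hX hXP hnX
    refine B.hd X (hXP.trans (hPR.trans hRS)) hX ?_
    rw [← normalizer_eq_top_iff, eq_top_iff, ← hNS]
    exact sup_le ((le_centralizer_iff.mp (hXP.trans inf_le_right)).trans
      (centralizer_le_normalizer _)) hnX
  -- the section `R/T`
  have hQ'S : ⁅Q', S₀⁆ ≤ T := by
    rw [commutator_comm, ← hS]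
    refine commutator_sup_le ?_ ((commutator_mono le_rfl hQ'R).trans hRT)
    rw [commutator_comm]; exact hQ'2.trans hVT
  have hcjU : cj a U ≤ Q := by
    refine le_inf (hcjR a hUR) (commutator_eq_bot_iff_le_centralizer.mp (cj_comm_bot ?_))
    have h1 : tw χ (tw χ V) ≤ R := by
      rw [tw_tw]; exact hsm 1 le_rfl _ (tw_mem_lev _ hVlev)
    have := tw_comm_bot (φ := χ⁻¹) (hRV h1)
    rwa [tw_inv_tw (tw_le _ _)] at this
  have hcjQ' : cj a Q' = Q := by
    refine eq_of_le_of_card_ge ?_ ?_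
    · rw [← hQ'T, cj_sup, cj_normal a T]; exact sup_le hcjU inf_le_left
    · rw [card_cj]
      exact (Nat.eq_of_mul_eq_mul_left (Nat.zero_lt_of_lt B.data.one_lt)
        (hcardQ.symm.trans hcardQ')).le
  have hV1U2 : ⁅V1, U2⁆ ≤ Q' := by
    refine le_inf ((commutator_mono hV1R le_top).trans (commutator_le_left R ⊤)) ?_
    refine commutator_eq_bot_iff_le_centralizer.mp (commutator_commutator_eq_bot_of_rotate ?_ ?_)
    · have := tw_comm_bot (φ := χ⁻¹) (cj_comm_bot (a := a⁻¹) (hRV hUR))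
      rw [hth'V] at this
      rw [commutator_comm U2 U, this, commutator_bot_left]
    · exact le_bot_iff.mp ((commutator_mono (hE.trans inf_le_right) le_top).trans
        (commutator_eq_bot_iff_le_centralizer.mpr le_rfl).le)
  have hRS' : ⁅R, S₀⁆ ≤ Q' := by
    rw [commutator_le]
    intro r hr s hs
    have hs' : s ∈ ((U2 ⊔ R : Subgroup G) : Set G) := hS.ge hs
    rw [mul_normal U2 R] at hs'
    obtain ⟨y, hy, r', hr', rfl⟩ := hs'
    have hyn : y ∈ normalizer (Q' : Set G) :=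
      le_normalizer_iff_commutator_le_left.mpr ((hQ'2.trans hVQ')) hy
    have hr₂ : r ∈ ((V1 ⊔ Q' : Subgroup G) : Set G) := hV1Q'R.ge hr
    rw [coe_mul_of_left_le_normalizer_right V1 Q' (hV1R.trans hRnQ')] at hr₂
    obtain ⟨v, hv, w, hw, rfl⟩ := hr₂
    have e : ⁅v * w, y * r'⁆ =
        (v * ⁅w, y⁆ * v⁻¹) * ⁅v, y⁆ * (y * ⁅v * w, r'⁆ * y⁻¹) := by
      simp only [commutatorElement_def]; group
    simp only [e]
    refine Q'.mul_mem (Q'.mul_mem ?_ (hV1U2 (commutator_mem_commutator hv hy))) ?_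
    · exact (mem_normalizer_iff.mp (hRnQ' (hV1R hv)) _).mp
        (hVQ' (hQ'2 (commutator_mem_commutator hw hy)))
    · exact (mem_normalizer_iff.mp hyn _).mp
        (inf_le_right (a := Q) (hRT (commutator_mem_commutator hr hr')))
  have hfix' : ∀ s ∈ cj a S₀, s ∉ R → ∀ r ∈ R, ⁅r, s⁆ ∈ T → r ∈ Q := by
    intro s hs hsR r hr hrs
    have hr' : r ∈ ((U ⊔ Q : Subgroup G) : Set G) := hUQR.ge hr
    rw [coe_mul_of_left_le_normalizer_right U Q (hUR.trans hRnQ)] at hr'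
    obtain ⟨w, hw, k, hk, rfl⟩ := hr'
    refine Q.mul_mem ?_ hk
    have hks : ⁅k, s⁆ ∈ T := by
      have h := cj_mono (a := a) hQ'S
      rw [cj_commutator, hcjQ', cj_normal a T] at h
      exact h (commutator_mem_commutator hk hs)
    set π := QuotientGroup.mk' T
    have hall : (⊤ : Subgroup G) ≤ (centralizer ({π w} : Set (G ⧸ T))).comap π := by
      rw [← B.gen hs hsR]
      have hmem : ∀ g, ⁅w, g⁆ ∈ T → g ∈ (centralizer ({π w} : Set (G ⧸ T))).comap π := fun g hg =>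
        mem_centralizer_singleton_iff.mpr (commutatorElement_eq_one_iff_mul_comm.mp (by
          rw [← map_commutatorElement]; exact (QuotientGroup.eq_one_iff _).mpr hg)).symm
      refine sup_le (zpowers_le.mpr (hmem s ?_)) fun g hg =>
        hmem g (hQ'S (commutator_mem_commutator (hUQ' hw) hg))
      have e : ⁅w, s⁆ = (w * ⁅k, s⁆ * w⁻¹)⁻¹ * ⁅w * k, s⁆ := by
        simp only [commutatorElement_def]; group
      rw [e]
      exact T.mul_mem (T.inv_mem (hTn.conj_mem _ hks w)) hrs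
    have h1 : π (a * w * a⁻¹) = π w := by
      rw [map_mul, map_mul, map_inv,
        show π a * π w = π w * π a from mem_centralizer_singleton_iff.mp (hall (mem_top a)),
        mul_inv_cancel_right]
    have h2 : (a * w * a⁻¹)⁻¹ * w ∈ T := QuotientGroup.eq.mp h1
    have h3 : a * w * a⁻¹ ∈ Q := hcjU (mem_cj.mpr (by simpa [mul_assoc] using hw))
    have h4 := Q.mul_mem h3 (inf_le_left (b := Q') h2)
    rwa [mul_inv_cancel_left] at h4
  have hnat : IsNatSection p S₀ a q R T Q' :=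
    { normX := inferInstance
      normY := hTn
      le_D := inf_le_right
      D_le := hQ'R
      sup := by
        rw [hcjQ']
        exact le_antisymm (sup_le hQ'R hQR) (hUQR.ge.trans (sup_le_sup_right hUQ' _))
      inf := by rw [hcjQ', inf_comm]
      card := by
        rw [← Nat.eq_of_mul_eq_mul_left (Nat.zero_lt_of_lt B.data.one_lt)
          (hcardQ.symm.trans hcardQ')]
        exact hcardT
      comm := hRT
      pow := fun r hr => (hRp r hr).1
      core := hRT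
      quad := hRS'
      triv := hQ'S
      fix := fun s hs hsR r hr h => by
        have h1 : a * r * a⁻¹ ∈ Q := by
          refine hfix' (a * s * a⁻¹) (mem_cj.mpr (by simpa [mul_assoc] using hs)) (fun h' => hsR ?_)
            _ (Normal.conj_mem inferInstance r hr a) ?_
          · simpa [mul_assoc] using Normal.conj_mem ‹(pCore p G).Normal› _ h' a⁻¹
          · rw [show ⁅a * r * a⁻¹, a * s * a⁻¹⁆ = a * ⁅r, s⁆ * a⁻¹ by
              simp only [commutatorElement_def]; group]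
            exact hTn.conj_mem _ h a
        rw [← hcjQ'] at h1
        simpa [mul_assoc] using mem_cj.mp h1 }
  obtain ⟨ρ, ψ, hstd, hρ, hψ, hψker, hψeq, hρker, -, hψ1⟩ :=
    B.natSection.exists_rep B.toPUCore hn hker hU hL hq
  obtain ⟨ρ', ψ', hstd', -, hψ', hψ'ker, hψ'eq, hρ'ker, -, hψ'1⟩ :=
    hnat.exists_rep B.toPUCore hn hker hU hL hq
  obtain rfl := Standard.eq B.toPUCore hU hL hstd hstd'
  have hkerR : ρ.ker = R := by
    refine le_antisymm (le_core_of_centralizing B.data.cpSelf fun x hx hxp => ?_) fun r hr =>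
      (hρker r).mpr fun v hv => B.natSection.core (commutator_mem_commutator hv hr)
    have hxN := mem_of_sup_eq_top B.data.isPGroup hNS hxp
    have h0 : ∀ y ∈ V0, Commute x y := fun y hy => mem_centralizer_iff.mp hy.2 x (mem_top x)
    have h1 := commute_step B.data.isPGroup (hV0V.trans hVS) hxp h0 ((hρker x).mp hx)
    have h2 := commute_step B.data.isPGroup hVS hxp h1
      fun t ht => hTN (commutator_mem_commutator ht hxN)
    have h3 := commute_step B.data.isPGroup (hTR.trans hRS) hxp h2 ((hρ'ker x).mp hx)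
    exact mem_centralizer_iff.mpr fun r hr => (h3 r hr).eq.symm
  -- cubic action
  have hRSQ : ⁅R, cj a S₀⁆ ≤ Q := by
    have := cj_mono (a := a) hRS'
    rwa [cj_commutator, cj_normal a R, hcjQ'] at this
  have hcub : ∀ w ∈ R, ∀ x ∈ cj a S₀, ∃ v ∈ V, ∀ x' ∈ V2, ⁅⁅w, x⁆, x'⁆ = ⁅v, x'⁆ :=
    fun w hw x hx => hQ2.2 _ (hRSQ (commutator_mem_commutator hw hx))
  have hVC1 : ⁅V, cj a S₀⁆ ≤ C1 := by
    have := cj_mono (a := a) B.quad
    rwa [cj_commutator, cj_normal a V] at this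
  have hone : ∀ v ∈ V, ∀ x ∈ cj a S₀, ⁅v, x⁆ ∈ V0 → ⁅v, x⁆ = 1 := by
    intro v hv x hx h
    have h2 := B.commutator_eq_one (v := a⁻¹ * v * a) (s := a⁻¹ * x * a)
      (by simpa using Normal.conj_mem (zR_normal (G := G) p) v hv a⁻¹) (mem_cj.mp hx) (by
        rw [show ⁅a⁻¹ * v * a, a⁻¹ * x * a⁆ = a⁻¹ * ⁅v, x⁆ * a by
          simp only [commutatorElement_def]; group]
        simpa using Normal.conj_mem (zG_normal (G := G) p) _ h a⁻¹)
    rw [show ⁅v, x⁆ = a * ⁅a⁻¹ * v * a, a⁻¹ * x * a⁆ * a⁻¹ by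
      simp only [commutatorElement_def]; group, h2, mul_one, mul_inv_cancel]
  have hSan : cj a S₀ ≤ normalizer ((C1 ⊔ P : Subgroup G) : Set G) := by
    intro s hs
    refine mem_normalizer_iff_map_conj_eq.mpr ?_
    rw [Subgroup.map_sup]
    refine congrArg₂ (· ⊔ ·) ?_ (cj_normal s P)
    ext y
    show y ∈ cj s C1 ↔ y ∈ C1
    have hcs : ∀ c ∈ C1, Commute c s := fun c hc => by
      have h1 := mem_centralizer_iff.mp (mem_cj.mp hc).2 _ (mem_cj.mp hs)
      show c * s = s * c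
      calc c * s = a * ((a⁻¹ * c * a) * (a⁻¹ * s * a)) * a⁻¹ := by group
        _ = a * ((a⁻¹ * s * a) * (a⁻¹ * c * a)) * a⁻¹ := by rw [h1]
        _ = s * c := by group
    rw [mem_cj]
    constructor
    · intro hy
      rw [show y = s * (s⁻¹ * y * s) * s⁻¹ by group, ← (hcs _ hy).eq, mul_inv_cancel_right]
      exact hy
    · intro hy
      rwa [mul_assoc, (hcs y hy).eq, inv_mul_cancel_left]
  have hgamma : ∀ Y : Subgroup G, P ≤ Y → cj a S₀ ≤ normalizer (Y : Set G) →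
      (∀ w ∈ R, ∀ x ∈ V2, ∀ x' ∈ V2, ⁅⁅w, x⁆, x'⁆ ∈ Y) →
      ⁅⁅cj a S₀, cj a S₀⁆, cj a S₀⁆ ≤ Y := by
    intro Y hPY hY hyp
    have hconj : ∀ s ∈ cj a S₀, ∀ y ∈ Y, s * y * s⁻¹ ∈ Y :=
      fun s hs y hy => (mem_normalizer_iff.mp (hY hs) y).mp hy
    let Z : Subgroup G :=
      { carrier := {g | g ∈ R ∧ ∀ s ∈ cj a S₀, ⁅g, s⁆ ∈ Y}
        one_mem' := ⟨R.one_mem, fun s _ => by rw [commutatorElement_one_left]; exact Y.one_mem⟩
        mul_mem' := fun {g g'} hg hg' => ⟨R.mul_mem hg.1 hg'.1, fun s hs => by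
          rw [show ⁅g * g', s⁆ = g * ⁅g', s⁆ * g⁻¹ * ⁅g, s⁆ by
            simp only [commutatorElement_def]; group]
          exact Y.mul_mem (hconj g (hRSa hg.1) _ (hg'.2 s hs)) (hg.2 s hs)⟩
        inv_mem' := fun {g} hg => ⟨R.inv_mem hg.1, fun s hs => by
          rw [show ⁅g⁻¹, s⁆ = g⁻¹ * ⁅g, s⁆⁻¹ * g⁻¹⁻¹ by simp only [commutatorElement_def]; group]
          exact hconj _ ((cj a S₀).inv_mem (hRSa hg.1)) _ (Y.inv_mem (hg.2 s hs))⟩ }
    have hPZ : P ≤ Z := fun π hπ => ⟨hPR hπ, fun s _ => hPY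
      (commutator_le_left P ⊤ (commutator_mem_commutator hπ (mem_top s)))⟩
    have hZc : ∀ s ∈ cj a S₀, ∀ g ∈ Z, s * g * s⁻¹ ∈ Z := fun s hs g hg =>
      ⟨Normal.conj_mem inferInstance g hg.1 s, fun s' hs' => by
        rw [show ⁅s * g * s⁻¹, s'⁆ = s * ⁅g, s⁻¹ * s' * s⁆ * s⁻¹ by
          simp only [commutatorElement_def]; group]
        exact hconj s hs _ (hg.2 _ ((cj a S₀).mul_mem ((cj a S₀).mul_mem
          ((cj a S₀).inv_mem hs) hs') hs))⟩
    have hZ : ∀ w ∈ R, ∀ x ∈ V2, ⁅w, x⁆ ∈ Z := fun w hw x hx =>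
      ⟨commutator_le_left R ⊤ (commutator_mem_commutator hw (mem_top x)), fun s hs => by
        have hs' : s ∈ ((V2 ⊔ R : Subgroup G) : Set G) := hSa.ge hs
        rw [mul_normal V2 R] at hs'
        obtain ⟨x', hx', r, hr, rfl⟩ := hs'
        rw [show ⁅⁅w, x⁆, x' * r⁆ = ⁅⁅w, x⁆, x'⁆ * (x' * ⁅⁅w, x⁆, r⁆ * x'⁻¹) by
          simp only [commutatorElement_def]; group]
        refine Y.mul_mem (hyp w hw x hx x' hx') (hconj x' (hV2S hx') _ (hPY (hR'P ?_)))
        exact commutator_mem_commutator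
          (commutator_le_left R ⊤ (commutator_mem_commutator hw (mem_top x))) hr⟩
    have hV2ab : ⁅V2, V2⁆ = ⊥ :=
      cj_comm_bot (tw_comm_bot (commutator_eq_bot_iff_le_centralizer.mpr hV1V1))
    have hZle : ⁅cj a S₀, cj a S₀⁆ ≤ Z := by
      rw [commutator_le]
      intro s hs s' hs'
      have hs₁ : s ∈ ((V2 ⊔ R : Subgroup G) : Set G) := hSa.ge hs
      have hs₂ : s' ∈ ((V2 ⊔ R : Subgroup G) : Set G) := hSa.ge hs'
      rw [mul_normal V2 R] at hs₁ hs₂
      obtain ⟨x, hx, r, hr, rfl⟩ := hs₁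
      obtain ⟨x', hx', r', hr', rfl⟩ := hs₂
      have e : ⁅x * r, x' * r'⁆ = x * (⁅r, x'⁆ * (x' * ⁅r, r'⁆ * x'⁻¹)) * x⁻¹ *
          (⁅x, x'⁆ * (x' * ⁅r', x⁆⁻¹ * x'⁻¹)) := by
        simp only [commutatorElement_def]; group
      simp only [e]
      refine Z.mul_mem (hZc x (hV2S hx) _ (Z.mul_mem (hZ r hr x' hx')
        (hZc x' (hV2S hx') _ (hPZ (hR'P (commutator_mem_commutator hr hr')))))) (Z.mul_mem ?_ ?_)
      · rw [mem_bot.mp (hV2ab.le (commutator_mem_commutator hx hx'))]; exact Z.one_mem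
      · exact hZc x' (hV2S hx') _ (Z.inv_mem (hZ r' hr' x hx))
    refine (commutator_mono hZle le_rfl).trans ?_
    rw [commutator_le]
    exact fun g hg s hs => hg.2 s hs
  have hback : ∀ {Y : Subgroup G}, ⁅⁅cj a S₀, cj a S₀⁆, cj a S₀⁆ ≤ cj a Y →
      ⁅⁅S₀, S₀⁆, S₀⁆ ≤ Y := fun h => by
    rw [← cj_commutator, ← cj_commutator] at h
    simpa [cj_inv_cj] using cj_mono (a := a⁻¹) h
  set γ := ⁅⁅S₀, S₀⁆, S₀⁆ with hγ
  have hS'le : ⁅S₀, S₀⁆ ≤ S₀ := commutator_le_self S₀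
  have hγchar : CharIn S₀ γ :=
    (charIn_self.commutator charIn_self le_rfl le_rfl).commutator charIn_self hS'le le_rfl
  -- `γ₃(S)` is not in `P`
  have hγne : γ ≠ ⊥ := by
    obtain ⟨v₁, hv₁, hv₁Q⟩ : ∃ v ∈ V1, v ∉ Q' := by
      refine SetLike.not_le_iff_exists.mp fun h => hUV1 ?_
      rw [commutator_comm]
      exact commutator_eq_bot_iff_le_centralizer.mpr (h.trans inf_le_right)
    have hu : ⁅v₁, y₀⁆ ∈ Q' := hRS' (commutator_mem_commutator (hV1R hv₁) (hU2S hy₀))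
    have huT : ⁅v₁, y₀⁆ ∉ T := fun h =>
      hv₁Q (hnat.fix y₀ (hU2S hy₀) hy₀R v₁ (hV1R hv₁) h)
    obtain ⟨v, hv, hne⟩ : ∃ v ∈ V1, ⁅⁅v₁, y₀⁆, v⁆ ≠ 1 := by
      by_contra hno
      push Not at hno
      exact huT ⟨⟨hQ'R hu, mem_centralizer_iff.mpr fun v hv =>
        (commutatorElement_eq_one_iff_mul_comm.mp (hno v hv)).symm⟩, hu⟩
    intro h
    exact hne (mem_bot.mp (h.le (commutator_mem_commutator
      (commutator_mem_commutator ((hV1R.trans hRS) hv₁) (hU2S hy₀)) ((hV1R.trans hRS) hv))))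
  have hnotP : ¬ γ ≤ P := fun hle => hγne (hdP γ hγchar hle (by
    rw [le_normalizer_iff_commutator_le_left]
    exact commutator_mono (commutator_mono hS'le le_rfl) le_rfl))
  -- some `[w, x, x]` is outside `P`
  obtain ⟨w₁, hw₁, x₁, hx₁, hf₁⟩ : ∃ w ∈ R, ∃ x ∈ V2, ⁅⁅w, x⁆, x⁆ ∉ P := by
    by_contra hno
    push Not at hno
    refine hnotP (hback ?_)
    rw [cj_normal a P]
    refine hgamma P le_rfl (by rw [normalizer_eq_top]; exact le_top) fun w hw x hx x' hx' => ?_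
    by_cases hxR : x ∈ R
    · exact commutator_le_left P ⊤ (commutator_mem_commutator
        (hR'P (commutator_mem_commutator hw hxR)) (mem_top x'))
    obtain ⟨v, hv, e⟩ := hcub w hw x (hV2S hx)
    have h1 : ⁅v, x⁆ = 1 := by
      refine hone v hv x (hV2S hx) (hPV ⟨?_, ?_⟩)
      · rw [← e x hx]; exact hno w hw x hx
      · exact commutator_le_left V ⊤ (commutator_mem_commutator hv (mem_top x))
    have h2 : v ∈ C1 := by
      rw [hC1, hC, ← B.fix_cj (hV2S hx) hxR]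
      exact ⟨hv, mem_centralizer_singleton_iff.mpr (commutatorElement_eq_one_iff_mul_comm.mp h1)⟩
    have h3 : ⁅v, x'⁆ = 1 := by
      refine commutatorElement_eq_one_iff_mul_comm.mpr ?_
      have h4 := mem_centralizer_iff.mp (mem_cj.mp h2).2 _ (mem_cj.mp (hV2S hx'))
      calc v * x' = a * ((a⁻¹ * v * a) * (a⁻¹ * x' * a)) * a⁻¹ := by group
        _ = a * ((a⁻¹ * x' * a) * (a⁻¹ * v * a)) * a⁻¹ := by rw [h4]
        _ = x' * v := by group
    rw [e x' hx', h3]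
    exact P.one_mem
  -- computing modulo `P`
  set π := QuotientGroup.mk' P with hπ
  have hπP : ∀ g, π g = 1 ↔ g ∈ P := fun g => QuotientGroup.eq_one_iff g
  have hRab : ∀ r ∈ R, ∀ r' ∈ R, Commute (π r) (π r') := fun r hr r' hr' =>
    commutatorElement_eq_one_iff_mul_comm.mp (by
      rw [← map_commutatorElement]
      exact (hπP _).mpr (hR'P (commutator_mem_commutator hr hr')))
  have hRexp : ∀ r ∈ R, π r ^ p = 1 := fun r hr => by rw [← map_pow]; exact (hπP _).mpr (hRp r hr)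
  have hfacts : ∀ w ∈ R, ∀ x ∈ V2, ⁅w, x⁆ ∈ R ∧ ⁅⁅w, x⁆, x⁆ ∈ C1 ∧ Commute ⁅⁅w, x⁆, x⁆ x := by
    intro w hw x hx
    refine ⟨commutator_le_left R ⊤ (commutator_mem_commutator hw (mem_top x)), ?_⟩
    obtain ⟨v, hv, e⟩ := hcub w hw x (hV2S hx)
    rw [e x hx]
    have hm : ⁅v, x⁆ ∈ C1 := hVC1 (commutator_mem_commutator hv (hV2S hx))
    refine ⟨hm, ?_⟩
    have h4 := mem_centralizer_iff.mp (mem_cj.mp hm).2 _ (mem_cj.mp (hV2S hx))
    show _ = _
    calc ⁅v, x⁆ * x = a * ((a⁻¹ * ⁅v, x⁆ * a) * (a⁻¹ * x * a)) * a⁻¹ := by group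
      _ = a * ((a⁻¹ * x * a) * (a⁻¹ * ⁅v, x⁆ * a)) * a⁻¹ := by rw [h4]
      _ = x * ⁅v, x⁆ := by group
  have hp := (Fact.out : p.Prime)
  have hp2 : p ≠ 2 := by
    intro h2
    subst h2
    obtain ⟨hu, -, -⟩ := hfacts w₁ hw₁ x₁ hx₁
    have hx2 : x₁ * x₁ = 1 := by
      obtain ⟨t, ht, rfl⟩ := hx₁
      obtain ⟨v', hv', rfl⟩ := ht
      obtain ⟨t', ht', e⟩ := hv'
      obtain ⟨v, hv, rfl⟩ := ht'
      have hv2 : (v : ↥S₀) ^ 2 = 1 := Subtype.ext (by
        rw [SubmonoidClass.coe_pow]; exact B.elem.2 _ hv)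
      rw [← map_mul, ← map_mul, show v' * v' = 1 from ?_, map_one, map_one]
      refine Subtype.ext ?_
      show (v' : G) * v' = 1
      rw [show (v' : G) = _ from e.symm, ← map_mul, ← map_mul, ← sq, hv2, map_one, map_one]
    have hxi : x₁⁻¹ = x₁ := inv_eq_of_mul_eq_one_right hx2
    refine hf₁ ?_
    have e : ⁅⁅w₁, x₁⁆, x₁⁆ = ⁅w₁, x₁⁆ ^ 2 := by
      simp only [commutatorElement_def, sq, mul_inv_rev, inv_inv, hxi, mul_assoc]
      simp only [← mul_assoc x₁ x₁, hx2, one_mul]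
    rw [e]
    exact hRp _ hu
  have hp3 : p = 3 := by
    by_contra h3
    obtain ⟨hu, hfC, hfx⟩ := hfacts w₁ hw₁ x₁ hx₁
    set u := ⁅w₁, x₁⁆ with hudef
    set f := ⁅u, x₁⁆ with hfdef
    set X := π x₁ with hX
    have hfR : f ∈ R := hC1V.trans hVR hfC
    have hfX : Commute (π f) X := hfx.map π
    -- a torus element
    haveI : CharP F p := charP_of_card_eq_prime_pow (f := n) hn
    have h2F : (2 : F) ≠ 0 := fun h => hp2 ((Nat.prime_dvd_prime_iff_eq hp Nat.prime_two).mp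
      ((CharP.cast_eq_zero_iff F p 2).mp (by exact_mod_cast h)))
    obtain ⟨h, hh⟩ := hρ (diagHom (Units.mk0 (2 : F) h2F))
    obtain ⟨t, ht⟩ := hU.le (mem_map_of_mem φ (hV2S hx₁))
    have hρx : ρ x₁ = upperHom F t := hstd.1 x₁ (hV2S hx₁) t ht.symm
    set r := (x₁ ^ 4)⁻¹ * (h * x₁ * h⁻¹) with hrdef
    have hrR : r ∈ R := by
      rw [← hkerR, MonoidHom.mem_ker, hrdef, map_mul, map_mul, map_mul, map_inv, map_inv, map_pow,
        hρx, hh, inv_mul_eq_one, ← map_pow]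
      conv_rhs => rw [show upperHom F t = upperHom F (.ofAdd t.toAdd) from rfl, diag_mul_upper,
        mul_inv_cancel_right]
      congr 1
      apply Multiplicative.toAdd.injective
      rw [toAdd_pow, toAdd_ofAdd, nsmul_eq_mul, Units.val_mk0]
      norm_num
    have hconj : h * x₁ * h⁻¹ = x₁ ^ 4 * r := by rw [hrdef, mul_inv_cancel_left]
    set w' := h * w₁ * h⁻¹ with hw'def
    have hw'R : w' ∈ R := Normal.conj_mem inferInstance w₁ hw₁ h
    -- `[·, x₁]` on `R` modulo `P`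
    have hcomm : ∀ r₁ ∈ R, ∀ r₂ ∈ R,
        π ⁅r₁ * r₂, x₁⁆ = π ⁅r₁, x₁⁆ * π ⁅r₂, x₁⁆ := by
      intro r₁ hr₁ r₂ hr₂
      have h2 := commutator_le_left R ⊤ (commutator_mem_commutator hr₂ (mem_top x₁))
      have h1 := commutator_le_left R ⊤ (commutator_mem_commutator hr₁ (mem_top x₁))
      rw [show ⁅r₁ * r₂, x₁⁆ = r₁ * ⁅r₂, x₁⁆ * r₁⁻¹ * ⁅r₁, x₁⁆ by
        simp only [commutatorElement_def]; group, map_mul, map_mul, map_mul, map_inv,
        (hRab r₁ hr₁ _ h2).eq, mul_inv_cancel_right, (hRab _ h2 _ h1).eq]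
    have hpowk : ∀ r₁ ∈ R, Commute (π ⁅r₁, x₁⁆) X → ∀ k : ℕ,
        π ⁅r₁, x₁ ^ k⁆ = π ⁅r₁, x₁⁆ ^ k := by
      intro r₁ _ hc k
      induction k with
      | zero => rw [pow_zero, pow_zero, commutatorElement_one_right, map_one]
      | succ k ih =>
        rw [pow_succ', show ⁅r₁, x₁ * x₁ ^ k⁆ = ⁅r₁, x₁⁆ * (x₁ * ⁅r₁, x₁ ^ k⁆ * x₁⁻¹) by
          simp only [commutatorElement_def]; group, map_mul, map_mul, map_mul, map_inv, ih,
          show π x₁ = X from rfl, (hc.pow_left k).symm.eq, mul_inv_cancel_right, pow_succ']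
    have hFhom : ∀ r₁ ∈ R, ∀ r₂ ∈ R,
        π ⁅⁅r₁ * r₂, x₁⁆, x₁⁆ = π ⁅⁅r₁, x₁⁆, x₁⁆ * π ⁅⁅r₂, x₁⁆, x₁⁆ := by
      intro r₁ hr₁ r₂ hr₂
      have e1 := (hfacts r₁ hr₁ x₁ hx₁).1
      have e2 := (hfacts r₂ hr₂ x₁ hx₁).1
      rw [← hcomm _ e1 _ e2, map_commutatorElement π ⁅r₁ * r₂, x₁⁆, hcomm r₁ hr₁ r₂ hr₂, ← map_mul,
        ← map_commutatorElement]
    set F' := fun w : G => π ⁅⁅w, x₁⁆, x₁⁆ with hF'
    -- `[w, x⁴, x⁴] = [w, x, x]¹⁶`
    have h16 : ∀ w ∈ R, π ⁅⁅w, x₁ ^ 4⁆, x₁ ^ 4⁆ = F' w ^ 16 := by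
      intro w hw
      obtain ⟨hu', hfC', hfx'⟩ := hfacts w hw x₁ hx₁
      set u' := ⁅w, x₁⁆
      set f' := ⁅u', x₁⁆
      have hfR' : f' ∈ R := hC1V.trans hVR hfC'
      have hxu : ∀ k, ∃ j : ℕ, π ⁅w, x₁ ^ k⁆ = π u' ^ k * (π f')⁻¹ ^ j := by
        intro k
        induction k with
        | zero => exact ⟨0, by simp⟩
        | succ k ih =>
          obtain ⟨j, hj⟩ := ih
          refine ⟨k + j, ?_⟩
          have hxu' : X * π u' * X⁻¹ = (π f')⁻¹ * π u' := by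
            rw [hX, ← map_inv, ← map_mul, ← map_mul, ← map_inv, ← map_mul]
            congr 1
            simp only [f', commutatorElement_def]; group
          have hcf : Commute (π f') (π u') := hRab f' hfR' u' hu'
          have hxf : X * (π f')⁻¹ ^ j * X⁻¹ = (π f')⁻¹ ^ j := by
            rw [(((hfx'.map π).inv_left).pow_left j).symm.eq, mul_inv_cancel_right]
          rw [pow_succ', show ⁅w, x₁ * x₁ ^ k⁆ = u' * (x₁ * ⁅w, x₁ ^ k⁆ * x₁⁻¹) by
            simp only [u', commutatorElement_def]; group, map_mul, map_mul, map_mul, map_inv, hj,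
            show π x₁ = X from rfl,
            show X * (π u' ^ k * (π f')⁻¹ ^ j) * X⁻¹ =
              (X * π u' * X⁻¹) ^ k * (X * (π f')⁻¹ ^ j * X⁻¹) by rw [conj_pow]; group,
            hxu', hxf, (hcf.inv_left).mul_pow, pow_succ' (π u'), pow_add]
          simp only [← mul_assoc]
          congr 1
          rw [mul_assoc, ((hcf.inv_left).pow_pow k k).eq, ← mul_assoc]
      obtain ⟨j, hj⟩ := hxu 4
      have e3 : π ⁅⁅w, x₁ ^ 4⁆, x₁ ^ 4⁆ = ⁅π u' ^ 4 * (π f')⁻¹ ^ j, π (x₁ ^ 4)⁆ := by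
        rw [map_commutatorElement, hj]
      have hu4 : u' ^ 4 ∈ R := R.pow_mem hu' 4
      have hfj : ⁅(π f')⁻¹ ^ j, π (x₁ ^ 4)⁆ = 1 := by
        rw [commutatorElement_eq_one_iff_mul_comm, map_pow]
        exact ((((hfx'.map π).inv_left).pow_left j).pow_right 4).eq
      have e4 : ⁅π u' ^ 4, π (x₁ ^ 4)⁆ = F' w ^ 16 := by
        rw [← map_pow, ← map_commutatorElement, hpowk (u' ^ 4) hu4 ?_ 4]
        · rw [show π ⁅u' ^ 4, x₁⁆ = π f' ^ 4 by
            rw [show u' ^ 4 = u' * u' * (u' * u') by rw [show (4 : ℕ) = 2 + 2 from rfl, pow_add, sq],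
              hcomm _ (R.mul_mem hu' hu') _ (R.mul_mem hu' hu'), hcomm _ hu' _ hu',
              show (4 : ℕ) = 2 + 2 from rfl, pow_add, sq], ← pow_mul]
        · rw [show u' ^ 4 = u' * u' * (u' * u') by rw [show (4 : ℕ) = 2 + 2 from rfl, pow_add, sq],
            hcomm _ (R.mul_mem hu' hu') _ (R.mul_mem hu' hu'), hcomm _ hu' _ hu']
          exact ((hfx'.map π).mul_left (hfx'.map π)).mul_left ((hfx'.map π).mul_left (hfx'.map π))
      rw [e3, show ⁅π u' ^ 4 * (π f')⁻¹ ^ j, π (x₁ ^ 4)⁆ = π u' ^ 4 *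
        ⁅(π f')⁻¹ ^ j, π (x₁ ^ 4)⁆ * (π u' ^ 4)⁻¹ * ⁅π u' ^ 4, π (x₁ ^ 4)⁆ by
          simp only [commutatorElement_def]; group, hfj, mul_one, mul_inv_cancel, one_mul, e4]
    -- weights
    have hfh : π (h * f * h⁻¹) = F' w' ^ 16 := by
      rw [← h16 w' hw'R, hfdef, hudef,
        show h * ⁅⁅w₁, x₁⁆, x₁⁆ * h⁻¹ = ⁅⁅h * w₁ * h⁻¹, h * x₁ * h⁻¹⁆, h * x₁ * h⁻¹⁆ by
          simp only [commutatorElement_def]; group, hconj]
      have hstep : ∀ z ∈ R, π ⁅z, x₁ ^ 4 * r⁆ = π ⁅z, x₁ ^ 4⁆ := fun z hz => by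
        rw [show ⁅z, x₁ ^ 4 * r⁆ = ⁅z, x₁ ^ 4⁆ * (x₁ ^ 4 * ⁅z, r⁆ * (x₁ ^ 4)⁻¹) by
          simp only [commutatorElement_def]; group, map_mul]
        rw [show π (x₁ ^ 4 * ⁅z, r⁆ * (x₁ ^ 4)⁻¹) = 1 from (hπP _).mpr
          (Normal.conj_mem inferInstance _ (hR'P (commutator_mem_commutator hz hrR)) _), mul_one]
      rw [hstep _ (commutator_le_left R ⊤ (commutator_mem_commutator hw'R (mem_top _))),
        map_commutatorElement, hstep w' hw'R, ← map_commutatorElement]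
    have hw'sq : F' w₁ = F' w' ^ 2 := by
      have hk : (w' * w')⁻¹ * w₁ ∈ Q := by
        rw [← hcjQ']
        refine (hψ'1 ⟨_, R.mul_mem (R.inv_mem (R.mul_mem hw'R hw'R)) hw₁⟩).mpr ?_
        have e := hψ'eq h ⟨w₁, hw₁⟩ ⟨w', hw'R⟩ rfl
        have em : (⟨(w' * w')⁻¹ * w₁, R.mul_mem (R.inv_mem (R.mul_mem hw'R hw'R)) hw₁⟩ : ↥R) =
            (⟨w', hw'R⟩ * ⟨w', hw'R⟩)⁻¹ * ⟨w₁, hw₁⟩ := rfl
        rw [em, map_mul ψ', map_inv ψ', map_mul ψ']
        show (-((ψ' ⟨w', hw'R⟩).toAdd + (ψ' ⟨w', hw'R⟩).toAdd) + (ψ' ⟨w₁, hw₁⟩).toAdd) 1 = 0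
        rw [e, hh]
        simp only [Pi.add_apply, Pi.neg_apply]
        have hd : ∀ v : Fin 2 → F, ((diagHom (Units.mk0 (2 : F) h2F) : SL(2, F)) :
            Matrix (Fin 2) (Fin 2) F).mulVec v 1 = (2 : F)⁻¹ * v 1 := fun v => by
          show (!![((Units.mk0 (2 : F) h2F : Fˣ) : F), 0;
            0, (((Units.mk0 (2 : F) h2F)⁻¹ : Fˣ) : F)]).mulVec v 1 = _
          simp [Matrix.mulVec, dotProduct, Fin.sum_univ_two]
        rw [hd]
        field_simp
        ring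
      have hkR : (w' * w')⁻¹ * w₁ ∈ R := hQR hk
      have hkF : F' ((w' * w')⁻¹ * w₁) = 1 := by
        obtain ⟨v, hv, e⟩ := hQ2.2 _ hk
        refine (hπP _).mpr ?_
        rw [e x₁ hx₁, commutatorElement_eq_one_iff_mul_comm.mpr ?_]
        · exact P.one_mem
        have hm : ⁅v, x₁⁆ ∈ C1 := hVC1 (commutator_mem_commutator hv (hV2S hx₁))
        have h4 := mem_centralizer_iff.mp (mem_cj.mp hm).2 _ (mem_cj.mp (hV2S hx₁))
        calc ⁅v, x₁⁆ * x₁ = a * ((a⁻¹ * ⁅v, x₁⁆ * a) * (a⁻¹ * x₁ * a)) * a⁻¹ := by group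
          _ = a * ((a⁻¹ * x₁ * a) * (a⁻¹ * ⁅v, x₁⁆ * a)) * a⁻¹ := by rw [h4]
          _ = x₁ * ⁅v, x₁⁆ := by group
      calc F' w₁ = F' ((w' * w') * ((w' * w')⁻¹ * w₁)) := by rw [mul_inv_cancel_left]
        _ = F' (w' * w') * F' ((w' * w')⁻¹ * w₁) := hFhom _ (R.mul_mem hw'R hw'R) _ hkR
        _ = _ := by rw [hkF, mul_one, sq]; exact hFhom _ hw'R _ hw'R
    have hf2 : π (h * f * h⁻¹) = F' w₁ ^ 2 := by
      have hfV : f ∈ V := hC1V hfC
      have hfh' : h * f * h⁻¹ ∈ V := Normal.conj_mem inferInstance f hfV h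
      have h0 : ψ ⟨h * f * h⁻¹, hfh'⟩ = ψ (⟨f, hfV⟩ ^ 2) := by
        apply Multiplicative.toAdd.injective
        rw [hψeq h ⟨f, hfV⟩ _ rfl, map_pow, toAdd_pow, hh]
        have h1 : (ψ ⟨f, hfV⟩).toAdd 1 = 0 := (hψ1 ⟨f, hfV⟩).mp hfC
        show (!![((Units.mk0 (2 : F) h2F : Fˣ) : F), 0;
          0, (((Units.mk0 (2 : F) h2F)⁻¹ : Fˣ) : F)]).mulVec (ψ ⟨f, hfV⟩).toAdd = _
        funext i
        fin_cases i <;> simp [Matrix.mulVec, dotProduct, Fin.sum_univ_two, h1]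
      have h1 : (((((⟨f, hfV⟩ : ↥V) ^ 2)⁻¹ * ⟨h * f * h⁻¹, hfh'⟩ : ↥V)) : G) ∈ V0 := by
        have := (hψker (((⟨f, hfV⟩ : ↥V) ^ 2)⁻¹ * ⟨h * f * h⁻¹, hfh'⟩)).mp
          (by rw [map_mul, map_inv, h0, inv_mul_cancel])
        exact this
      have h2 := (hπP _).mpr (hV0P h1)
      rw [Subgroup.coe_mul, Subgroup.coe_inv, SubmonoidClass.coe_pow, map_mul, map_inv, inv_mul_eq_one, map_pow] at h2
      exact h2.symm
    have h6 : F' w₁ ^ 6 = 1 := by
      have h8 : F' w₁ ^ 2 * F' w₁ ^ 6 = F' w₁ ^ 2 * 1 := by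
        rw [mul_one, ← pow_add]
        calc F' w₁ ^ (2 + 6) = (F' w' ^ 2) ^ 8 := by rw [hw'sq]
          _ = F' w' ^ 16 := by rw [← pow_mul]
          _ = _ := by rw [← hfh, hf2]
      exact mul_left_cancel h8
    have hcop : Nat.Coprime p 6 := by
      refine (hp.coprime_iff_not_dvd).mpr fun hd => ?_
      rcases (hp.dvd_mul).mp (show p ∣ 2 * 3 from hd) with h' | h'
      · exact hp2 ((Nat.prime_dvd_prime_iff_eq hp Nat.prime_two).mp h')
      · exact h3 ((Nat.prime_dvd_prime_iff_eq hp Nat.prime_three).mp h')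
    exact hf₁ ((hπP _).mp (orderOf_eq_one_iff.mp (Nat.eq_one_of_dvd_coprimes hcop
      (orderOf_dvd_of_pow_eq_one (hRexp _ hfR)) (orderOf_dvd_of_pow_eq_one h6))))
  -- class and exponent
  have hC1P : ∀ w ∈ R, ∀ x ∈ V2, ∀ x' ∈ V2, ⁅⁅w, x⁆, x'⁆ ∈ C1 ⊔ P := by
    intro w hw x hx x' hx'
    obtain ⟨v, hv, e⟩ := hcub w hw x (hV2S hx)
    rw [e x' hx']
    exact mem_sup_left (hVC1 (commutator_mem_commutator hv (hV2S hx')))
  have hγle : γ ≤ C ⊔ P := hback (by
    rw [cj_sup, cj_normal a P]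
    exact hgamma _ le_sup_right hSan hC1P)
  have hclass : ⁅γ, S₀⁆ = ⊥ := by
    have hle : ⁅γ, S₀⁆ ≤ P := by
      refine (commutator_mono hγle le_rfl).trans (commutator_sup_le ?_ ?_)
      · exact (commutator_eq_bot_iff_le_centralizer.mpr (inf_le_right : C ≤ _)).le.trans bot_le
      · exact (commutator_mono le_rfl le_top).trans (commutator_le_left P ⊤)
    refine hdP _ (hγchar.commutator charIn_self (commutator_le_of_le hS'le) le_rfl) hle ?_
    rw [le_normalizer_iff_commutator_le_left]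
    exact commutator_mono (commutator_mono (commutator_mono hS'le le_rfl) le_rfl) le_rfl
  have hcube : ∀ r ∈ R, ∀ x ∈ V2, π ((r * x) ^ 3) = π ⁅⁅r, x⁆, x⁆ := by
    intro r hr x hx
    obtain ⟨hu', hfC', hfx'⟩ := hfacts r hr x hx
    have hx3 : x ^ 3 = 1 := by
      obtain ⟨t, ht, rfl⟩ := hx
      obtain ⟨v', hv', rfl⟩ := ht
      obtain ⟨t', ht', e⟩ := hv'
      obtain ⟨v, hv, rfl⟩ := ht'
      have hv2 : (v : ↥S₀) ^ 3 = 1 := Subtype.ext (by
        rw [SubmonoidClass.coe_pow, ← hp3]; exact B.elem.2 _ hv)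
      rw [← map_pow, ← map_pow, show v' ^ 3 = 1 from ?_, map_one, map_one]
      refine Subtype.ext ?_
      rw [SubmonoidClass.coe_pow, show (v' : G) = _ from e.symm, ← map_pow, ← map_pow, hv2,
        map_one, map_one]
      rfl
    obtain ⟨X, hX⟩ : ∃ X, X = π x := ⟨_, rfl⟩
    set u := π ⁅r, x⁆ with hudef
    set f := π ⁅⁅r, x⁆, x⁆ with hfdef
    have hXr : X * π r * X⁻¹ = u⁻¹ * π r := by
      rw [hudef, hX, ← map_inv, ← map_inv, ← map_mul, ← map_mul, ← map_mul]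
      congr 1
      simp only [commutatorElement_def]; group
    have hXu : X * u⁻¹ * X⁻¹ = u⁻¹ * f := by
      have h1 : f = u * (X * u⁻¹ * X⁻¹) := by
        rw [hfdef, hX, map_commutatorElement, commutatorElement_def]; simp only [← mul_assoc]; rfl
      rw [h1, inv_mul_cancel_left]
    have hr3 : π r ^ 3 = 1 := hp3 ▸ hRexp r hr
    have hu3 : u⁻¹ ^ 3 = 1 := by rw [inv_pow, ← hp3, hRexp _ hu', inv_one]
    have hru : Commute (π r) u⁻¹ := (hRab r hr _ hu').inv_right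
    have hfu : Commute f u⁻¹ := (hRab _ (hC1V.trans hVR hfC') _ hu').inv_right
    have hfr : Commute f (π r) := hRab _ (hC1V.trans hVR hfC') r hr
    have hX3 : X ^ 3 = 1 := by rw [hX, ← map_pow, hx3, map_one]
    rw [map_pow, map_mul, ← hX]
    calc (π r * X) ^ 3
        = π r * (X * π r * X⁻¹) * (X * (X * π r * X⁻¹) * X⁻¹) * X ^ 3 := by
          simp only [pow_succ, pow_zero, one_mul]; group
      _ = π r * (u⁻¹ * π r) * (X * (u⁻¹ * π r) * X⁻¹) := by rw [hX3, mul_one, hXr]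
      _ = π r * (u⁻¹ * π r) * ((X * u⁻¹ * X⁻¹) * (X * π r * X⁻¹)) := by group
      _ = π r * (u⁻¹ * π r) * ((u⁻¹ * f) * (u⁻¹ * π r)) := by rw [hXu, hXr]
      _ = π r ^ 3 * u⁻¹ ^ 3 * f := by
          have c1 : Commute (π r) (u⁻¹ * π r) := hru.mul_right (Commute.refl _)
          have c2 : Commute f (u⁻¹ * π r) := hfu.mul_right hfr
          have c3 : Commute u⁻¹ (π r) := hru.symm
          calc π r * (u⁻¹ * π r) * ((u⁻¹ * f) * (u⁻¹ * π r))
              = π r * (u⁻¹ * π r) * (u⁻¹ * ((u⁻¹ * π r) * f)) := by rw [mul_assoc u⁻¹ f, c2.eq]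
            _ = π r * (π r * u⁻¹) * (u⁻¹ * ((π r * u⁻¹) * f)) := by rw [c3.eq]
            _ = π r ^ 2 * (u⁻¹ ^ 2 * π r) * u⁻¹ * f := by simp only [sq, mul_assoc]
            _ = π r ^ 2 * (π r * u⁻¹ ^ 2) * u⁻¹ * f := by rw [(c3.pow_left 2).eq]
            _ = _ := by simp only [pow_succ, pow_zero, one_mul, mul_assoc]
      _ = f := by rw [hr3, hu3, one_mul, one_mul]
  have hnine : ∀ g ∈ cj a S₀, g ^ 9 ∈ P := by
    intro g hg
    have hg' : g ∈ ((R ⊔ V2 : Subgroup G) : Set G) := by rw [sup_comm, hSa]; exact hg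
    rw [normal_mul R V2] at hg'
    obtain ⟨r, hr, x, hx, rfl⟩ := hg'
    rw [← hπP, show (9 : ℕ) = 3 * 3 from rfl, pow_mul, map_pow, hcube r hr x hx]
    exact hp3 ▸ hRexp _ (hC1V.trans hVR (hfacts r hr x hx).2.1)
  have hexp9 : ∀ s : ↥S₀, s ^ 9 = 1 := by
    set W := (closure {x : ↥S₀ | ∃ y, x = y ^ 9}).map S₀.subtype with hW
    have hWP : W ≤ P := by
      rw [hW, map_le_iff_le_comap, closure_le]
      rintro _ ⟨⟨s, hs⟩, rfl⟩
      show s ^ 9 ∈ P
      have h := hnine (a * s * a⁻¹) (mem_cj.mpr (by simpa [mul_assoc] using hs))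
      rw [conj_pow] at h
      simpa [mul_assoc] using Normal.conj_mem ‹P.Normal› _ h a⁻¹
    have hWchar : CharIn S₀ W := charIn_closure (P := fun x => ∃ y, x = y ^ 9)
      fun φ x ⟨y, hy⟩ => ⟨φ y, by rw [hy, map_pow]⟩
    have h1 := hdP W hWchar hWP (fun s hs => mem_normalizer_iff_map_conj_eq.mpr
      (eq_of_le_of_card_ge ?_ (card_map_of_injective (MulAut.conj s).injective).ge))
    · exact fun g => Subtype.ext (mem_bot.mp (h1.le ⟨g ^ 9, subset_closure ⟨g, rfl⟩, rfl⟩))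
    · rw [hW, map_map, map_le_iff_le_comap, closure_le]
      rintro _ ⟨y, rfl⟩
      refine ⟨(MulAut.conj (⟨s, hs⟩ : ↥S₀) y) ^ 9, subset_closure ⟨_, rfl⟩, ?_⟩
      rw [← map_pow]
      rfl
  have hP' : P = T ⊓ centralizer (N : Set G) := hP
  have hcubic : ∀ w ∈ R, ∀ x ∈ S₀, ∃ v ∈ V, ∀ x' ∈ S₀, ⁅⁅w, x⁆, x'⁆ * ⁅v, x'⁆⁻¹ ∈ P := by
    intro w hw x hx
    have hup : ∀ y ∈ S₀, a * y * a⁻¹ ∈ cj a S₀ := fun y hy =>
      mem_cj.mpr (by simpa [mul_assoc] using hy)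
    have hwR : a * w * a⁻¹ ∈ R := Normal.conj_mem inferInstance w hw a
    obtain ⟨v, hv, e⟩ := hcub _ hwR _ (hup x hx)
    refine ⟨a⁻¹ * v * a, by simpa using Normal.conj_mem (zR_normal (G := G) p) v hv a⁻¹,
      fun x' hx' => ?_⟩
    have hs : a * x' * a⁻¹ ∈ ((V2 ⊔ R : Subgroup G) : Set G) := hSa.ge (hup x' hx')
    rw [mul_normal V2 R] at hs
    obtain ⟨y, hy, r, hr, hyr⟩ := hs
    simp only at hyr
    set u := ⁅a * w * a⁻¹, a * x * a⁻¹⁆
    have hu : u ∈ R := commutator_le_left R ⊤ (commutator_mem_commutator hwR (mem_top _))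
    have hvr : ⁅v, r⁆ = 1 := commutatorElement_eq_one_iff_mul_comm.mpr
      (mem_centralizer_iff.mp hv.2 r hr).symm
    have e1 : ⁅u, a * x' * a⁻¹⁆ * ⁅v, a * x' * a⁻¹⁆⁻¹ ∈ P := by
      rw [← hyr, show ⁅u, y * r⁆ = ⁅u, y⁆ * (y * ⁅u, r⁆ * y⁻¹) by
          simp only [commutatorElement_def]; group,
        show ⁅v, y * r⁆ = ⁅v, y⁆ * (y * ⁅v, r⁆ * y⁻¹) by simp only [commutatorElement_def]; group,
        hvr, mul_one, mul_inv_cancel, mul_one, e y hy]
      exact Normal.conj_mem ‹P.Normal› _ (Normal.conj_mem ‹P.Normal› _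
        (hR'P (commutator_mem_commutator hu hr)) y) _
    have e2 := Normal.conj_mem ‹P.Normal› _ e1 a⁻¹
    rw [show a⁻¹ * (⁅u, a * x' * a⁻¹⁆ * ⁅v, a * x' * a⁻¹⁆⁻¹) * a⁻¹⁻¹ =
      ⁅⁅w, x⁆, x'⁆ * ⁅a⁻¹ * v * a, x'⁆⁻¹ by
        simp only [u, commutatorElement_def]; group] at e2
    exact e2
  have htransversal : ∃ A : Subgroup G, A ≤ S₀ ∧ A ≤ centralizer (A : Set G) ∧ A ⊔ R = S₀ ∧
      Nat.card F * Nat.card ↥(A ⊓ R) ≤ Nat.card A ∧
      Nat.card S₀ ≤ Nat.card F * Nat.card F * Nat.card ↥(S₀ ⊓ centralizer (A : Set G)) := by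
    have hUab : ⁅U, U⁆ = ⊥ := commutator_eq_bot_iff_le_centralizer.mpr hUU
    have hUQ' : ⁅Q', U⁆ = ⊥ := commutator_eq_bot_iff_le_centralizer.mpr inf_le_right
    have hU2c : Nat.card U2 = q * Nat.card C := by
      rw [hU2, card_tw ((hcjR _ hUR).trans hRS), card_cj, hcardU, hcardV]
    refine ⟨U2, hU2S, commutator_eq_bot_iff_le_centralizer.mp
      (tw_comm_bot (cj_comm_bot hUab)), hS, ?_, ?_⟩
    · have h0 : ⁅U2 ⊓ R, V⁆ = ⊥ := by rw [commutator_comm]; exact hRV inf_le_right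
      have h1 : cj a (tw χ (U2 ⊓ R)) ≤ U ⊓ Q := by
        refine le_inf ((cj_mono (tw_mono inf_le_left)).trans hthU2.le) (le_inf ?_ ?_)
        · exact ((cj_mono (tw_mono inf_le_left)).trans hthU2.le).trans hUR
        · exact commutator_eq_bot_iff_le_centralizer.mp (cj_comm_bot (tw_comm_bot h0))
      have h2 := card_le_of_le (h1.trans hUQ)
      rw [card_cj, card_tw (inf_le_left.trans hU2S)] at h2
      rw [hU2c, Nat.card_eq_fintype_card, hq]
      exact Nat.mul_le_mul_left _ h2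
    · have hle : tw χ⁻¹ (cj a⁻¹ Q') ≤ S₀ ⊓ centralizer (U2 : Set G) :=
        le_inf (tw_le _ _) (commutator_eq_bot_iff_le_centralizer.mp
          (tw_comm_bot (cj_comm_bot hUQ')))
      have h1 := card_le_of_le hle
      rw [card_tw ((hcjR _ hQ'R).trans hRS), card_cj] at h1
      rw [show Nat.card F = q by rw [Nat.card_eq_fintype_card, hq], ← hqR, hcardQ']
      calc q * Nat.card Q' * q = q * q * Nat.card Q' := by ring
        _ ≤ _ := Nat.mul_le_mul_left _ h1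
  refine ⟨ρ, T, hp3, hρ, hkerR, hTn, hVT, hTR, ⟨ψ, hψ, hψker, hψeq⟩, ⟨ψ', hψ', hψ'ker, hψ'eq⟩,
    ⟨N, hNn, hNS, hTN⟩, hclass, hγne, ?_,
    ⟨N, hNn, hNS, hTN, hP' ▸ hR'P, hP' ▸ hRp, hP' ▸ hcubic⟩,
    ⟨χ⁻¹, hUR, (inf_le_inf_left _ inf_le_left).trans hUQ,
      (inf_le_right.trans inf_le_right : T ≤ centralizer (U : Set G))⟩, htransversal⟩
  have hd : Monoid.exponent ↥S₀ ∣ 3 ^ 2 := Monoid.exponent_dvd_iff_forall_pow_eq_one.mpr hexp9
  obtain ⟨i, hi, e⟩ := (Nat.dvd_prime_pow Nat.prime_three).mp hd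
  interval_cases i
  all_goals try exact e
  all_goals
    exfalso
    refine hf₁ ((hπP _).mp ?_)
    rw [← hcube w₁ hw₁ x₁ hx₁]
    have hmem : a⁻¹ * (w₁ * x₁) * a ∈ S₀ :=
      mem_cj.mp ((cj a S₀).mul_mem (hRSa hw₁) (hV2S hx₁))
    have h1 := congrArg Subtype.val (Monoid.pow_exponent_eq_one (⟨_, hmem⟩ : ↥S₀))
    rw [e, SubmonoidClass.coe_pow] at h1
    simp only [OneMemClass.coe_one] at h1
    rw [show w₁ * x₁ = a * (a⁻¹ * (w₁ * x₁) * a) * a⁻¹ by group, conj_pow]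
    have h3 : (a⁻¹ * (w₁ * x₁) * a) ^ 3 = 1 := by
      first
        | exact (by simpa using h1)
        | (rw [pow_zero, pow_one] at h1; rw [h1, one_pow])
        | (simp at h1; rw [h1, one_pow])
    rw [h3, mul_one, mul_inv_cancel, map_one]

end CfsgLib.LocalEven50
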