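import Cfsg.Agent.LocalEven50.PushingUpCaseI
import Cfsg.Agent.LocalEven50.PushingUpCaseII

/-!
# Pushing up in rank one: the classification of the two cases
-/

set_option linter.style.haveILetI false
set_option linter.unusedSectionVars false

namespace CfsgLib.LocalEven50

open Subgroup Cfsg
open scoped MatrixGroups commutatorElement

variable {G : Type*} [Group G] [Finite G] {p : ℕ} [Fact p.Prime] {F : Type*} [Field F]

theorem IsRepOn.chief {ρ : G →* SL(2, F)} (hρ : Function.Surjective ρ) {X Y : Subgroup G}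
    [X.Normal] [Y.Normal] (hYX : Y ≤ X) (h : IsRepOn ρ X Y) :
    IsChiefFactor X Y ∧ ¬ ⁅X, (⊤ : Subgroup G)⁆ ≤ Y := by
  have hnc : ¬ ⁅X, (⊤ : Subgroup G)⁆ ≤ Y := by
    intro hle
    obtain ⟨ψ, hψ, hψker, hequiv⟩ := h
    obtain ⟨g, hg⟩ := hρ (upperHom F (.ofAdd 1))
    obtain ⟨x, hx⟩ := hψ (.ofAdd ![0, 1])
    have hgx : g * (x : G) * g⁻¹ ∈ X := Normal.conj_mem inferInstance _ x.2 g
    have he := hequiv g x ⟨_, hgx⟩ rfl
    have h2 : ψ ⟨_, hgx⟩ = ψ x := by
      rw [← mul_inv_eq_one, ← map_inv, ← map_mul, hψker]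
      have hc := Y.inv_mem (hle (commutator_mem_commutator x.2 (mem_top g)))
      rw [commutatorElement_inv, commutatorElement_def] at hc
      exact hc
    rw [h2, hx, hg, toAdd_ofAdd, coe_upper] at he
    have := congrFun he 0
    simp [Matrix.mulVec, dotProduct, Fin.sum_univ_two] at this
  refine ⟨⟨lt_of_le_of_ne hYX fun e => hnc ?_, inferInstance, inferInstance,
    fun N hN h1 h2 => h.irreducible hρ hN h1 h2⟩, hnc⟩
  exact (commutator_le_left X ⊤).trans e.ge

variable [Fintype F]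

/-- The pushing up theorem for a rank one quotient. -/
theorem pushUp_rank_one (S : Sylow p G)
    (hE₁ : centralizer (pCore p G : Set G) ≤ pCore p G)
    (hE₂ : ∃! M : Subgroup G, IsCoatom M ∧ (S : Subgroup G) ≤ M) (K : Subgroup G) [K.Normal]
    (F : Type) [Field F] [Fintype F] (n : ℕ) (hF : Fintype.card F = p ^ n)
    (hE₃ : Nonempty (G ⧸ K ≃* Matrix.ProjectiveSpecialLinearGroup (Fin 2) F))
    (hd : ∀ T : Subgroup ↥(S : Subgroup G), T ≠ ⊥ → T.Characteristic →
      ¬ (T.map (S : Subgroup G).subtype).Normal) :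
    ∃ ρ : G →* SL(2, F), PUCaseI p (S : Subgroup G) ρ ∨
      ∃ T : Subgroup G, PUCaseII p (S : Subgroup G) ρ T := by
  classical
  haveI := pCore_normal p G
  obtain ⟨M, q, a, B⟩ := exists_puBase (isPushingUpSituation_of S hE₁ hE₂ K F n hF hE₃) hd
  obtain ⟨e⟩ := hE₃
  obtain ⟨φ, -, hker, hU, hL, hq⟩ := exists_pslHom B.toPUCore K hF e
  by_cases hI : ∃ χ : MulAut ↥(S : Subgroup G), ¬ tw χ (zR p G) ≤ pCore p G
  · obtain ⟨χ, hχ⟩ := hI
    obtain ⟨ρ, h⟩ := B.case_one hF hker hU hL hq hχ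
    exact ⟨ρ, Or.inl h⟩
  push Not at hI
  obtain ⟨k, hsm, hcrit⟩ := B.exists_bound
  have hk : 1 ≤ k := by
    by_contra hk
    obtain rfl : k = 0 := by omega
    obtain ⟨X, ⟨b, χ, Y, hY, rfl⟩, hXR⟩ := hcrit
    obtain rfl : Y = zR p G := hY
    exact hXR ((cj_mono (hI χ)).trans (cj_normal b _).le)
  obtain ⟨χ, hχ⟩ := B.exists_periodic hsm hk hcrit
  obtain rfl : k = 1 := by
    by_contra hne
    exact B.bound_le_one hsm (by omega) hχ
  obtain ⟨ρ, T, h⟩ := B.case_two hF hker hU hL hq hsm hχ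
  exact ⟨ρ, Or.inr ⟨T, h⟩⟩

/-- Every noncentral chief factor inside `O_p(G)` is natural. -/
theorem natural_chief_factor (S : Sylow p G) {F : Type*} [Field F] {ρ : G →* SL(2, F)}
    (h : PUCaseI p (S : Subgroup G) ρ ∨ ∃ T, PUCaseII p (S : Subgroup G) ρ T)
    (U W : Subgroup G) [W.Normal] (hU : U ≤ pCore p G) (hc : IsChiefFactor U W)
    (hnc : ¬ ⁅U, (⊤ : Subgroup G)⁆ ≤ W) :
    IsNaturalSL2Module F (U.map (QuotientGroup.mk' W)) (⊤ : Subgroup (G ⧸ W)) := by
  haveI := pCore_normal p G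
  have hS : IsPGroup p ↥(S : Subgroup G) := S.2
  have hUS : U ≤ (S : Subgroup G) := hU.trans (PLocal.pCore_le_sylow S)
  have h0 : U ⊓ zG p G ≤ W := by
    refine inf_le_of_central hS hc hUS hnc (Y := ⊥) (N := ⊤) (top_sup_eq _) ?_ (by simp)
    exact (commutator_eq_bot_iff_le_centralizer.mpr inf_le_right).le
  have hUR : ¬ U ⊓ pCore p G ≤ W := by
    rw [inf_eq_left.mpr hU]; exact hc.1.not_ge
  rcases h with h | ⟨T, h⟩
  · obtain ⟨N, hN, hNS, hRN⟩ := h.central
    by_cases hV : U ⊓ zR p G ≤ W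
    · exact absurd (inf_le_of_central hS hc hUS hnc hNS hRN hV) hUR
    · exact isNatural_of_step h.surj ((hc.1.le.trans hU).trans h.ker.ge) hc inf_le_left h.rep h0 hV
  · obtain ⟨N, hN, hNS, hTN⟩ := h.central
    haveI := h.normal
    by_cases hV : U ⊓ zR p G ≤ W
    · exact isNatural_of_step h.surj ((hc.1.le.trans hU).trans h.ker.ge) hc h.le_core h.rep'
        (inf_le_of_central hS hc hUS hnc hNS hTN hV) hUR
    · exact isNatural_of_step h.surj ((hc.1.le.trans hU).trans h.ker.ge) hc inf_le_left h.rep h0 hV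

end CfsgLib.LocalEven50
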