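import Cfsg.Agent.LocalEven50.SL2Natural
import Cfsg.Agent.Forms4.ExceptionalTools
import Cfsg.Agent.Transfer.Abelian

/-!
# Central extensions of `SL₂(q)` by `p`-groups split, for `p ≥ 5` the characteristic
-/

set_option linter.style.haveILetI false
set_option linter.unusedSectionVars false

namespace CfsgLib.LocalEven50

open Subgroup
open scoped MatrixGroups commutatorElement IsMulCommutative

variable {F : Type*} [Field F] [Fintype F] {p : ℕ} [Fact p.Prime] [CharP F p]

theorem natCast_ne_zero_of_lt {m : ℕ} (h0 : 0 < m) (h : m < p) : (m : F) ≠ 0 := by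
  rw [Ne, CharP.cast_eq_zero_iff F p]
  exact fun hd => absurd (Nat.le_of_dvd h0 hd) (by omega)

/-- An alternating pairing on `F` invariant under scaling by squares vanishes. -/
theorem pairing_eq_zero {A : Type*} [AddCommGroup A] (hp : 5 ≤ p) (c : F →+ F →+ A)
    (halt : ∀ u, c u u = 0) (hinv : ∀ (a : Fˣ) u w, c (a * a * u) (a * a * w) = c u w) (u w : F) :
    c u w = 0 := by
  classical
  obtain ⟨n, hn⟩ := FiniteField.card F p
  by_cases hn1 : (n : ℕ) = 1
  · have hcard : Nat.card F = p := by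
      rw [Nat.card_eq_fintype_card, hn.2, hn1, pow_one]
    have h1 : ∀ y : F, y ∈ AddSubgroup.zmultiples (1 : F) := fun y => by
      rw [zmultiples_eq_top_of_prime_card hcard one_ne_zero]; trivial
    obtain ⟨i, rfl⟩ := AddSubgroup.mem_zmultiples_iff.mp (h1 u)
    obtain ⟨j, rfl⟩ := AddSubgroup.mem_zmultiples_iff.mp (h1 w)
    rw [map_zsmul c i, AddMonoidHom.zsmul_apply, map_zsmul, halt, smul_zero, smul_zero]
  have h2 : (2 : F) ≠ 0 := by exact_mod_cast natCast_ne_zero_of_lt (F := F) (p := p) (m := 2) (by norm_num) (by omega)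
  have hbig : 13 < Fintype.card F := by
    rw [hn.2]
    have : 2 ≤ (n : ℕ) := by have := n.pos; omega
    have h25 : 5 ^ 2 ≤ p ^ (n : ℕ) :=
      (Nat.pow_le_pow_left hp 2).trans (Nat.pow_le_pow_right (by omega) this)
    omega
  let P : Polynomial F := .X * (.X ^ 4 - 1) * ((1 - .X ^ 2) ^ 4 +
    (1 - .X ^ 2) ^ 2 * (Polynomial.C 2 * .X) ^ 2 + (Polynomial.C 2 * .X) ^ 4)
  have hP : P.natDegree ≤ 13 := by
    simp only [P]; compute_degree
  have hP0 : P ≠ 0 := by
    intro h
    have h1 : P.coeff 13 = 1 := by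
      simp only [P]; compute_degree!
    rw [h] at h1
    simp at h1
  obtain ⟨t, ht⟩ : ∃ t, P.eval t ≠ 0 := by
    by_contra hne
    push Not at hne
    exact hP0 (Polynomial.eq_zero_of_natDegree_lt_card_of_eval_eq_zero P Function.injective_id
      (fun i => hne i) (lt_of_le_of_lt hP hbig))
  simp only [P, Polynomial.eval_mul, Polynomial.eval_X, Polynomial.eval_sub, Polynomial.eval_pow,
    Polynomial.eval_one, Polynomial.eval_add, Polynomial.eval_C, mul_ne_zero_iff] at ht
  obtain ⟨⟨ht0, ht4⟩, hden⟩ := ht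
  set x := 1 - t ^ 2 with hx
  set y := 2 * t with hy
  set z := 1 + t ^ 2 with hz
  have hx0 : x ≠ 0 := fun h => ht4 (by linear_combination -(1 + t ^ 2) * h + hx * 0)
  have hz0 : z ≠ 0 := fun h => ht4 (by linear_combination (t ^ 2 - 1) * h + hz * 0)
  have hy0 : y ≠ 0 := mul_ne_zero h2 ht0
  have hxyz : x * x + y * y = z * z := by rw [hx, hy, hz]; ring
  have key : ∀ a : F, a ≠ 0 → ∀ u w, c (a * a * u) w = c u (w / (a * a)) := fun a ha u w => by
    have := hinv (Units.mk0 a ha) u (w / (a * a))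
    rwa [Units.val_mk0, mul_div_cancel₀ w (mul_ne_zero ha ha)] at this
  set d := (x * x)⁻¹ + (y * y)⁻¹ - (z * z)⁻¹ with hd
  have hd0 : d ≠ 0 := by
    intro h
    apply hden
    have e : (x ^ 4 + x ^ 2 * y ^ 2 + y ^ 4) = d * (x * x * (y * y) * (z * z)) := by
      rw [hd]
      field_simp
      rw [sq z, ← hxyz]
      ring
    rw [h, zero_mul] at e
    exact e
  have h3 : c u (d * (w / d)) = 0 := by
    have e1 := key z hz0 u (w / d)
    rw [← hxyz, add_mul, map_add, AddMonoidHom.add_apply, key x hx0, key y hy0, hxyz] at e1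
    rw [hd, sub_mul, add_mul, map_sub, map_add, inv_mul_eq_div, inv_mul_eq_div, inv_mul_eq_div, e1,
      sub_self]
  rwa [mul_div_cancel₀ w hd0] at h3

/-- A central extension of `SL₂(q)` by a `p`-group has a complement to the kernel. -/
theorem exists_section_of_central {L : Type*} [Group L] [Finite L] (hp : 5 ≤ p)
    (π : L →* SL(2, F)) (hπ : Function.Surjective π) (hker : π.ker ≤ center L)
    (hpker : IsPGroup p π.ker) : ∃ l : SL(2, F) →* L, ∀ A, π (l A) = A := by
  classical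
  obtain ⟨n, hn⟩ := FiniteField.card F p
  have hcardF : 5 ≤ Fintype.card F := by
    rw [hn.2]; exact hp.trans (Nat.le_self_pow n.pos.ne' p)
  choose σ hσ using fun u : F => hπ (upperHom F (.ofAdd u))
  have hcen : ∀ u w, ⁅σ u, σ w⁆ ∈ center L := fun u w => hker (by
    rw [MonoidHom.mem_ker, map_commutatorElement, hσ, hσ, commutatorElement_eq_one_iff_mul_comm]
    exact ((Commute.all _ _).map (upperHom F)).eq)
  have habs : ∀ z ∈ center L, ∀ g h : L, ⁅z * g, h⁆ = ⁅g, h⁆ ∧ ⁅g, z * h⁆ = ⁅g, h⁆ := by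
    intro z hz g h
    have e : ∀ y, y * z = z * y := mem_center_iff.mp hz
    refine ⟨?_, ?_⟩
    · simp only [commutatorElement_def, mul_inv_rev]
      calc z * g * h * (g⁻¹ * z⁻¹) * h⁻¹ = z * (g * h * g⁻¹) * z⁻¹ * h⁻¹ := by group
        _ = g * h * g⁻¹ * h⁻¹ := by rw [← e (g * h * g⁻¹)]; group
    · simp only [commutatorElement_def, mul_inv_rev]
      calc g * (z * h) * g⁻¹ * (h⁻¹ * z⁻¹) = (g * z) * (h * g⁻¹ * h⁻¹) * z⁻¹ := by group
        _ = z * (g * h * g⁻¹ * h⁻¹) * z⁻¹ := by rw [e g]; group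
        _ = g * h * g⁻¹ * h⁻¹ := by rw [← e]; group
  have hlift : ∀ u g, π g = upperHom F (.ofAdd u) → ∃ z ∈ center L, g = z * σ u := fun u g hg =>
    ⟨g * (σ u)⁻¹, hker (by rw [MonoidHom.mem_ker, map_mul, map_inv, hg, hσ, mul_inv_cancel]),
      by group⟩
  have hcongr : ∀ u w g h, π g = upperHom F (.ofAdd u) → π h = upperHom F (.ofAdd w) →
      ⁅g, h⁆ = ⁅σ u, σ w⁆ := by
    intro u w g h hg hh
    obtain ⟨z, hz, rfl⟩ := hlift u g hg
    obtain ⟨z', hz', rfl⟩ := hlift w h hh
    rw [(habs z hz _ _).1, (habs z' hz' _ _).2]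
  let b : F → F → Additive ↥(center L) := fun u w => .ofMul ⟨⁅σ u, σ w⁆, hcen u w⟩
  have hbl : ∀ u u' w, b (u + u') w = b u w + b u' w := by
    intro u u' w
    refine Additive.toMul.injective (Subtype.ext ?_)
    show ⁅σ (u + u'), σ w⁆ = ⁅σ u, σ w⁆ * ⁅σ u', σ w⁆
    rw [← hcongr (u + u') w (σ u * σ u') (σ w)
      (by rw [map_mul, hσ, hσ, ← map_mul, ← ofAdd_add]) (hσ w)]
    have e := mem_center_iff.mp (hcen u' w)
    calc ⁅σ u * σ u', σ w⁆ = σ u * ⁅σ u', σ w⁆ * (σ w * (σ u)⁻¹ * (σ w)⁻¹) := by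
          simp only [commutatorElement_def]; group
      _ = ⁅σ u', σ w⁆ * (σ u * σ w * (σ u)⁻¹ * (σ w)⁻¹) := by rw [e]; group
      _ = ⁅σ u, σ w⁆ * ⁅σ u', σ w⁆ := by rw [← commutatorElement_def, e]
  have hswap : ∀ u w, b w u = -b u w := fun u w =>
    Additive.toMul.injective (Subtype.ext (commutatorElement_inv (σ u) (σ w)).symm)
  have hbr : ∀ u w w', b u (w + w') = b u w + b u w' := fun u w w' => by
    rw [hswap (w + w') u, hbl, neg_add, ← hswap, ← hswap]
  let c : F →+ F →+ Additive ↥(center L) :=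
    AddMonoidHom.mk' (fun u => AddMonoidHom.mk' (b u) (hbr u))
      (fun u u' => AddMonoidHom.ext fun w => hbl u u' w)
  have hc : ∀ u w, c u w = 0 := pairing_eq_zero (p := p) hp c
    (fun u => Additive.toMul.injective (Subtype.ext (commutatorElement_self (σ u))))
    fun a u w => by
      refine Additive.toMul.injective (Subtype.ext ?_)
      show ⁅σ (a * a * u), σ (a * a * w)⁆ = ⁅σ u, σ w⁆
      obtain ⟨d, hd⟩ := hπ (diagHom a)
      have h1 : ∀ v, π (d * σ v * d⁻¹) = upperHom F (.ofAdd (a * a * v)) := fun v => by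
        rw [map_mul, map_mul, map_inv, hd, hσ, diag_mul_upper, mul_inv_cancel_right]
      rw [← hcongr _ _ _ _ (h1 u) (h1 w)]
      calc ⁅d * σ u * d⁻¹, d * σ w * d⁻¹⁆ = d * ⁅σ u, σ w⁆ * d⁻¹ := by
            simp only [commutatorElement_def]; group
        _ = ⁅σ u, σ w⁆ := by rw [mem_center_iff.mp (hcen u w) d, mul_inv_cancel_right]
  -- transfer
  set U := (upperHom F).range
  set P := U.comap π
  have hUcard : Nat.card ↥U = p ^ (n : ℕ) := by
    have hinj : Function.Injective (upperHom F) := fun s t h => by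
      have := congrArg (fun g : SL(2, F) => (g : Matrix (Fin 2) (Fin 2) F) 0 1) h
      change !![1, s.toAdd; 0, 1] 0 1 = !![1, t.toAdd; 0, 1] 0 1 at this
      exact Multiplicative.toAdd.injective (by simpa using this)
    rw [← Nat.card_congr (MonoidHom.ofInjective hinj).toEquiv,
      Nat.card_congr Multiplicative.toAdd, Nat.card_eq_fintype_card, hn.2]
  have hPp : IsPGroup p ↥P := by
    refine IsPGroup.comap_of_ker_isPGroup (IsPGroup.of_card hUcard) π hpker
  have hidx : ¬ p ∣ P.index := by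
    rw [index_comap_of_surjective _ hπ]
    intro hd
    have h1 := U.card_mul_index
    rw [hUcard, Linear.card_SL_two, hn.2] at h1
    have h2 : U.index = (p ^ (n : ℕ)) ^ 2 - 1 :=
      Nat.eq_of_mul_eq_mul_left (pow_pos (by omega) _) h1
    rw [h2] at hd
    have h3 : 1 ≤ (p ^ (n : ℕ)) ^ 2 := Nat.one_le_pow _ _ (pow_pos (by omega) _)
    have h4 : p ∣ (p ^ (n : ℕ)) ^ 2 := (dvd_pow_self p n.pos.ne').trans (dvd_pow_self _ two_ne_zero)
    have h5 := Nat.dvd_sub h4 hd
    rw [Nat.sub_sub_self h3, Nat.dvd_one] at h5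
    omega
  have hPab : IsMulCommutative ↥P := by
    refine ⟨⟨fun ⟨g, hg⟩ ⟨h, hh⟩ => Subtype.ext ?_⟩⟩
    obtain ⟨u, hu⟩ := hg
    obtain ⟨w, hw⟩ := hh
    refine commutatorElement_eq_one_iff_mul_comm.mp ?_
    rw [hcongr u.toAdd w.toAdd g h hu.symm hw.symm]
    exact congrArg (fun z : Additive ↥(center L) => ((Additive.toMul z : ↥(center L)) : L))
      (hc u.toAdd w.toAdd)
  have hcop : Nat.Coprime (Nat.card ↥P) P.index := by
    obtain ⟨k, hk⟩ := IsPGroup.iff_card.mp hPp
    rw [hk]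
    exact ((Fact.out : p.Prime).coprime_iff_not_dvd.mpr hidx).pow_left k
  have hbot := Transfer.inf_commutator_inf_center_eq_bot P hPab hcop
  have hsur : ∀ A, ∃ x : ↥(commutator L), π x = A := by
    intro A
    have h1 : (commutator L).map π = ⊤ := by
      rw [commutator_def, map_commutator, map_top_of_surjective _ hπ, ← commutator_def,
        Forms4.commutator_SL_two (by omega)]
    obtain ⟨x, hx, rfl⟩ := h1.ge (mem_top A)
    exact ⟨⟨x, hx⟩, rfl⟩
  have hinj : Function.Injective (π.comp (commutator L).subtype) := by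
    rw [injective_iff_map_eq_one]
    rintro ⟨x, hx⟩ (h : π x = 1)
    have hxk : x ∈ π.ker := h
    refine Subtype.ext (mem_bot.mp (hbot.le ⟨⟨?_, hx⟩, hker hxk⟩))
    exact show π x ∈ U from h ▸ U.one_mem
  let e := MulEquiv.ofBijective (π.comp (commutator L).subtype) ⟨hinj, hsur⟩
  exact ⟨(commutator L).subtype.comp e.symm.toMonoidHom, fun A => e.apply_symm_apply A⟩

end CfsgLib.LocalEven50
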