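import Cfsg.Agent.LocalEven50.PushingUpBase

/-!
# Pushing up: the amalgam argument

`lev i` consists of the images of `V` under words of length `i` in `Aut S` and conjugation. If all
images of `V` under `Aut S` lie in `O_p(G)`, then the first level with a member outside `O_p(G)` is
the second one, and some `φ ∈ Aut S` gives a periodic configuration
`[V, θ² V] ≠ 1`, `θ X = (X^φ)^a`, with `V^φ V` and `V^{φ⁻¹} V` not normal.
-/

set_option linter.style.haveILetI false
set_option linter.unusedSectionVars false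

namespace CfsgLib.LocalEven50

open Subgroup Cfsg
open scoped commutatorElement

variable {G : Type*} [Group G] [Finite G] {p : ℕ} [Fact p.Prime] {S M : Subgroup G} {q : ℕ} {a : G}

/-- Images of `Z(O_p(G))` under words of length `i`. -/
def lev (p : ℕ) (S : Subgroup G) : ℕ → Set (Subgroup G)
  | 0 => {zR p G}
  | i + 1 => {Y | ∃ b : G, ∃ φ : MulAut ↥S, ∃ X ∈ lev p S i, Y = cj b (tw φ X)}

theorem cj_mem_lev {i : ℕ} {X : Subgroup G} (b : G) (hX : X ∈ lev p S i) :
    cj b X ∈ lev p S i := by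
  cases i with
  | zero =>
    rw [Set.mem_singleton_iff.mp hX, cj_normal]
    rfl
  | succ i =>
    obtain ⟨c, φ, Y, hY, rfl⟩ := hX
    exact ⟨b * c, φ, Y, hY, (cj_mul b c _).symm⟩

theorem tw_mem_lev {i : ℕ} {X : Subgroup G} (φ : MulAut ↥S) (hX : X ∈ lev p S i) :
    tw φ X ∈ lev p S (i + 1) :=
  ⟨1, φ, X, hX, (cj_one _).symm⟩

theorem push_mem_lev {w : List (G × MulAut ↥S)} {j : ℕ} {X : Subgroup G} (hX : X ∈ lev p S j) :
    push S w X ∈ lev p S (j + w.length) := by
  induction w with
  | nil => exact hX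
  | cons c w ih => exact ⟨c.1, c.2, _, ih, rfl⟩

theorem pull_mem_lev {w : List (G × MulAut ↥S)} {j : ℕ} {X : Subgroup G} (hX : X ∈ lev p S j) :
    pull S w X ∈ lev p S (j + w.length) := by
  induction w generalizing j X with
  | nil => exact hX
  | cons c w ih =>
    rw [pull_cons, List.length_cons, ← add_assoc, Nat.add_right_comm]
    exact ih (tw_mem_lev _ (cj_mem_lev _ hX))

theorem pull_le_self {w : List (G × MulAut ↥S)} (hw : w ≠ []) (X : Subgroup G) :
    pull S w X ≤ S := by
  induction w generalizing X with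
  | nil => exact absurd rfl hw
  | cons c w ih =>
    rcases eq_or_ne w [] with rfl | hw'
    · exact tw_le _ _
    · exact ih hw' _

/-- The powers of `θ X = (X^φ)^a` as words. -/
def per (φ : MulAut ↥S) (a : G) (n : ℕ) : List (G × MulAut ↥S) := List.replicate n (a, φ)

theorem per_succ (φ : MulAut ↥S) (a : G) (n : ℕ) : per φ a (n + 1) = (a, φ) :: per φ a n := rfl

theorem per_succ' (φ : MulAut ↥S) (a : G) (n : ℕ) : per φ a (n + 1) = per φ a n ++ [(a, φ)] :=
  List.replicate_succ'

theorem per_length (φ : MulAut ↥S) (a : G) (n : ℕ) : (per φ a n).length = n :=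
  List.length_replicate

namespace PUCore

theorem core_eq (B : PUCore p S M q a) : S ⊓ centralizer (zR p G : Set G) = pCore p G := by
  refine le_antisymm (fun s hs => ?_) (le_inf B.core_le (le_centralizer_iff.mp inf_le_right))
  by_contra hsR
  have h1 : zR p G ≤ centralizer ({s} : Set G) := fun v hv =>
    mem_centralizer_singleton_iff.mpr (mem_centralizer_iff.mp hs.2 v hv)
  have h2 := B.fix s hs.1 hsR
  rw [inf_eq_left.mpr h1] at h2
  have h3 := B.inf_eq
  rw [inf_eq_left.mpr ((h2.ge.trans (le_of_eq (cj_normal a (zR p G)).symm)).trans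
    (cj_mono h2.le))] at h3
  have h4 := B.card_zS
  rw [h3] at h4
  exact absurd ((Nat.mul_eq_right Nat.card_pos.ne').mp h4.symm) B.data.one_lt.ne'

theorem core_eq_cj (B : PUCore p S M q a) (b : G) :
    cj b S ⊓ centralizer (zR p G : Set G) = pCore p G := by
  haveI := pCore_normal p G
  have := congrArg (cj b) B.core_eq
  rwa [cj_inf, cj_centralizer, cj_normal b (zR p G), cj_normal b (pCore p G)] at this

theorem comm_of_le_core {X : Subgroup G} (hX : X ≤ pCore p G) : ⁅zR p G, X⁆ = ⊥ :=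
  commutator_eq_bot_iff_le_centralizer.mpr (inf_le_right.trans (centralizer_le hX))

theorem card_zR (B : PUCore p S M q a) :
    Nat.card ↥(zR p G) = q * Nat.card ↥(zS S) := by
  have h := card_sup_mul_card_inf_of_coe (zS S) (cj a (zS S))
    (coe_mul_of_left_le_normalizer_right _ _ (((B.zS_le.trans B.zR_comm).trans
      (centralizer_le B.cj_zS_le)).trans (centralizer_le_normalizer _)))
  rw [B.sup_eq, B.inf_eq, card_cj] at h
  nth_rw 1 [B.card_zS] at h
  exact Nat.eq_of_mul_eq_mul_right (Nat.card_pos (α := ↥(zG p G))) (h.trans (by ring))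

variable (B : PUCore p S M q a)
include B

theorem zR_ne_bot : zR p G ≠ ⊥ := by
  intro h
  have := B.card_zR
  rw [h, card_bot] at this
  exact B.data.one_lt.ne (mul_eq_one.mp this.symm).1.symm

end PUCore

namespace PUBase

variable (B : PUBase p S M q a)
include B

/-- Some member of some level lies outside `O_p(G)`. -/
theorem exists_lev : ∃ i, ∃ X ∈ lev p S i, ¬ X ≤ pCore p G := by
  by_contra hno
  push Not at hno
  set T := ⨆ x : {x : ℕ × Subgroup G // x.2 ∈ lev p S x.1}, x.1.2 with hT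
  have hle : T ≤ pCore p G := iSup_le fun x => hno _ _ x.2
  have hVT : zR p G ≤ T :=
    le_iSup (fun x : {x : ℕ × Subgroup G // x.2 ∈ lev p S x.1} => x.1.2) ⟨(0, zR p G), rfl⟩
  refine B.zR_ne_bot (le_bot_iff.mp (hVT.trans (B.hd T (hle.trans B.core_le) ?_ ?_).le))
  · exact charIn_iSup (fun x => (hno _ _ x.2).trans B.core_le) fun φ x =>
      le_iSup_of_le ⟨(x.1.1 + 1, tw φ x.1.2), tw_mem_lev φ x.2⟩ le_rfl
  · refine ⟨fun y hy b => ?_⟩
    refine (?_ : cj b T ≤ T) (mem_cj.mpr (by simpa [mul_assoc] using hy))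
    rw [hT, cj, Subgroup.map_iSup]
    exact iSup_le fun x => le_iSup_of_le ⟨(x.1.1, cj b x.1.2), cj_mem_lev b x.2⟩ le_rfl

/-- The first level with a member outside `O_p(G)` is not the zeroth. -/
theorem exists_bound : ∃ K, (∀ i ≤ K, ∀ X ∈ lev p S i, X ≤ pCore p G) ∧
    ∃ X ∈ lev p S (K + 1), ¬ X ≤ pCore p G := by
  classical
  have hex := B.exists_lev
  rcases hj : Nat.find hex with _ | K
  · obtain ⟨X, hX, hXR⟩ := Nat.find_spec hex
    rw [hj] at hX
    exact absurd ((Set.mem_singleton_iff.mp hX).le.trans inf_le_left) hXR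
  · refine ⟨K, fun i hi X hX => ?_, hj ▸ Nat.find_spec hex⟩
    by_contra hne
    exact Nat.find_min hex (show i < Nat.find hex by omega) ⟨X, hX, hne⟩

variable {K : ℕ} (hsm : ∀ i ≤ K, ∀ X ∈ lev p S i, X ≤ pCore p G)
include hsm

theorem good {w : List (G × MulAut ↥S)} {j : ℕ} {X : Subgroup G} (hX : X ∈ lev p S j)
    (h : j + w.length ≤ K + 1) : Good w X := by
  induction w with
  | nil => trivial
  | cons c w ih =>
    rw [List.length_cons] at h
    exact ⟨(hsm _ (by omega) _ (push_mem_lev hX)).trans B.core_le, ih (by omega)⟩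

theorem push_pull {w : List (G × MulAut ↥S)} {j : ℕ} {X : Subgroup G} (hX : X ∈ lev p S j)
    (h : j + w.length ≤ K + 1) : push S w (pull S w X) = X ∧ Good w (pull S w X) := by
  induction w generalizing j X with
  | nil => exact ⟨rfl, trivial⟩
  | cons c w ih =>
    rw [List.length_cons] at h
    have h1 : cj c.1⁻¹ X ≤ S := (hsm j (by omega) _ (cj_mem_lev _ hX)).trans B.core_le
    obtain ⟨e, hg⟩ := ih (tw_mem_lev c.2⁻¹ (cj_mem_lev c.1⁻¹ hX)) (by omega)
    refine ⟨?_, ?_, hg⟩
    · rw [pull_cons, push_cons, e, tw_tw_inv h1, cj_cj_inv]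
    · rw [pull_cons, e]; exact tw_le _ _

theorem pull_push {w : List (G × MulAut ↥S)} {j : ℕ} {X : Subgroup G} (hX : X ∈ lev p S j)
    (h : j + w.length ≤ K + 1) : pull S w (push S w X) = X := by
  induction w with
  | nil => rfl
  | cons c w ih =>
    rw [List.length_cons] at h
    rw [push_cons, pull_cons, cj_inv_cj,
      tw_inv_tw ((hsm _ (by omega) _ (push_mem_lev hX)).trans B.core_le), ih (by omega)]

/-- Shifting a critical word backwards: if `V^χ` does not meet the predecessor of the far end,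
then `V^χ V` is normal. -/
theorem shift {w₁ : List (G × MulAut ↥S)} {c l : G × MulAut ↥S} (hlen : w₁.length + 1 = K)
    (hhead : c.1 = a) (χ : MulAut ↥S)
    (hcrit : ⁅zR p G, push S ((c :: w₁) ++ [l]) (zR p G)⁆ ≠ ⊥)
    (h0 : ⁅tw χ (zR p G), push S (c :: w₁) (zR p G)⁆ = ⊥) :
    (tw χ (zR p G) ⊔ zR p G).Normal := by
  haveI := pCore_normal p G
  set V := zR p G with hV
  set C := zS S with hC
  have hV0 : V ∈ lev p S 0 := rfl
  have hVR : V ≤ pCore p G := inf_le_left
  set w := c :: w₁ with hw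
  have hwK : w.length = K := by simpa [hw] using hlen
  set V1 := cj l.1 (tw l.2 V) with hV1
  have hV1' : V1 ∈ lev p S 1 := ⟨l.1, l.2, V, hV0, rfl⟩
  set W := push S (w ++ [l]) V with hW
  have eW : W = push S w V1 := push_append _ _ _
  have hWS : W ≤ cj a S := by
    rw [eW, hw, push_cons, hhead]; exact cj_mono (tw_le _ _)
  have hWR : ¬ W ≤ pCore p G := fun hle => hcrit (PUCore.comm_of_le_core hle)
  obtain ⟨x, hxW, hxR⟩ := SetLike.not_le_iff_exists.mp hWR
  have hgV1 : Good w V1 := B.good hsm hV1' (by omega)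
  have hwne : w ≠ [] := List.cons_ne_nil _ _
  -- the pullback of `V`
  set P1 := pull S w V
  obtain ⟨eP1, hgP1⟩ := B.push_pull hsm hV0 (w := w) (by omega)
  have hP1R : P1 ≤ pCore p G := hsm _ (by omega) _ (pull_mem_lev hV0)
  set P := tw l.2⁻¹ (cj l.1⁻¹ P1) with hPdef
  have hP1S : cj l.1⁻¹ P1 ≤ S :=
    ((cj_mono hP1R).trans (cj_normal _ _).le).trans B.core_le
  have eP : cj l.1 (tw l.2 P) = P1 := by rw [hPdef, tw_tw_inv hP1S, cj_cj_inv]
  have hPS : P ≤ S := tw_le _ _
  have hcardP : Nat.card P = Nat.card V := by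
    rw [hPdef, card_tw hP1S, card_cj, ← card_push hgP1, eP1]
  -- the pullback of `V^χ`
  set X := tw χ V
  have hX1 : X ∈ lev p S 1 := tw_mem_lev χ hV0
  have hXR : X ≤ pCore p G := hsm 1 (by omega) _ hX1
  obtain ⟨eY, hgY⟩ := B.push_pull hsm hX1 (w := w) (by omega)
  set Y := pull S w X
  have hYR : Y ≤ pCore p G := by
    rw [← B.core_eq]
    refine le_inf (pull_le_self hwne _) (commutator_eq_bot_iff_le_centralizer.mp ?_)
    have := pull_comm_bot w h0
    rwa [B.pull_push hsm hV0 (by omega)] at this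
  have hYS : cj l.1⁻¹ Y ≤ S := ((cj_mono hYR).trans (cj_normal _ _).le).trans B.core_le
  set Y3 := tw l.2⁻¹ (cj l.1⁻¹ Y) with hY3def
  have eY3 : cj l.1 (tw l.2 Y3) = Y := by rw [hY3def, tw_tw_inv hYS, cj_cj_inv]
  have hVS : V ≤ S := B.zR_le
  have e1 : ⁅X, W⁆ = push S w (cj l.1 (tw l.2 ⁅Y3, V⁆)) := by
    rw [tw_commutator (tw_le _ _) hVS, cj_commutator, eY3, ← hV1, ← commutator_push hgY hgV1,
      eY, ← eW]
  have e2 : ⁅V, W⁆ = push S w (cj l.1 (tw l.2 ⁅P, V⁆)) := by
    rw [tw_commutator hPS hVS, cj_commutator, eP, ← hV1, ← commutator_push hgP1 hgV1, eP1, ← eW]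
  -- `P O_p(G) = S`
  have hPR : P ⊔ pCore p G = S := by
    have h1 := card_sup_mul_card_inf_of_coe P (pCore p G) (mul_normal P _)
    have h2 : Nat.card ↥(P ⊓ pCore p G) ≤ Nat.card C := by
      have hz : ⁅P ⊓ pCore p G, V⁆ = ⊥ := by
        rw [commutator_comm]; exact PUCore.comm_of_le_core inf_le_right
      set Z := cj l.1 (tw l.2 (P ⊓ pCore p G))
      have hZ1 : Z ≤ P1 := (cj_mono (tw_mono inf_le_left)).trans eP.le
      have hZW : push S w Z ≤ V ⊓ centralizer ({x} : Set G) := by
        refine le_inf ((push_mono w hZ1).trans eP1.le) ((commutator_eq_bot_iff_le_centralizer.mp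
          ?_).trans (centralizer_le (Set.singleton_subset_iff.mpr hxW)))
        rw [eW]
        exact push_comm_bot w (cj_comm_bot (tw_comm_bot hz))
      rw [B.fix_cj (hWS hxW) hxR] at hZW
      have h3 := card_le_of_le hZW
      rwa [card_push (hgP1.mono hZ1), card_cj, card_tw (inf_le_left.trans hPS), card_cj] at h3
    have hqR := LocalEvenBasic.card_mul_relIndex_of_le _ S B.core_le
    rw [B.data.index_core] at hqR
    refine eq_of_le_of_card_ge (sup_le hPS B.core_le) ?_
    refine Nat.le_of_mul_le_mul_right ?_ (Nat.card_pos (α := ↥(P ⊓ pCore p G)))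
    calc Nat.card S * Nat.card ↥(P ⊓ pCore p G)
        ≤ Nat.card ↥(pCore p G) * q * Nat.card C := by
          rw [← hqR]; exact Nat.mul_le_mul_left _ h2
      _ = Nat.card P * Nat.card ↥(pCore p G) := by rw [hcardP, B.card_zR]; ring
      _ = _ := h1.symm
  have h3 : ⁅Y3, V⁆ ≤ ⁅P, V⁆ := by
    rw [commutator_le]
    intro y hy v hv
    have hy' : y ∈ ((P ⊔ pCore p G : Subgroup G) : Set G) := hPR.ge (tw_le _ _ hy)
    rw [mul_normal] at hy'
    obtain ⟨π, hπ, r, hr, rfl⟩ := hy'
    have hrv : ⁅r, v⁆ = 1 :=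
      commutatorElement_eq_one_iff_mul_comm.mpr (mem_centralizer_iff.mp hv.2 r hr)
    have e : ⁅π * r, v⁆ = π * ⁅r, v⁆ * π⁻¹ * ⁅π, v⁆ := by
      simp only [commutatorElement_def]; group
    simp only [e, hrv, mul_one, mul_inv_cancel, one_mul]
    exact commutator_mem_commutator hπ hv
  have hXW : ⁅X, W⁆ ≤ V := by
    rw [e1]
    refine ((push_mono w (cj_mono (tw_mono h3))).trans e2.ge).trans ?_
    exact (Coprime.commutator_le_of_le_normalizer (by rw [normalizer_eq_top]; exact le_top))
  -- normality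
  have hS : S ≤ normalizer ((X ⊔ V : Subgroup G) : Set G) := by
    intro s hs
    refine mem_normalizer_iff_map_conj_eq.mpr ?_
    rw [Subgroup.map_sup, mem_normalizer_iff_map_conj_eq.mp
      (le_normalizer_tw (φ := χ) (X := V) (by rw [normalizer_eq_top]; exact le_top) hs)]
    exact congrArg (X ⊔ ·) (cj_normal s V)
  have hx : x ∈ normalizer ((X ⊔ V : Subgroup G) : Set G) := by
    refine mem_normalizer_iff_map_conj_eq.mpr (eq_of_le_of_card_ge ?_
      (card_map_of_injective (MulAut.conj x).injective).ge)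
    rw [Subgroup.map_sup]
    refine sup_le ?_ ((cj_normal x V).le.trans le_sup_right)
    rintro _ ⟨y, hy, rfl⟩
    have hm : ⁅y, x⁆ ∈ V := hXW (commutator_mem_commutator hy hxW)
    have := (X ⊔ V).mul_mem (mem_sup_right (V.inv_mem hm)) (mem_sup_left hy)
    rw [commutatorElement_inv, commutatorElement_def] at this
    simpa [mul_assoc] using this
  rw [← normalizer_eq_top_iff, eq_top_iff, ← B.gen (hWS hxW) hxR]
  exact sup_le (zpowers_le.mpr hx) hS

/-- A periodic critical word rules out `V^φ V ⊴ G`. -/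
theorem not_normal {φ : MulAut ↥S} (hK : 1 ≤ K)
    (hcrit : ⁅zR p G, push S (per φ a (K + 1)) (zR p G)⁆ ≠ ⊥) :
    ¬ (tw φ (zR p G) ⊔ zR p G).Normal ∧ ¬ (tw φ⁻¹ (zR p G) ⊔ zR p G).Normal := by
  haveI := pCore_normal p G
  set V := zR p G with hV
  have hV0 : V ∈ lev p S 0 := rfl
  obtain ⟨K', rfl⟩ : ∃ K', K = K' + 1 := ⟨K - 1, by omega⟩
  constructor <;> intro hn
  · refine hcrit ?_
    rw [per_succ', push_append, push_cons, push_nil]
    obtain ⟨e, -⟩ := B.push_pull hsm hV0 (w := per φ a (K' + 1)) (by rw [per_length]; omega)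
    conv_lhs => arg 1; rw [← e]
    refine push_comm_bot _ ?_
    set Q := pull S (per φ a (K' + 1)) V with hQ
    have hQR : Q ≤ pCore p G := by
      refine hsm _ le_rfl _ ?_
      have := pull_mem_lev (w := per φ a (K' + 1)) hV0
      rwa [per_length, Nat.zero_add] at this
    have hQV : ⁅Q, V⁆ = ⊥ := by rw [commutator_comm]; exact PUCore.comm_of_le_core hQR
    have hQX : ⁅Q, tw φ V⁆ = ⊥ := by
      have h1 : tw φ⁻¹ Q ≤ pCore p G := by
        rw [hQ, per_succ']
        have : ∀ (u : List (G × MulAut ↥S)) (X : Subgroup G),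
            pull S (u ++ [(a, φ)]) X = tw φ⁻¹ (cj a⁻¹ (pull S u X)) := by
          intro u
          induction u with
          | nil => intro X; rfl
          | cons c u ih => intro X; simp [ih]
        rw [this, tw_tw]
        refine hsm _ le_rfl _ (tw_mem_lev _ (cj_mem_lev _ ?_))
        have := pull_mem_lev (w := per φ a K') hV0
        rwa [per_length, Nat.zero_add] at this
      have := tw_comm_bot (φ := φ) (PUCore.comm_of_le_core h1)
      rw [tw_tw_inv (hQR.trans B.core_le), commutator_comm] at this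
      exact this
    have hle : cj a (tw φ V) ≤ tw φ V ⊔ V := (cj_mono le_sup_left).trans (cj_normal a _).le
    rw [commutator_eq_bot_iff_le_centralizer] at hQV hQX ⊢
    refine le_trans ?_ (centralizer_le hle)
    rw [PLocal.centralizer_sup]
    exact le_inf hQX hQV
  · refine hcrit ?_
    rw [per_succ, push_cons]
    set W := push S (per φ a (K' + 1)) V with hW
    have hWm : W ∈ lev p S (K' + 1) := by
      have := push_mem_lev (w := per φ a (K' + 1)) hV0
      rwa [per_length, Nat.zero_add] at this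
    have hWR : W ≤ pCore p G := hsm _ le_rfl _ hWm
    suffices h : ⁅tw φ⁻¹ V, W⁆ = ⊥ by
      have h2 := cj_comm_bot (a := a) (tw_comm_bot (φ := φ) h)
      rwa [tw_tw_inv B.zR_le, cj_normal a V] at h2
    rw [hW, per_succ, push_cons]
    set W' := push S (per φ a K') V with hW'
    have hWm' : W' ∈ lev p S K' := by
      have := push_mem_lev (w := per φ a K') hV0
      rwa [per_length, Nat.zero_add] at this
    have h1 : tw φ W' ≤ pCore p G := hsm _ le_rfl _ (tw_mem_lev _ hWm')
    have h2 : tw φ (tw φ W') ≤ pCore p G := by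
      rw [tw_tw]; exact hsm _ le_rfl _ (tw_mem_lev _ hWm')
    have h3 : ⁅tw φ⁻¹ V, tw φ W'⁆ = ⊥ := by
      have := tw_comm_bot (φ := φ⁻¹) (PUCore.comm_of_le_core h2)
      rwa [tw_inv_tw (h1.trans B.core_le)] at this
    have h4 : ⁅tw φ⁻¹ V ⊔ V, tw φ W'⁆ = ⊥ := by
      rw [commutator_eq_bot_iff_le_centralizer] at h3 ⊢
      exact sup_le h3 (commutator_eq_bot_iff_le_centralizer.mp (PUCore.comm_of_le_core h1))
    have h5 := cj_comm_bot (a := a) h4
    rw [cj_normal a (tw φ⁻¹ V ⊔ V)] at h5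
    rw [commutator_eq_bot_iff_le_centralizer] at h5 ⊢
    exact le_sup_left.trans h5

/-- Some periodic word of length `K + 1` is critical. -/
theorem exists_periodic (hK : 1 ≤ K) (hcrit : ∃ X ∈ lev p S (K + 1), ¬ X ≤ pCore p G) :
    ∃ φ : MulAut ↥S, ⁅zR p G, push S (per φ a (K + 1)) (zR p G)⁆ ≠ ⊥ := by
  classical
  haveI := pCore_normal p G
  set V := zR p G with hV
  -- a word for the critical member
  have hword : ∀ i, ∀ X ∈ lev p S i, ∃ w : List (G × MulAut ↥S),
      w.length = i ∧ X = push S w V := by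
    intro i
    induction i with
    | zero => intro X hX; exact ⟨[], rfl, hX⟩
    | succ i ih =>
      rintro X ⟨b, φ, Y, hY, rfl⟩
      obtain ⟨w, hw, rfl⟩ := ih Y hY
      exact ⟨(b, φ) :: w, by simp [hw], rfl⟩
  obtain ⟨X, hX, hXR⟩ := hcrit
  obtain ⟨w, hw, rfl⟩ := hword _ X hX
  obtain ⟨χ₀, hχ₀⟩ : ∃ χ : MulAut ↥S, ¬ (tw χ V ⊔ V).Normal := by
    by_contra hno
    push Not at hno
    haveI : ∀ χ : MulAut ↥S, (tw χ V ⊔ V).Normal := hno
    have hle : ∀ χ : MulAut ↥S, tw χ V ⊔ V ≤ S := fun χ => sup_le (tw_le _ _) B.zR_le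
    refine B.zR_ne_bot (le_bot_iff.mp ((le_sup_right.trans
      (le_iSup (fun χ : MulAut ↥S => tw χ V ⊔ V) 1)).trans
        (B.hd (⨆ χ : MulAut ↥S, tw χ V ⊔ V) (iSup_le hle) (charIn_iSup hle ?_) ?_).le))
    · intro ψ χ
      rw [tw]
      have e2 : (tw χ V ⊔ V).subgroupOf S = (tw χ V).subgroupOf S ⊔ V.subgroupOf S :=
        subgroupOf_sup (tw_le _ _) B.zR_le
      rw [e2, Subgroup.map_sup]
      refine sup_le (le_iSup_of_le (ψ * χ) ?_) (le_iSup_of_le ψ le_sup_left)
      exact le_sup_of_le_left (tw_tw ψ χ V).le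
    · exact Subgroup.iSup_normal _
  set χ := χ₀⁻¹
  have hlast : ∀ (b b' : G) (φ : MulAut ↥S) (r : List (G × MulAut ↥S)),
      ⁅V, push S ((b, φ) :: r) V⁆ ≠ ⊥ → ⁅V, push S ((b', φ) :: r) V⁆ ≠ ⊥ := by
    intro b b' φ r h h'
    apply h
    have := cj_comm_bot (a := b * b'⁻¹) h'
    rwa [cj_normal, push_cons, ← cj_mul, inv_mul_cancel_right] at this
  have key : ∀ i ≤ K + 1, ∃ r : List (G × MulAut ↥S), r.length + i = K + 1 ∧
      (∀ c ∈ (per χ a i ++ r).head?, c.1 = a) ∧ ⁅V, push S (per χ a i ++ r) V⁆ ≠ ⊥ := by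
    intro i hi
    induction i with
    | zero =>
      obtain ⟨⟨b, φ⟩, r, rfl⟩ : ∃ c r, w = c :: r := by
        cases w with
        | nil => simp at hw
        | cons c r => exact ⟨c, r, rfl⟩
      refine ⟨(a, φ) :: r, by simpa using hw, by simp [per], ?_⟩
      refine hlast b a φ r fun h => hXR ?_
      have hS : push S ((b, φ) :: r) V ≤ cj b S := cj_mono (tw_le _ _)
      rw [← B.core_eq_cj b]
      refine le_inf hS (commutator_eq_bot_iff_le_centralizer.mp ?_)
      rwa [commutator_comm]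
    | succ i ih =>
      obtain ⟨r, hr, hhead, hne⟩ := ih (by omega)
      obtain ⟨r', l, rfl⟩ : ∃ r' l, r = r' ++ [l] := by
        refine ⟨r.dropLast, r.getLast (by intro h; simp [h] at hr; omega), ?_⟩
        rw [List.dropLast_append_getLast]
      rw [← List.append_assoc] at hhead hne
      obtain ⟨c, w₁, hcw⟩ : ∃ c w₁, per χ a i ++ r' = c :: w₁ := by
        rcases hcw : per χ a i ++ r' with _ | ⟨c, w₁⟩
        · exfalso
          have := congrArg List.length hcw
          rw [List.length_append, per_length, List.length_nil] at this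
          rw [List.length_append, List.length_singleton] at hr
          omega
        · exact ⟨c, w₁, rfl⟩
      refine ⟨r', by simp at hr; omega, ?_, ?_⟩
      · simp [per_succ]
      rw [hcw] at hne hhead
      have hc : c.1 = a := hhead c (by simp)
      have hlen : w₁.length + 1 = K := by
        have := congrArg List.length hcw
        simp [per] at this hr
        omega
      have h1 : ⁅tw χ₀ V, push S (c :: w₁) V⁆ ≠ ⊥ := fun h0 =>
        hχ₀ (B.shift hsm hlen hc χ₀ hne h0)
      rw [per_succ, List.cons_append, hcw, push_cons]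
      intro h2
      apply h1
      have h3 := cj_comm_bot (a := a⁻¹) h2
      rw [cj_normal, cj_inv_cj] at h3
      have h4 := tw_comm_bot (φ := χ₀) h3
      rwa [tw_tw_inv ((hsm K le_rfl _ ?_).trans B.core_le)] at h4
      have := push_mem_lev (w := c :: w₁) (show V ∈ lev p S 0 from rfl)
      rwa [List.length_cons, hlen, Nat.zero_add] at this
  obtain ⟨r, hr, -, hne⟩ := key (K + 1) le_rfl
  obtain rfl : r = [] := List.length_eq_zero_iff.mp (by omega)
  exact ⟨χ, by simpa using hne⟩

/-- If the images of `V` under `Aut S` lie in `O_p(G)`, then `K = 1`. -/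
theorem bound_le_one {φ : MulAut ↥S} (hK : 2 ≤ K)
    (hcrit : ⁅zR p G, push S (per φ a (K + 1)) (zR p G)⁆ ≠ ⊥) : False := by
  haveI := pCore_normal p G
  set V := zR p G with hV
  set C := zS S with hC
  have hV0 : V ∈ lev p S 0 := rfl
  obtain ⟨hn, -⟩ := B.not_normal hsm (by omega) hcrit
  obtain ⟨K', rfl⟩ : ∃ K', K = K' + 2 := ⟨K - 2, by omega⟩
  have hlevV : ∀ n, push S (per φ a n) V ∈ lev p S n := fun n => by
    have := push_mem_lev (w := per φ a n) hV0
    rwa [per_length, Nat.zero_add] at this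
  set X := tw φ V
  set W := push S (per φ a (K' + 2)) V with hW
  set E := ⁅X, W⁆ with hE
  have hEne : E ≠ ⊥ := by
    intro h
    rw [per_succ', per_succ] at hcrit
    refine hn (B.shift hsm (w₁ := per φ a (K' + 1)) (c := (a, φ)) (l := (a, φ)) ?_ rfl φ hcrit h)
    rw [per_length]
  have hWR : W ≤ pCore p G := hsm _ le_rfl _ (hlevV _)
  have hXquad : ⁅X, S⁆ ≤ C := by
    rw [← tw_self φ, ← tw_commutator B.zR_le le_rfl]
    exact (tw_mono B.quad).trans (charIn_zS S φ)
  have hEC : E ≤ C := (commutator_mono le_rfl (hWR.trans B.core_le)).trans hXquad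
  obtain ⟨eY, hgY⟩ := B.push_pull hsm (tw_mem_lev φ hV0) (w := per φ a (K' + 2))
    (by rw [per_length]; omega)
  have hgV : Good (per φ a (K' + 2)) V := B.good hsm hV0 (by rw [per_length]; omega)
  have hEK : E ≤ push S (per φ a (K' + 2)) C := by
    show ⁅tw φ V, W⁆ ≤ _
    rw [← eY, hW, commutator_push hgY hgV]
    refine push_mono _ ((commutator_mono (pull_le_self (by simp [per]) _) le_rfl).trans ?_)
    rw [commutator_comm]; exact B.quad
  set W1 := push S (per φ a (K' + 3)) V with hW1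
  have hW1S : W1 ≤ cj a S := by rw [hW1, per_succ, push_cons]; exact cj_mono (tw_le _ _)
  obtain ⟨x, hxW, hxR⟩ := SetLike.not_le_iff_exists.mp
    (fun hle : W1 ≤ pCore p G => hcrit (PUCore.comm_of_le_core hle))
  have hfix : ∀ T : Subgroup G, T ≤ V → ⁅T, W1⁆ = ⊥ → T ≤ cj a C := fun T hT h => by
    rw [← B.fix_cj (hW1S hxW) hxR]
    exact le_inf hT ((commutator_eq_bot_iff_le_centralizer.mp h).trans
      (centralizer_le (Set.singleton_subset_iff.mpr hxW)))
  have hCV : C ≤ V := B.zS_le
  have hstep : ∀ j n, j + n = K' + 3 → n ≤ K' + 2 → ∀ T : Subgroup G,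
      T ≤ push S (per φ a j) V → ⁅T, W1⁆ = ⊥ := by
    intro j n hjn hn T hT
    refine le_bot_iff.mp ((commutator_mono hT le_rfl).trans (le_of_eq ?_))
    rw [hW1, ← hjn, show per φ a (j + n) = per φ a j ++ per φ a n from List.replicate_add _ _ _, push_append]
    exact push_comm_bot _ (PUCore.comm_of_le_core (hsm n hn _ (hlevV n)))
  have hEfix : E ≤ cj a C := by
    refine hfix E (hEC.trans hCV) (hstep (K' + 2) 1 rfl (by omega) E ?_)
    exact hEK.trans (push_mono _ hCV)
  have hE0 : E ≤ zG p G := by rw [← B.inf_eq]; exact le_inf hEC hEfix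
  have hcjE : cj a⁻¹ E = E := by
    haveI : E.Normal := normal_of_central (hE0.trans inf_le_right)
    exact cj_normal _ _
  have he : tw φ⁻¹ E ≤ C := (tw_mono hEC).trans (charIn_zS S φ⁻¹)
  have he1 : tw φ⁻¹ E ≤ zG p G := by
    rw [← B.inf_eq]
    refine le_inf he (hfix _ (he.trans hCV) (hstep (K' + 1) 2 rfl (by omega) _ ?_))
    refine le_trans (tw_mono (hcjE.ge.trans (cj_mono hEK))) ?_
    rw [per_succ, push_cons, cj_inv_cj,
      tw_inv_tw (((push_mono _ hCV).trans (hsm _ (by omega) _ (hlevV _))).trans B.core_le)]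
    exact push_mono _ hCV
  -- translate back
  have h1 : tw φ⁻¹ E = ⁅V, tw φ⁻¹ W⁆ := by
    rw [hE, tw_commutator (tw_le _ _) (hWR.trans B.core_le), tw_inv_tw B.zR_le]
  apply hEne
  have h2 : ⁅V, tw φ⁻¹ W⁆ = ⊥ := by
    rw [eq_bot_iff, commutator_le]
    intro v hv s hs
    exact mem_bot.mpr (B.commutator_eq_one hv (tw_le _ _ hs)
      (he1 (h1.ge (commutator_mem_commutator hv hs))))
  rw [← tw_tw_inv (φ := φ) (hEC.trans inf_le_left), h1, h2, tw_bot]

end PUBase

end CfsgLib.LocalEven50
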