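import Cfsg.Agent.LocalEven50.NatSection
import Cfsg.Agent.LocalEven50.PushingUpPeriodic

/-!
# Chief factors along a series with natural and hypercentral sections
-/

set_option linter.style.haveILetI false
set_option linter.unusedSectionVars false

namespace CfsgLib.LocalEven50

open Subgroup Cfsg
open scoped MatrixGroups commutatorElement

variable {G : Type*} [Group G] [Finite G] {p : ℕ} [Fact p.Prime] {F : Type*} [Field F]

/-- `G` acts through `ρ` on the natural module `X/Y`. -/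
def IsRepOn (ρ : G →* SL(2, F)) (X Y : Subgroup G) : Prop :=
  ∃ ψ : ↥X →* Multiplicative (Fin 2 → F), Function.Surjective ψ ∧
    (∀ x : ↥X, ψ x = 1 ↔ (x : G) ∈ Y) ∧
    ∀ (g : G) (x w : ↥X), (w : G) = g * x * g⁻¹ →
      (ψ w).toAdd = (ρ g : Matrix (Fin 2) (Fin 2) F).mulVec (ψ x).toAdd

theorem IsRepOn.irreducible {ρ : G →* SL(2, F)} (hρ : Function.Surjective ρ) {X Y : Subgroup G}
    (h : IsRepOn ρ X Y) {N : Subgroup G} (hN : N.Normal) (hYN : Y ≤ N) (hNX : N ≤ X) :
    N = Y ∨ N = X := by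
  obtain ⟨ψ, hsurj, hker, hequiv⟩ := h
  by_cases hNY : N ≤ Y
  · exact Or.inl (le_antisymm hNY hYN)
  right
  obtain ⟨x, hx, hxY⟩ := SetLike.not_le_iff_exists.mp hNY
  let I : Subgroup (Multiplicative (Fin 2 → F)) := (N.subgroupOf X).map ψ
  have hmem : ∀ v ∈ I, ∀ h : SL(2, F),
      Multiplicative.ofAdd ((h : Matrix (Fin 2) (Fin 2) F).mulVec v.toAdd) ∈ I := by
    rintro _ ⟨y, hy, rfl⟩ h
    obtain ⟨g, rfl⟩ := hρ h
    have hw : g * (y : G) * g⁻¹ ∈ X := hNX (hN.conj_mem _ hy g)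
    exact ⟨⟨_, hw⟩, hN.conj_mem _ hy g, by rw [← hequiv g y ⟨_, hw⟩ rfl]; rfl⟩
  have hsub : ∀ v w : Multiplicative (Fin 2 → F), v ∈ I → w ∈ I →
      Multiplicative.ofAdd (v.toAdd - w.toAdd) ∈ I := fun v w hv hw => by
    rw [ofAdd_sub]; exact I.div_mem hv hw
  have hup : ∀ v ∈ I, ∀ t : F, Multiplicative.ofAdd (![t * v.toAdd 1, 0] : Fin 2 → F) ∈ I := by
    intro v hv t
    have h1 := hsub _ _ (hmem v hv (upperHom F (.ofAdd t))) hv
    convert h1 using 2
    rw [coe_upper]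
    ext i
    fin_cases i <;> simp [Matrix.mulVec, dotProduct, Fin.sum_univ_two]
  have hlo : ∀ v ∈ I, ∀ t : F, Multiplicative.ofAdd (![0, t * v.toAdd 0] : Fin 2 → F) ∈ I := by
    intro v hv t
    have h1 := hsub _ _ (hmem v hv (lowerHom F (.ofAdd t))) hv
    convert h1 using 2
    rw [coe_lower]
    ext i
    fin_cases i <;> simp [Matrix.mulVec, dotProduct, Fin.sum_univ_two]
  set v := ψ ⟨x, hNX hx⟩
  have hvI : v ∈ I := ⟨_, hx, rfl⟩
  have hv : v.toAdd 0 ≠ 0 ∨ v.toAdd 1 ≠ 0 := by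
    by_contra hne
    push Not at hne
    refine hxY ((hker ⟨x, hNX hx⟩).mp (Multiplicative.toAdd.injective (funext fun i => ?_)))
    fin_cases i
    · exact hne.1
    · exact hne.2
  have h0 : ∀ t, Multiplicative.ofAdd (![t, 0] : Fin 2 → F) ∈ I := by
    intro t
    rcases hv with hv | hv
    · have h1 := hlo v hvI (v.toAdd 0)⁻¹
      rw [inv_mul_cancel₀ hv] at h1
      simpa using hup _ h1 t
    · have := hup v hvI (t * (v.toAdd 1)⁻¹)
      rwa [inv_mul_cancel_right₀ hv] at this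
  have h1 : ∀ t, Multiplicative.ofAdd (![0, t] : Fin 2 → F) ∈ I := fun t => by
    simpa using hlo _ (h0 1) t
  refine le_antisymm hNX fun y hy => ?_
  have hyI : ψ ⟨y, hy⟩ ∈ I := by
    have := I.mul_mem (h0 ((ψ ⟨y, hy⟩).toAdd 0)) (h1 ((ψ ⟨y, hy⟩).toAdd 1))
    convert this using 1
    rw [← ofAdd_add]
    apply Multiplicative.toAdd.injective
    ext i
    fin_cases i <;> simp
  obtain ⟨z, hz, hze⟩ := hyI
  have h3 : ((z⁻¹ * ⟨y, hy⟩ : ↥X) : G) ∈ Y := (hker _).mp (by
    rw [map_mul, map_inv, hze, inv_mul_cancel])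
  simpa using N.mul_mem hz (hYN h3)

variable {S : Subgroup G}

/-- An element of order prime to `p` lies in a normal subgroup covering `G` with a `p`-group. -/
theorem mem_of_sup_eq_top (hS : IsPGroup p S) {N : Subgroup G} [N.Normal] (h : N ⊔ S = ⊤) {x : G}
    (hx : ¬ p ∣ orderOf x) : x ∈ N := by
  rw [← QuotientGroup.eq_one_iff]
  have hmem : (x : G ⧸ N) ∈ S.map (QuotientGroup.mk' N) := by
    have h1 := mem_map_of_mem (QuotientGroup.mk' N) (h.ge (mem_top x))
    rwa [Subgroup.map_sup, QuotientGroup.map_mk'_self, bot_sup_eq] at h1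
  obtain ⟨k, hk⟩ := (hS.map (QuotientGroup.mk' N)) ⟨_, hmem⟩
  have h2 : orderOf (x : G ⧸ N) ∣ p ^ k := orderOf_dvd_of_pow_eq_one (congrArg Subtype.val hk)
  exact orderOf_eq_one_iff.mp (Nat.eq_one_of_dvd_coprimes
    (((Fact.out : p.Prime).coprime_iff_not_dvd.mpr hx).pow_left k) h2
    (orderOf_map_dvd (QuotientGroup.mk' N) x))

/-- A normal subgroup whose `p'`-elements centralise `O_p(G)` lies in `O_p(G)`. -/
theorem le_core_of_centralizing (hcp : centralizer (pCore p G : Set G) ≤ pCore p G)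
    {K : Subgroup G} [K.Normal]
    (h : ∀ x ∈ K, ¬ p ∣ orderOf x → x ∈ centralizer (pCore p G : Set G)) : K ≤ pCore p G := by
  refine PLocal.le_pCore (IsPGroup.iff_orderOf.mpr fun ⟨x, hx⟩ => ?_)
  obtain ⟨k, m, hm, e⟩ := Nat.exists_eq_pow_mul_and_not_dvd (orderOf_pos x).ne' p
    (Fact.out : p.Prime).ne_one
  have hxk : orderOf (x ^ p ^ k) = m := by
    rw [orderOf_pow, e, Nat.gcd_eq_right (dvd_mul_right _ _),
      Nat.mul_div_cancel_left _ (pow_pos (Fact.out : p.Prime).pos k)]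
  have hmem : x ^ p ^ k ∈ pCore p G := hcp (h _ (K.pow_mem hx _) (hxk ▸ hm))
  obtain ⟨j, hj⟩ := IsPGroup.iff_orderOf.mp (PLocal.isPGroup_pCore p G) ⟨_, hmem⟩
  rw [orderOf_mk, hxk] at hj
  refine ⟨k, ?_⟩
  rw [orderOf_mk, e]
  rcases j with _ | j
  · rw [hj, pow_zero, mul_one]
  · exact absurd (hj ▸ dvd_pow_self p j.succ_ne_zero) hm

/-- An element of order prime to `p` acting trivially on `Y` and on `X/Y` centralises `X`. -/
theorem commute_step (hS : IsPGroup p S) {X Y : Subgroup G} (hY : Y ≤ S) {x : G}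
    (hx : ¬ p ∣ orderOf x) (h0 : ∀ y ∈ Y, Commute x y) (h1 : ∀ v ∈ X, ⁅v, x⁆ ∈ Y) :
    ∀ v ∈ X, Commute x v := by
  intro v hv
  have hc : x * v * x⁻¹ * v⁻¹ ∈ Y := by
    have := Y.inv_mem (h1 v hv)
    rwa [commutatorElement_inv, commutatorElement_def] at this
  obtain ⟨k, hk⟩ := hS ⟨_, hY hc⟩
  exact commute_of_conj_mul hx (h0 _ hc) (congrArg Subtype.val hk) (by group)

/-- A section centralised by a normal supplement of `S` is hypercentral. -/
theorem exists_iterCommutator_le (hS : IsPGroup p S) {X Y N : Subgroup G} [hX : X.Normal]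
    [hY : Y.Normal] (hXS : X ≤ S) (hN : N ⊔ S = ⊤) [hNn : N.Normal] (hXN : ⁅X, N⁆ ≤ Y) :
    ∃ k : ℕ, iterCommutator X ⊤ k ≤ Y := by
  haveI : Group.IsNilpotent ↥S := hS.isNilpotent
  obtain ⟨m, hm⟩ := Subgroup.nilpotent_iff_lowerCentralSeries.mp (inferInstance : Group.IsNilpotent ↥S)
  refine ⟨m, ?_⟩
  set Z : ℕ → Subgroup G := fun i => ((⊤ : Subgroup ↥S).lowerCentralSeries i).map S.subtype
  have key : ∀ i, iterCommutator X ⊤ i ≤ X ∧ iterCommutator X ⊤ i ≤ Y ⊔ Z i := by
    intro i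
    induction i with
    | zero =>
      refine ⟨le_rfl, le_trans ?_ le_sup_right⟩
      show X ≤ ((⊤ : Subgroup ↥S).lowerCentralSeries 0).map S.subtype
      rw [Subgroup.lowerCentralSeries_zero, ← MonoidHom.range_eq_map, range_subtype]
      exact hXS
    | succ i ih =>
      show ⁅iterCommutator X ⊤ i, ⊤⁆ ≤ X ∧ ⁅iterCommutator X ⊤ i, ⊤⁆ ≤ Y ⊔ Z (i + 1)
      refine ⟨(commutator_mono ih.1 le_rfl).trans (commutator_le_left X ⊤), ?_⟩
      rw [commutator_le]
      intro t ht g _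
      have hg : g ∈ ((N ⊔ S : Subgroup G) : Set G) := hN.ge (mem_top g)
      rw [normal_mul N S] at hg
      obtain ⟨ν, hν, s, hs, rfl⟩ := hg
      have hts : ⁅t, s⁆ ∈ X :=
        commutator_le_left X ⊤ (commutator_mem_commutator (ih.1 ht) (mem_top s))
      have e : ⁅t, ν * s⁆ = ⁅t, ν⁆ * ⁅⁅t, s⁆, ν⁆⁻¹ * ⁅t, s⁆ := by
        simp only [commutatorElement_def]; group
      simp only [e]
      refine mul_mem (mem_sup_left (Y.mul_mem (hXN (commutator_mem_commutator (ih.1 ht) hν))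
        (Y.inv_mem (hXN (commutator_mem_commutator hts hν))))) ?_
      have ht' : t ∈ ((Y ⊔ Z i : Subgroup G) : Set G) := ih.2 ht
      rw [normal_mul Y (Z i)] at ht'
      obtain ⟨y, hy, z, hz, rfl⟩ := ht'
      have e2 : ⁅y * z, s⁆ = y * ⁅z, s⁆ * y⁻¹ * ⁅y, s⁆ := by
        simp only [commutatorElement_def]; group
      simp only [e2]
      have hzs : ⁅z, s⁆ ∈ Z (i + 1) := by
        obtain ⟨z', hz', rfl⟩ := hz
        exact ⟨⁅z', (⟨s, hs⟩ : ↥S)⁆, commutator_mem_commutator hz' (mem_top _),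
          map_commutatorElement S.subtype _ _⟩
      refine mul_mem (mul_mem (mul_mem (mem_sup_left hy) (mem_sup_right hzs))
        (inv_mem (mem_sup_left hy))) (mem_sup_left ?_)
      exact commutator_le_left Y ⊤ (commutator_mem_commutator hy (mem_top s))
  refine (key m).2.trans (sup_le le_rfl ?_)
  show ((⊤ : Subgroup ↥S).lowerCentralSeries m).map S.subtype ≤ Y
  rw [hm, Subgroup.map_bot]
  exact bot_le

/-- Hypercentral layers can be skipped by a noncentral chief factor. -/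
theorem inf_le_of_central (hS : IsPGroup p S) {U W X Y N : Subgroup G} [W.Normal] (hc : IsChiefFactor U W)
    (hUS : U ≤ S) (hnc : ¬ ⁅U, (⊤ : Subgroup G)⁆ ≤ W) [X.Normal] [N.Normal] (hN : N ⊔ S = ⊤)
    (hXN : ⁅X, N⁆ ≤ Y) (hY : U ⊓ Y ≤ W) : U ⊓ X ≤ W := by
  obtain ⟨hWU, hUn, -, hmin⟩ := hc
  haveI := hUn
  haveI : (U ⊓ X).Normal := Subgroup.normal_inf_normal U X
  by_contra hne
  have hU : (U ⊓ X) ⊔ W = U :=
    (hmin _ inferInstance le_sup_right (sup_le inf_le_left hWU.le)).resolve_left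
      fun h => hne (le_sup_left.trans h.le)
  have hUN : ⁅U, N⁆ ≤ W := by
    rw [commutator_le]
    intro u hu n hn
    have hu' : u ∈ (((U ⊓ X) ⊔ W : Subgroup G) : Set G) := hU.ge hu
    rw [mul_normal (U ⊓ X) W] at hu'
    obtain ⟨x, hx, w, hw, rfl⟩ := hu'
    have e : ⁅x * w, n⁆ = x * ⁅w, n⁆ * x⁻¹ * ⁅x, n⁆ := by
      simp only [commutatorElement_def]; group
    simp only [e]
    refine W.mul_mem (Normal.conj_mem inferInstance _
      (commutator_le_left W ⊤ (commutator_mem_commutator hw (mem_top n))) x) (hY ⟨?_, ?_⟩)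
    · exact commutator_le_left U ⊤ (commutator_mem_commutator hx.1 (mem_top n))
    · exact hXN (commutator_mem_commutator hx.2 hn)
  apply hnc
  haveI : (⁅U, (⊤ : Subgroup G)⁆ ⊔ W).Normal := inferInstance
  rcases hmin (⁅U, (⊤ : Subgroup G)⁆ ⊔ W) inferInstance le_sup_right
    (sup_le (commutator_le_left U ⊤) hWU.le) with h | h
  · exact le_sup_left.trans h.le
  · exfalso
    obtain ⟨k, hk⟩ := exists_iterCommutator_le hS hUS hN hUN
    have hall : ∀ i, U ≤ iterCommutator U ⊤ i ⊔ W := by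
      intro i
      induction i with
      | zero => exact le_sup_left
      | succ i ih =>
        refine h.ge.trans (sup_le ?_ le_sup_right)
        refine (commutator_mono ih le_rfl).trans ?_
        rw [commutator_le]
        intro t ht g _
        have ht' : t ∈ ((iterCommutator U ⊤ i ⊔ W : Subgroup G) : Set G) := ht
        rw [mul_normal (iterCommutator U ⊤ i) W] at ht'
        obtain ⟨x, hx, w, hw, rfl⟩ := ht'
        have e : ⁅x * w, g⁆ = x * ⁅w, g⁆ * x⁻¹ * ⁅x, g⁆ := by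
          simp only [commutatorElement_def]; group
        simp only [e]
        exact mul_mem (mem_sup_right (Normal.conj_mem inferInstance _
          (commutator_le_left W ⊤ (commutator_mem_commutator hw (mem_top g))) x))
          (mem_sup_left (commutator_mem_commutator hx (mem_top g)))
    exact hWU.not_ge ((hall k).trans (sup_le hk le_rfl))

/-- A noncentral chief factor meeting a natural section is natural. -/
theorem isNatural_of_step {ρ : G →* SL(2, F)} (hρ : Function.Surjective ρ)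
    {U W X Y : Subgroup G} [W.Normal] (hWρ : W ≤ ρ.ker) (hc : IsChiefFactor U W) [X.Normal]
    [Y.Normal] (hYX : Y ≤ X) (hrep : IsRepOn ρ X Y) (hY : U ⊓ Y ≤ W) (hX : ¬ U ⊓ X ≤ W) :
    IsNaturalSL2Module F (U.map (QuotientGroup.mk' W)) (⊤ : Subgroup (G ⧸ W)) := by
  obtain ⟨hWU, hUn, -, hmin⟩ := hc
  haveI := hUn
  set I := U ⊓ X with hI
  haveI : I.Normal := Subgroup.normal_inf_normal U X
  set π := QuotientGroup.mk' W
  have hIW : I ⊔ W = U :=
    (hmin _ inferInstance le_sup_right (sup_le inf_le_left hWU.le)).resolve_left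
      fun h => hX (le_sup_left.trans h.le)
  have hIY : I ⊔ Y = X := by
    refine (hrep.irreducible hρ inferInstance le_sup_right
      (sup_le inf_le_right hYX)).resolve_left fun h => hX ?_
    exact (le_inf inf_le_left (le_sup_left.trans h.le)).trans hY
  have hWX : W ⊓ X ≤ Y := by
    haveI : (W ⊓ X).Normal := Subgroup.normal_inf_normal W X
    rcases hrep.irreducible hρ (N := (W ⊓ X) ⊔ Y) inferInstance le_sup_right
      (sup_le inf_le_right hYX) with h | h
    · exact le_sup_left.trans h.le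
    exfalso
    refine hX fun u hu => ?_
    have hu' : u ∈ ((W ⊓ X ⊔ Y : Subgroup G) : Set G) := h.ge hu.2
    rw [mul_normal (W ⊓ X) Y] at hu'
    obtain ⟨w, hw, y, hy, rfl⟩ := hu'
    refine W.mul_mem hw.1 (hY ⟨?_, hy⟩)
    simpa using U.mul_mem (U.inv_mem (hWU.le hw.1)) hu.1
  obtain ⟨ψ, hψ, hψker, hequiv⟩ := hrep
  let ψI : ↥I →* Multiplicative (Fin 2 → F) := ψ.comp (inclusion inf_le_right)
  let πI : ↥I →* ↥(U.map π) := (π.comp I.subtype).codRestrict _ fun x => mem_map_of_mem π x.2.1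
  have hψI : Function.Surjective ψI := by
    intro v
    obtain ⟨x, rfl⟩ := hψ v
    have hx : (x : G) ∈ ((I ⊔ Y : Subgroup G) : Set G) := hIY.ge x.2
    rw [mul_normal I Y] at hx
    obtain ⟨i, hi, y, hy, e⟩ := hx
    refine ⟨⟨i, hi⟩, ?_⟩
    show ψ ⟨i, hi.2⟩ = ψ x
    rw [show x = ⟨i, hi.2⟩ * ⟨y, hYX hy⟩ from Subtype.ext e.symm, map_mul,
      (hψker ⟨y, hYX hy⟩).mpr hy, mul_one]
  have hπI : Function.Surjective πI := by
    rintro ⟨_, u, hu, rfl⟩
    have hu' : u ∈ ((I ⊔ W : Subgroup G) : Set G) := hIW.ge hu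
    rw [mul_normal I W] at hu'
    obtain ⟨i, hi, w, hw, rfl⟩ := hu'
    exact ⟨⟨i, hi⟩, Subtype.ext (by
      show π i = π (i * w)
      rw [map_mul, show π w = 1 from (QuotientGroup.eq_one_iff w).mpr hw, mul_one])⟩
  have hkers : πI.ker = ψI.ker := by
    ext x
    rw [MonoidHom.mem_ker, MonoidHom.mem_ker, Subtype.ext_iff]
    show π x = 1 ↔ ψ ⟨x, x.2.2⟩ = 1
    rw [hψker]
    exact (QuotientGroup.eq_one_iff (x : G)).trans
      ⟨fun h => hWX ⟨h, x.2.2⟩, fun h => hY ⟨x.2.1, h⟩⟩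
  let e : ↥(U.map π) ≃* Multiplicative (Fin 2 → F) :=
    ((QuotientGroup.quotientKerEquivOfSurjective πI hπI).symm.trans
      (QuotientGroup.quotientMulEquivOfEq hkers)).trans
      (QuotientGroup.quotientKerEquivOfSurjective ψI hψI)
  have he : ∀ x, e (πI x) = ψI x := by
    intro x
    have h1 : (QuotientGroup.quotientKerEquivOfSurjective πI hπI).symm (πI x) =
        (x : ↥I ⧸ πI.ker) := by
      rw [MulEquiv.symm_apply_eq]; rfl
    show (QuotientGroup.quotientKerEquivOfSurjective ψI hψI)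
      (QuotientGroup.quotientMulEquivOfEq hkers
        ((QuotientGroup.quotientKerEquivOfSurjective πI hπI).symm (πI x))) = _
    rw [h1]
    rfl
  let ρ' : ↥(⊤ : Subgroup (G ⧸ W)) →* SL(2, F) :=
    (QuotientGroup.lift W ρ hWρ).comp (⊤ : Subgroup (G ⧸ W)).subtype
  let ψ' : Additive ↥(U.map π) ≃+ (Fin 2 → F) := MulEquiv.toAdditiveLeft e
  have hact : ∀ (g : G) (x : ↥I), ∃ x' : ↥I, (x' : G) = g * x * g⁻¹ ∧
      (ψI x').toAdd = (ρ g : Matrix (Fin 2) (Fin 2) F).mulVec (ψI x).toAdd :=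
    fun g x => ⟨⟨_, (inferInstance : I.Normal).conj_mem x x.2 g⟩, rfl,
      hequiv g ⟨x, x.2.2⟩ ⟨_, ((inferInstance : I.Normal).conj_mem x x.2 g).2⟩ rfl⟩
  refine ⟨?_, ρ', ψ', fun h => ?_, ?_, ?_⟩
  · haveI : (U.map π).Normal := Normal.map inferInstance π (QuotientGroup.mk'_surjective W)
    rw [normalizer_eq_top]
  · obtain ⟨g, rfl⟩ := hρ h
    exact ⟨⟨π g, mem_top _⟩, rfl⟩
  · ext ⟨l, hl⟩
    obtain ⟨g, rfl⟩ := QuotientGroup.mk'_surjective W l
    rw [MonoidHom.mem_ker, mem_subgroupOf]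
    show ρ g = 1 ↔ π g ∈ centralizer (U.map π : Set (G ⧸ W))
    constructor
    · intro hg
      refine mem_centralizer_iff.mpr fun u hu => ?_
      obtain ⟨x, hx⟩ := hπI ⟨u, hu⟩
      obtain ⟨x', hx', hv⟩ := hact g x
      rw [hg, Matrix.SpecialLinearGroup.coe_one, Matrix.one_mulVec] at hv
      have h1 : πI x' = πI x := e.injective (by
        rw [he, he]; exact Multiplicative.toAdd.injective hv)
      have h2 : π (x' : G) = π (x : G) := congrArg Subtype.val h1
      rw [hx', map_mul, map_mul, map_inv, mul_inv_eq_iff_eq_mul] at h2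
      rw [show u = π (x : G) from (congrArg Subtype.val hx).symm]
      exact h2.symm
    · intro hg
      apply Subtype.ext
      ext i j
      obtain ⟨x, hx⟩ := hψI (.ofAdd (Pi.single j 1))
      obtain ⟨x', hx', hv⟩ := hact g x
      have h1 : πI x' = πI x := Subtype.ext (by
        show π (x' : G) = π (x : G)
        rw [hx', map_mul, map_mul, map_inv,
          ← mem_centralizer_iff.mp hg (π x) (mem_map_of_mem π x.2.1), mul_inv_cancel_right])
      have h2 : ψI x' = ψI x := by rw [← he, ← he, h1]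
      rw [h2, hx, toAdd_ofAdd] at hv
      have h3 := congrFun hv i
      rw [Matrix.mulVec_single_one] at h3
      rw [Matrix.SpecialLinearGroup.coe_one, Matrix.one_apply]
      simpa [Pi.single_apply] using h3.symm
  · rintro ⟨l, hl⟩ v
    obtain ⟨g, rfl⟩ := QuotientGroup.mk'_surjective W l
    obtain ⟨x, rfl⟩ := hπI v
    obtain ⟨x', hx', hv⟩ := hact g x
    refine ⟨πI x', ?_, ?_⟩
    · show π (x' : G) = π g * π x * (π g)⁻¹
      rw [hx', map_mul, map_mul, map_inv]
    · show (e (πI x')).toAdd = (ρ g : Matrix (Fin 2) (Fin 2) F).mulVec (e (πI x)).toAdd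
      rw [he, he]; exact hv

namespace PUCore

variable {M : Subgroup G} {q : ℕ} {a : G} (B : PUCore p S M q a)
include B

/-- `Z(O_p(G))/C(G)` is a natural section. -/
theorem natSection : IsNatSection p S a q (zR p G) (zG p G) (zS S) where
  normX := inferInstance
  normY := inferInstance
  le_D := B.zG_le_zS
  D_le := B.zS_le
  sup := B.sup_eq
  inf := B.inf_eq
  card := B.card_zS
  comm := by
    rw [show ⁅zR p G, zR p G⁆ = (⊥ : Subgroup G) from
      commutator_eq_bot_iff_le_centralizer.mpr B.zR_comm]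
    exact bot_le
  pow x hx := by rw [B.elem.2 x hx]; exact one_mem _
  core := (PUCore.comm_of_le_core le_rfl).le.trans bot_le
  quad := B.quad
  triv := (commutator_eq_bot_iff_le_centralizer.mpr (inf_le_right : zS S ≤ _)).le.trans bot_le
  fix s hs hsR x hx h := by
    rw [← B.fix s hs hsR]
    exact ⟨hx, mem_centralizer_singleton_iff.mpr
      (commutatorElement_eq_one_iff_mul_comm.mp (B.commutator_eq_one hx hs h))⟩

end PUCore

end CfsgLib.LocalEven50
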