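import Cfsg.Agent.LocalEven50.ChiefTransfer

/-!
# Pushing up, first case: an image of `Z(O_p(G))` under `Aut S` lies outside `O_p(G)`
-/

set_option linter.style.haveILetI false
set_option linter.unusedSectionVars false

namespace CfsgLib.LocalEven50

open Subgroup Cfsg
open scoped MatrixGroups commutatorElement

variable {G : Type*} [Group G] [Finite G] {p : ℕ} [Fact p.Prime]

/-- The common outcome of the pushing up theorem for the first case. -/
structure PUCaseI (p : ℕ) (S : Subgroup G) {F : Type*} [Field F] (ρ : G →* SL(2, F)) : Prop where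
  surj : Function.Surjective ρ
  ker : ρ.ker = pCore p G
  rep : IsRepOn ρ (zR p G) (zG p G)
  central : ∃ N : Subgroup G, N.Normal ∧ N ⊔ S = ⊤ ∧ ⁅pCore p G, N⁆ ≤ zR p G
  class_two : S.lowerCentralSeries 2 = ⊥
  nonabelian : S.lowerCentralSeries 1 ≠ ⊥
  exponent_two : p = 2 → Monoid.exponent ↥S = 4
  exponent_odd : p ≠ 2 → Monoid.exponent ↥S = p

theorem mul_pow_of_central {x y c : G} (hc : y * x = c * (x * y)) (hcx : Commute c x)
    (hcy : Commute c y) : ∀ n : ℕ, (x * y) ^ n = c ^ n.choose 2 * (x ^ n * y ^ n) := by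
  have hyx : ∀ n : ℕ, y ^ n * x = c ^ n * (x * y ^ n) := by
    intro n
    induction n with
    | zero => simp
    | succ n ih =>
      calc y ^ (n + 1) * x = y ^ n * (y * x) := by rw [pow_succ, mul_assoc]
        _ = (y ^ n * c) * (x * y) := by rw [hc, mul_assoc]
        _ = c * (y ^ n * x) * y := by rw [← (hcy.pow_right n).eq]; simp only [mul_assoc]
        _ = c ^ (n + 1) * (x * y ^ (n + 1)) := by
          rw [ih, pow_succ', pow_succ]; simp only [mul_assoc]
  intro n
  induction n with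
  | zero => simp
  | succ n ih =>
    calc (x * y) ^ (n + 1) = c ^ n.choose 2 * (x ^ n * (y ^ n * x)) * y := by
          rw [pow_succ, ih]; simp only [mul_assoc]
      _ = c ^ n.choose 2 * ((x ^ n * c ^ n) * (x * y ^ n)) * y := by
          rw [hyx]; simp only [mul_assoc]
      _ = c ^ n.choose 2 * ((c ^ n * x ^ n) * (x * y ^ n)) * y := by
          rw [((hcx.pow_left n).pow_right n).eq]
      _ = _ := by
          rw [Nat.choose_succ_succ', Nat.choose_one_right, add_comm n (n.choose 2), pow_add,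
            pow_succ x, pow_succ y]
          simp only [mul_assoc]

variable {S : Sylow p G} {M : Subgroup G} {q : ℕ} {a : G} {F : Type*} [Field F] [Fintype F]

theorem PUBase.case_one (B : PUBase p (S : Subgroup G) M q a) {n : ℕ} (hn : Fintype.card F = p ^ n)
    {φ : G →* Matrix.ProjectiveSpecialLinearGroup (Fin 2) F}
    (hker : φ.ker ⊓ (S : Subgroup G) = pCore p G)
    (hU : (cj a (S : Subgroup G)).map φ = (pUpper F).range)
    (hL : (S : Subgroup G).map φ = (pLower F).range) (hq : Fintype.card F = q)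
    {χ : MulAut ↥(S : Subgroup G)} (hχ : ¬ tw χ (zR p G) ≤ pCore p G) :
    ∃ ρ : G →* SL(2, F), PUCaseI p (S : Subgroup G) ρ := by
  classical
  haveI := pCore_normal p G
  revert χ
  set S₀ := (S : Subgroup G)
  intro χ hχ
  set R := pCore p G with hR
  set V := zR p G with hV
  set C := zS S₀ with hC
  obtain ⟨ρ, ψ, -, hρ, hψ, hψker, hψeq, hρker, -, -⟩ := B.natSection.exists_rep B.toPUCore hn hker hU hL hq
  set W := tw χ V with hW
  have hWS : W ≤ S₀ := tw_le _ _
  have hVS : V ≤ S₀ := B.zR_le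
  have hWq : ⁅W, S₀⁆ ≤ C := by
    have := (tw_mono (φ := χ) B.quad).trans (charIn_zS S₀ χ)
    rwa [tw_commutator hVS le_rfl, tw_self] at this
  have hCS : ∀ c ∈ C, ∀ s ∈ S₀, Commute c s := fun c hc s hs =>
    (mem_centralizer_iff.mp hc.2 s hs).symm
  have hVW : ⁅V, W⁆ ≠ ⊥ := fun h => hχ (by
    rw [hR, ← B.core_eq]
    exact le_inf hWS (commutator_eq_bot_iff_le_centralizer.mp ((commutator_comm _ _).trans h)))
  have hW' : ¬ tw χ⁻¹ V ≤ R := fun h => by
    have := tw_comm_bot (φ := χ) (PUCore.comm_of_le_core h)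
    rw [tw_tw_inv hVS, ← hW, commutator_comm] at this
    exact hVW this
  obtain ⟨z, hz, hzR⟩ := SetLike.not_le_iff_exists.mp hW'
  have hWR : W ⊓ R ≤ C := by
    have h2 : ⁅W ⊓ R, V⁆ = ⊥ := by
      rw [commutator_comm]; exact PUCore.comm_of_le_core inf_le_right
    have h1 : tw χ⁻¹ (W ⊓ R) ≤ V ⊓ centralizer ({z} : Set G) :=
      le_inf ((tw_mono inf_le_left).trans (tw_inv_tw hVS).le)
        ((commutator_eq_bot_iff_le_centralizer.mp (tw_comm_bot h2)).trans
          (centralizer_le (Set.singleton_subset_iff.mpr hz)))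
    rw [B.fix z (tw_le _ _ hz) hzR] at h1
    calc W ⊓ R = tw χ (tw χ⁻¹ (W ⊓ R)) := (tw_tw_inv (inf_le_left.trans hWS)).symm
      _ ≤ tw χ C := tw_mono h1
      _ ≤ C := charIn_zS S₀ χ
  have hsup : W ⊔ R = S₀ := by
    have h1 := card_sup_mul_card_inf_of_coe W R (mul_normal W R)
    have h2 := card_le_of_le hWR
    have hqR := LocalEvenBasic.card_mul_relIndex_of_le R S₀ B.core_le
    rw [B.data.index_core] at hqR
    refine eq_of_le_of_card_ge (sup_le hWS B.core_le) ?_
    refine Nat.le_of_mul_le_mul_right ?_ (Nat.card_pos (α := ↥(W ⊓ R)))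
    calc Nat.card S₀ * Nat.card ↥(W ⊓ R) ≤ Nat.card R * q * Nat.card C := by
          rw [← hqR]; exact Nat.mul_le_mul_left _ h2
      _ = Nat.card W * Nat.card R := by rw [hW, card_tw hVS, B.card_zR]; ring
      _ = _ := h1.symm
  -- the centraliser of `R/V`
  set N := (centralizer (R.map (QuotientGroup.mk' V) : Set (G ⧸ V))).comap (QuotientGroup.mk' V)
    with hN
  haveI : (R.map (QuotientGroup.mk' V)).Normal :=
    Normal.map inferInstance _ (QuotientGroup.mk'_surjective V)
  haveI hNn : N.Normal := by rw [hN]; exact Normal.comap inferInstance _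
  have hRN : ⁅R, N⁆ ≤ V := by
    rw [commutator_le]
    intro r hr g hg
    rw [← QuotientGroup.eq_one_iff]
    show QuotientGroup.mk' V ⁅r, g⁆ = 1
    rw [map_commutatorElement, commutatorElement_eq_one_iff_mul_comm]
    exact mem_centralizer_iff.mp hg _ (mem_map_of_mem _ hr)
  have hWN : W ≤ N := by
    intro w hw
    refine mem_centralizer_iff.mpr ?_
    rintro _ ⟨r, hr, rfl⟩
    rw [← commutatorElement_eq_one_iff_mul_comm, ← map_commutatorElement]
    refine (QuotientGroup.eq_one_iff _).mpr (B.zS_le (hWq ?_))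
    rw [commutator_comm]
    exact commutator_mem_commutator (B.core_le hr) hw
  obtain ⟨w₀, hw₀, hw₀R⟩ := SetLike.not_le_iff_exists.mp hχ
  have hNS : N ⊔ S₀ = ⊤ := B.sup_eq_top (hWN hw₀) (hWS hw₀) hw₀R
  -- the kernel
  have hkerR : ρ.ker = R := by
    refine le_antisymm (le_core_of_centralizing B.data.cpSelf fun x hx hxp => ?_) fun r hr =>
      (hρker r).mpr fun v hv => B.natSection.core (commutator_mem_commutator hv hr)
    have hxN := mem_of_sup_eq_top B.data.isPGroup hNS hxp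
    have h0 : ∀ y ∈ zG p G, Commute x y := fun y hy => mem_centralizer_iff.mp hy.2 x (mem_top x)
    have h1 := commute_step B.data.isPGroup (B.zG_le_zS.trans inf_le_left) hxp h0
      ((hρker x).mp hx)
    have h2 := commute_step B.data.isPGroup hVS hxp h1
      fun r hr => hRN (commutator_mem_commutator hr hxN)
    exact mem_centralizer_iff.mpr fun r hr => (h2 r hr).eq.symm
  -- class two
  set R' := ⁅R, R⁆ with hR'
  haveI : R'.Normal := Subgroup.commutator_normal R R
  have hR'R : R' ≤ R := commutator_le_left R R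
  have hRW : ⁅R, W⁆ ≤ C := by
    rw [commutator_comm]; exact (commutator_mono le_rfl B.core_le).trans hWq
  have hR'W : ⁅R', W⁆ = ⊥ := by
    have hCR : ⁅C, R⁆ = ⊥ := commutator_eq_bot_iff_le_centralizer.mpr
      (inf_le_right.trans (centralizer_le B.core_le))
    rw [hR']
    apply commutator_commutator_eq_bot_of_rotate
    · exact le_bot_iff.mp ((commutator_mono hRW le_rfl).trans hCR.le)
    · exact le_bot_iff.mp ((commutator_mono ((commutator_comm W R).trans_le hRW) le_rfl).trans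
        hCR.le)
  have hZS : S₀ ≤ normalizer ((C ⊔ R' : Subgroup G) : Set G) := by
    intro s hs
    refine mem_normalizer_iff_map_conj_eq.mpr ?_
    rw [Subgroup.map_sup]
    refine congrArg₂ (· ⊔ ·) ?_ (cj_normal s R')
    ext y
    show y ∈ cj s C ↔ y ∈ C
    rw [mem_cj]
    constructor
    · intro hy
      have := (hCS _ hy s hs).eq
      rw [show y = s * (s⁻¹ * y * s) * s⁻¹ by group, ← this, mul_inv_cancel_right]
      exact hy
    · intro hy
      rwa [mul_assoc, (hCS y hy s hs).eq, inv_mul_cancel_left]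
  have hS' : ⁅S₀, S₀⁆ ≤ C ⊔ R' := by
    rw [commutator_le]
    intro s hs s' hs'
    have hs₁ : s ∈ ((W ⊔ R : Subgroup G) : Set G) := hsup.ge hs
    have hs₂ : s' ∈ ((W ⊔ R : Subgroup G) : Set G) := hsup.ge hs'
    rw [mul_normal W R] at hs₁ hs₂
    obtain ⟨w, hw, r, hr, rfl⟩ := hs₁
    obtain ⟨w', hw', r', hr', rfl⟩ := hs₂
    have key : ∀ x ∈ S₀, ∀ y ∈ C ⊔ R', x * y * x⁻¹ ∈ C ⊔ R' :=
      fun x hx y hy => (mem_normalizer_iff.mp (hZS hx) y).mp hy
    have e : ⁅w * r, w' * r'⁆ = w * (⁅r, w'⁆ * (w' * ⁅r, r'⁆ * w'⁻¹)) * w⁻¹ *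
        (⁅w, w'⁆ * (w' * ⁅w, r'⁆ * w'⁻¹)) := by
      simp only [commutatorElement_def]; group
    simp only [e]
    refine mul_mem (key w (hWS hw) _ (mul_mem (mem_sup_left (hRW (commutator_mem_commutator hr hw')))
      (key w' (hWS hw') _ (mem_sup_right (commutator_mem_commutator hr hr'))))) ?_
    refine mul_mem (mem_sup_left (hWq (commutator_mem_commutator hw (hWS hw')))) (key w' (hWS hw') _ ?_)
    exact mem_sup_left (hWq (commutator_mem_commutator hw (B.core_le hr')))
  set γ := ⁅⁅S₀, S₀⁆, S₀⁆ with hγ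
  have hγeq : γ = ⁅R', R⁆ := by
    refine le_antisymm ?_ (commutator_mono (commutator_mono B.core_le B.core_le) B.core_le)
    refine (commutator_mono hS' le_rfl).trans ?_
    rw [commutator_le]
    intro x hx s hs
    have hx' : x ∈ ((C ⊔ R' : Subgroup G) : Set G) := hx
    rw [mul_normal C R'] at hx'
    obtain ⟨c, hc, r, hr, rfl⟩ := hx'
    have e : ⁅c * r, s⁆ = c * ⁅r, s⁆ * c⁻¹ * ⁅c, s⁆ := by simp only [commutatorElement_def]; group
    simp only [e, commutatorElement_eq_one_iff_mul_comm.mpr (hCS c hc s hs).eq, mul_one]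
    refine Normal.conj_mem inferInstance _ ?_ c
    have hs' : s ∈ ((W ⊔ R : Subgroup G) : Set G) := hsup.ge hs
    rw [mul_normal W R] at hs'
    obtain ⟨w, hw, r', hr', rfl⟩ := hs'
    have e2 : ⁅r, w * r'⁆ = ⁅r, w⁆ * (w * ⁅r, r'⁆ * w⁻¹) := by
      simp only [commutatorElement_def]; group
    simp only [e2, mem_bot.mp (hR'W.le (commutator_mem_commutator hr hw)), one_mul]
    exact Normal.conj_mem inferInstance _ (commutator_mem_commutator hr hr') w
  have hclass : γ = ⊥ := by
    refine B.hd γ ?_ ((charIn_self.commutator charIn_self le_rfl le_rfl).commutator charIn_self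
      ?_ le_rfl) (by rw [hγeq]; infer_instance)
    · rw [hγeq]; exact (commutator_le_right R' R).trans B.core_le
    · exact hS'.trans (sup_le inf_le_left (hR'R.trans B.core_le))
  -- exponent
  have hpw : ∀ m : ℕ, p ∣ m → p ∣ m.choose 2 → ∀ g : ↥S₀, g ^ m = 1 := by
    intro m hm hm2
    set T := (closure {x : ↥S₀ | ∃ y, x = y ^ m}).map S₀.subtype with hT
    have hval : ∀ s : ↥S₀, ∃ r ∈ R, ((s ^ m : ↥S₀) : G) = r ^ m := by
      rintro ⟨s, hs⟩
      have hs₁ : s ∈ ((W ⊔ R : Subgroup G) : Set G) := hsup.ge hs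
      rw [mul_normal W R] at hs₁
      obtain ⟨w, hw, r, hr, rfl⟩ := hs₁
      have hc : ⁅r, w⁆ ∈ C := hRW (commutator_mem_commutator hr hw)
      have hcp : ∀ j, p ∣ j → ⁅r, w⁆ ^ j = 1 := fun j ⟨i, hi⟩ => by
        rw [hi, pow_mul, B.elem.2 _ (B.zS_le hc), one_pow]
      have hwp : w ^ p = 1 := by
        obtain ⟨v, hv, rfl⟩ := hw
        rw [← map_pow, show v ^ p = 1 from Subtype.ext (by
          rw [SubmonoidClass.coe_pow]; exact B.elem.2 _ hv), map_one]
      refine ⟨r, hr, ?_⟩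
      show (w * r) ^ m = r ^ m
      rw [mul_pow_of_central (c := ⁅r, w⁆) (by simp only [commutatorElement_def]; group)
        (hCS _ hc w (hWS hw)) (hCS _ hc r (B.core_le hr)) m, hcp _ hm2, one_mul]
      obtain ⟨i, rfl⟩ := hm
      rw [pow_mul w, hwp, one_pow, one_mul]
    have hTn : T.Normal := by
      refine ⟨fun y hy g => ?_⟩
      have hle : cj g T ≤ T := by
        rw [cj, hT, map_map, map_le_iff_le_comap, closure_le]
        rintro _ ⟨s, rfl⟩
        obtain ⟨r, hr, e⟩ := hval s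
        have hgr : g * r * g⁻¹ ∈ R := Normal.conj_mem inferInstance r hr g
        refine ⟨⟨g * r * g⁻¹, B.core_le hgr⟩ ^ m, subset_closure ⟨_, rfl⟩, ?_⟩
        show ((⟨g * r * g⁻¹, B.core_le hgr⟩ : ↥S₀) ^ m : ↥S₀).1 =
          g * ((s ^ m : ↥S₀) : G) * g⁻¹
        rw [e, SubmonoidClass.coe_pow, conj_pow]
      exact hle (mem_cj.mpr (by simpa [mul_assoc] using hy))
    have h1 := B.hd T (map_subtype_le _) (charIn_closure (P := fun x => ∃ y, x = y ^ m)
      fun φ x ⟨y, hy⟩ => ⟨φ y, by rw [hy, map_pow]⟩) hTn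
    exact fun g => Subtype.ext (mem_bot.mp (h1.le ⟨g ^ m, subset_closure ⟨g, rfl⟩, rfl⟩))
  have hne : ⁅S₀, S₀⁆ ≠ ⊥ := fun h => hVW (le_bot_iff.mp ((commutator_mono hVS hWS).trans h.le))
  have hp := (Fact.out : p.Prime)
  refine ⟨ρ, hρ, hkerR, ⟨ψ, hψ, hψker, hψeq⟩, ⟨N, hNn, hNS, hRN⟩, hclass, hne,
    fun h2 => ?_, fun h2 => ?_⟩
  · subst h2
    have h4 : Monoid.exponent ↥S₀ ∣ 2 ^ 2 :=
      Monoid.exponent_dvd_iff_forall_pow_eq_one.mpr (hpw 4 (by norm_num) (by decide))
    obtain ⟨i, hi, e⟩ := (Nat.dvd_prime_pow hp).mp h4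
    interval_cases i
    all_goals try exact e
    all_goals
      exfalso
      refine hne (commutator_eq_bot_iff_le_centralizer.mpr fun x hx =>
        mem_centralizer_iff.mpr fun y hy => ?_)
      have h : ∀ g : ↥S₀, g * g = 1 := fun g => by
        rw [← sq, ← orderOf_dvd_iff_pow_eq_one]
        exact (Monoid.order_dvd_exponent g).trans (e ▸ by norm_num)
      have hxy : (⟨x, hx⟩ : ↥S₀) * ⟨y, hy⟩ = ⟨y, hy⟩ * ⟨x, hx⟩ := by
        calc (⟨x, hx⟩ : ↥S₀) * ⟨y, hy⟩
            = (⟨y, hy⟩ * ⟨y, hy⟩) * (⟨x, hx⟩ * ⟨y, hy⟩) * (⟨x, hx⟩ * ⟨x, hx⟩) := by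
              rw [h, h, one_mul, mul_one]
          _ = ⟨y, hy⟩ * ((⟨y, hy⟩ * ⟨x, hx⟩) * (⟨y, hy⟩ * ⟨x, hx⟩)) * ⟨x, hx⟩ := by
              simp only [mul_assoc]
          _ = _ := by rw [h, mul_one]
      exact congrArg Subtype.val hxy.symm
  · have hd : Monoid.exponent ↥S₀ ∣ p :=
      Monoid.exponent_dvd_iff_forall_pow_eq_one.mpr (hpw p dvd_rfl
        (hp.dvd_choose_self two_ne_zero (lt_of_le_of_ne hp.two_le (Ne.symm h2))))
    rcases (Nat.dvd_prime hp).mp hd with h | h
    · exfalso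
      refine hne (commutator_eq_bot_iff_le_centralizer.mpr fun x hx =>
        mem_centralizer_iff.mpr fun y _ => ?_)
      have h1 := Monoid.pow_exponent_eq_one (⟨x, hx⟩ : ↥S₀)
      rw [h, pow_one] at h1
      rw [show x = 1 from congrArg Subtype.val h1, mul_one, one_mul]
    · exact h

end CfsgLib.LocalEven50
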