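import Cfsg.Agent.LocalEven50.CentralizerLarge

/-!
# Minimal centrally large subgroups

Their common properties and a replacement theorem: some minimal centrally large subgroup is
normalised by all of them and by all abelian subgroups of largest order.
-/

namespace CfsgLib.LocalEven50

open Subgroup Cfsg
open scoped Pointwise commutatorElement

variable {G : Type*} [Group G]

theorem coe_sup_eq_mul_of_le_centralizer {H K : Subgroup G}
    (h : H ≤ centralizer (K : Set G)) :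
    ((H ⊔ K : Subgroup G) : Set G) = (H : Set G) * (K : Set G) :=
  coe_mul_of_left_le_normalizer_right H K (h.trans (centralizer_le_normalizer _))

theorem map_centralizer_mulEquiv {H : Type*} [Group H] (e : G ≃* H) (K : Subgroup G) :
    (centralizer (K : Set G)).map e.toMonoidHom = centralizer (K.map e.toMonoidHom : Set H) := by
  ext x
  constructor
  · rintro ⟨z, hz, rfl⟩
    refine mem_centralizer_iff.mpr ?_
    rintro _ ⟨k, hk, rfl⟩
    rw [← map_mul, ← map_mul, mem_centralizer_iff.mp hz k hk]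
  · intro hx
    refine ⟨e.symm x, mem_centralizer_iff.mpr fun k hk => e.injective ?_, by simp⟩
    simpa using mem_centralizer_iff.mp hx (e k) ⟨k, hk, rfl⟩

/-- The derived subgroup of a product of two abelian groups is abelian (Itô). -/
theorem commute_commutator_of_product {A B : Subgroup G} (hA : A ≤ centralizer (A : Set G))
    (hB : B ≤ centralizer (B : Set G))
    (h : ((A ⊔ B : Subgroup G) : Set G) = (A : Set G) * (B : Set G))
    {a a₁ b b₁ : G} (ha : a ∈ A) (ha₁ : a₁ ∈ A) (hb : b ∈ B) (hb₁ : b₁ ∈ B) :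
    Commute ⁅a, b⁆ ⁅a₁, b₁⁆ := by
  have cA : ∀ u ∈ A, ∀ v ∈ A, u * v = v * u :=
    fun u hu v hv => (mem_centralizer_iff.mp (hA hv) u hu)
  have cB : ∀ u ∈ B, ∀ v ∈ B, u * v = v * u :=
    fun u hu v hv => (mem_centralizer_iff.mp (hB hv) u hu)
  suffices key : ∀ a₁ ∈ A, ∀ b₁ ∈ B, Commute ⁅a, b⁆ ⁅a₁⁻¹, b₁⁻¹⁆ by
    simpa using key a₁⁻¹ (inv_mem ha₁) b₁⁻¹ (inv_mem hb₁)
  clear ha₁ hb₁ a₁ b₁
  intro a₁ ha₁ b₁ hb₁
  obtain ⟨a₂, ha₂, b₂, hb₂, e₂⟩ :=
    h.le (mul_mem (mul_mem (mem_sup_right hb₁) (mem_sup_left ha)) (mem_sup_right (inv_mem hb₁)) :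
      b₁ * a * b₁⁻¹ ∈ A ⊔ B)
  obtain ⟨b₃, hb₃, a₃, ha₃, e₃⟩ :=
    (coe_sup_swap h).le
      (mul_mem (mul_mem (mem_sup_right ha₁) (mem_sup_left hb)) (mem_sup_right (inv_mem ha₁)) :
      a₁ * b * a₁⁻¹ ∈ B ⊔ A)
  simp only at e₂ e₃
  -- conjugation by `a₁`
  have hA1 : ∀ u ∈ A, a₁ * ⁅u, b⁆ * a₁⁻¹ = ⁅u, b₃⁆ := by
    intro u hu
    calc a₁ * ⁅u, b⁆ * a₁⁻¹
        = (a₁ * u * a₁⁻¹) * (a₁ * b * a₁⁻¹) * (a₁ * u * a₁⁻¹)⁻¹ * (a₁ * b * a₁⁻¹)⁻¹ := by
          rw [commutatorElement_def]; group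
      _ = u * (b₃ * a₃) * u⁻¹ * (b₃ * a₃)⁻¹ := by
          rw [cA a₁ ha₁ u hu, mul_inv_cancel_right, ← e₃]
      _ = u * b₃ * (a₃ * u⁻¹) * a₃⁻¹ * b₃⁻¹ := by group
      _ = ⁅u, b₃⁆ := by
          rw [cA a₃ ha₃ u⁻¹ (inv_mem hu), commutatorElement_def]; group
  -- conjugation by `b₁`
  have hB1 : ∀ v ∈ B, b₁ * ⁅a, v⁆ * b₁⁻¹ = ⁅a₂, v⁆ := by
    intro v hv
    calc b₁ * ⁅a, v⁆ * b₁⁻¹
        = (b₁ * a * b₁⁻¹) * (b₁ * v * b₁⁻¹) * (b₁ * a * b₁⁻¹)⁻¹ * (b₁ * v * b₁⁻¹)⁻¹ := by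
          rw [commutatorElement_def]; group
      _ = (a₂ * b₂) * v * (a₂ * b₂)⁻¹ * v⁻¹ := by
          rw [cB b₁ hb₁ v hv, mul_inv_cancel_right, ← e₂]
      _ = a₂ * (b₂ * v) * b₂⁻¹ * a₂⁻¹ * v⁻¹ := by group
      _ = ⁅a₂, v⁆ := by
          rw [cB b₂ hb₂ v hv, commutatorElement_def]; group
  have h1 : (b₁ * a₁) * ⁅a, b⁆ * (b₁ * a₁)⁻¹ = ⁅a₂, b₃⁆ := by
    rw [← hB1 b₃ hb₃, ← hA1 a ha]; group
  have h2 : (a₁ * b₁) * ⁅a, b⁆ * (a₁ * b₁)⁻¹ = ⁅a₂, b₃⁆ := by
    rw [← hA1 a₂ ha₂, ← hB1 b hb]; group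
  rw [commutatorElement_def a₁⁻¹ b₁⁻¹]
  refine (mul_inv_eq_iff_eq_mul.mp ?_).symm
  calc a₁⁻¹ * b₁⁻¹ * a₁⁻¹⁻¹ * b₁⁻¹⁻¹ * ⁅a, b⁆ * (a₁⁻¹ * b₁⁻¹ * a₁⁻¹⁻¹ * b₁⁻¹⁻¹)⁻¹
      = (b₁ * a₁)⁻¹ * ((a₁ * b₁) * ⁅a, b⁆ * (a₁ * b₁)⁻¹) * (b₁ * a₁) := by group
    _ = ⁅a, b⁆ := by rw [h2, ← h1]; group

section Finite

variable [Finite G]

theorem inf_centralizer_le_centralizer {Q R : Subgroup G} (hQ : IsMinimalCentrallyLarge Q)
    (hR : IsCentrallyLarge R) : (Q ⊓ R) ⊔ centralizer (Q : Set G) = Q ∧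
      Q ⊓ centralizer (R : Set G) ≤ centralizer (Q : Set G) := by
  obtain ⟨hQ1, hQ2⟩ := isCentrallyLarge_iff.mp hQ.1
  obtain ⟨hR1, hR2⟩ := isCentrallyLarge_iff.mp hR
  obtain ⟨-, -, hD, hCC, hCD⟩ := large_sup_inf hQ1 hR1
  have hle : (Q ⊓ R) ⊔ centralizer (Q : Set G) ≤ Q := sup_le inf_le_left hQ2
  have hL := (large_sup_inf hD (large_centralizer hQ1).1).2.1
  have hC : centralizer (((Q ⊓ R) ⊔ centralizer (Q : Set G) : Subgroup G) : Set G) ≤
      (Q ⊓ R) ⊔ centralizer (Q : Set G) := by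
    intro x hx
    rw [centralizer_sup_eq, (large_centralizer hQ1).2, hCD] at hx
    obtain ⟨a, ha, b, hb, rfl⟩ := hCC.le hx.1
    have hbQ : b ∈ Q := (mul_mem_cancel_left (x := a) (y := b) (hQ2 ha)).mp hx.2
    exact mul_mem (mem_sup_right ha) (mem_sup_left ⟨hbQ, hR2 hb⟩)
  have heq := hQ.2 _ hle (isCentrallyLarge_iff.mpr ⟨hL, hC⟩)
  refine ⟨heq, ?_⟩
  calc Q ⊓ centralizer (R : Set G)
      ≤ centralizer ((Q ⊓ R : Subgroup G) : Set G) ⊓
          centralizer ((centralizer (Q : Set G) : Subgroup G) : Set G) :=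
        le_inf (inf_le_right.trans (centralizer_le (inf_le_right (a := Q) (b := R))))
          (inf_le_left.trans (le_centralizer_centralizer Q))
    _ = centralizer (Q : Set G) := by rw [← centralizer_sup_eq, heq]

/-- The invariants of minimal centrally large subgroups. -/
theorem minimalCentrallyLarge_uniform {Q R : Subgroup G} (hQ : IsMinimalCentrallyLarge Q)
    (hR : IsMinimalCentrallyLarge R) :
    centralizer (Q : Set G) ⊓ R = centralizer (Q : Set G) ⊓ centralizer (R : Set G) ∧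
    Q ⊓ R ⊓ centralizer (Q : Set G) = centralizer (Q : Set G) ⊓ centralizer (R : Set G) ∧
    Nat.card (centralizer (Q : Set G)) = Nat.card (centralizer (R : Set G)) ∧
    Nat.card Q = Nat.card R := by
  obtain ⟨hQ1, hQ2⟩ := isCentrallyLarge_iff.mp hQ.1
  obtain ⟨hR1, hR2⟩ := isCentrallyLarge_iff.mp hR.1
  obtain ⟨hQd, hQc⟩ := inf_centralizer_le_centralizer hQ hR.1
  obtain ⟨hRd, hRc⟩ := inf_centralizer_le_centralizer hR hQ.1
  rw [inf_comm R Q] at hRd
  have e0 : centralizer (Q : Set G) ⊓ R = centralizer (Q : Set G) ⊓ centralizer (R : Set G) :=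
    le_antisymm (le_inf inf_le_left (inf_comm (centralizer (Q : Set G)) R ▸ hRc))
      (inf_le_inf_left _ hR2)
  have e1 : Q ⊓ R ⊓ centralizer (Q : Set G) =
      centralizer (Q : Set G) ⊓ centralizer (R : Set G) := by
    rw [← e0]
    exact le_antisymm (le_inf inf_le_right (inf_le_left.trans inf_le_right))
      (le_inf (le_inf (inf_le_left.trans hQ2) inf_le_right) inf_le_left)
  have e2 : Q ⊓ R ⊓ centralizer (R : Set G) =
      centralizer (Q : Set G) ⊓ centralizer (R : Set G) :=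
    le_antisymm (le_inf (fun x hx => hQc ⟨hx.1.1, hx.2⟩) inf_le_right)
      (le_inf (le_inf (inf_le_left.trans hQ2) (inf_le_right.trans hR2)) inf_le_right)
  have p1 := (large_sup_inf (large_sup_inf hQ1 hR1).2.2.1 (large_centralizer hQ1).1).1
  have p2 := (large_sup_inf (large_sup_inf hQ1 hR1).2.2.1 (large_centralizer hR1).1).1
  have c1 : Nat.card Q * Nat.card ↥(centralizer (Q : Set G) ⊓ centralizer (R : Set G)) =
      Nat.card ↥(Q ⊓ R) * Nat.card (centralizer (Q : Set G)) := by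
    have := card_sup_mul_card_inf_of_coe (Q ⊓ R) (centralizer (Q : Set G)) p1
    rwa [hQd, e1] at this
  have c2 : Nat.card R * Nat.card ↥(centralizer (Q : Set G) ⊓ centralizer (R : Set G)) =
      Nat.card ↥(Q ⊓ R) * Nat.card (centralizer (R : Set G)) := by
    have := card_sup_mul_card_inf_of_coe (Q ⊓ R) (centralizer (R : Set G)) p2
    rwa [hRd, e2] at this
  have hM : Nat.card Q * Nat.card (centralizer (Q : Set G)) =
      Nat.card R * Nat.card (centralizer (R : Set G)) := hQ1.trans hR1.symm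
  have hd : 0 < Nat.card ↥(Q ⊓ R) := Nat.card_pos
  set d := Nat.card ↥(Q ⊓ R)
  set e := Nat.card ↥(centralizer (Q : Set G) ⊓ centralizer (R : Set G))
  set a := Nat.card (centralizer (Q : Set G))
  set b := Nat.card (centralizer (R : Set G))
  have hab : d * (a * a) = d * (b * b) := by
    rw [← mul_assoc, ← c1, ← mul_assoc, ← c2, mul_right_comm, hM, mul_right_comm]
  have h1 : a = b := Nat.mul_self_inj.mp (Nat.eq_of_mul_eq_mul_left hd hab)
  exact ⟨e0, e1, h1, Nat.eq_of_mul_eq_mul_right Nat.card_pos (h1 ▸ hM :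
    Nat.card Q * b = Nat.card R * b)⟩

theorem minimalCentrallyLarge_of_card_le {Q M : Subgroup G} (hQ : IsMinimalCentrallyLarge Q)
    (hM : IsCentrallyLarge M) (h : Nat.card M ≤ Nat.card Q) : IsMinimalCentrallyLarge M := by
  obtain ⟨R, hRM, hR⟩ := exists_minimalCentrallyLarge_le hM
  have : R = M := eq_of_le_of_card_ge hRM
    (h.trans (minimalCentrallyLarge_uniform hQ hR).2.2.2.le)
  exact this ▸ hR

theorem commutator_eq_of_minimalCentrallyLarge {Q R : Subgroup G}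
    (hQ : IsMinimalCentrallyLarge Q) (hR : IsMinimalCentrallyLarge R) : ⁅Q, Q⁆ = ⁅R, R⁆ := by
  have key : ∀ {Q R : Subgroup G}, IsMinimalCentrallyLarge Q → IsMinimalCentrallyLarge R →
      ⁅Q, Q⁆ = ⁅Q ⊓ R, Q ⊓ R⁆ := by
    intro Q R hQ hR
    obtain ⟨hQ1, hQ2⟩ := isCentrallyLarge_iff.mp hQ.1
    obtain ⟨hR1, -⟩ := isCentrallyLarge_iff.mp hR.1
    have hd := (inf_centralizer_le_centralizer hQ hR.1).1
    have hp := (large_sup_inf (large_sup_inf hQ1 hR1).2.2.1 (large_centralizer hQ1).1).1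
    refine le_antisymm (commutator_le.mpr fun x hx y hy => ?_)
      (commutator_mono inf_le_left inf_le_left)
    obtain ⟨d, hd', z, hz, rfl⟩ := hp.le (hd.ge hx)
    obtain ⟨d', hd'', z', hz', rfl⟩ := hp.le (hd.ge hy)
    have c1 : d' * z = z * d' := mem_centralizer_iff.mp hz d' hd''.1
    have c2 : d * z' = z' * d := mem_centralizer_iff.mp hz' d hd'.1
    have c3 : z * z' = z' * z := mem_centralizer_iff.mp hz' z (hQ2 hz)
    have e : ⁅d * z, d' * z'⁆ = ⁅d, d'⁆ := by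
      have e1 : (d * z) * (d' * z') = (d * d') * (z * z') := by
        rw [mul_assoc, ← mul_assoc z, ← c1, mul_assoc, ← mul_assoc d]
      have e2 : (d' * z') * (d * z) = (d' * d) * (z * z') := by
        rw [mul_assoc, ← mul_assoc z', ← c2, mul_assoc, ← mul_assoc d', c3]
      rw [show ⁅d * z, d' * z'⁆ = ((d * z) * (d' * z')) * ((d' * z') * (d * z))⁻¹ by
        rw [commutatorElement_def]; group, e1, e2, commutatorElement_def]
      group
    rw [e]
    exact commutator_mem_commutator hd' hd''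
  rw [key hQ hR, key hR hQ, inf_comm R Q]

theorem relIndex_le_relIndex_of_map {Z A B : Subgroup G} (f : G → G)
    (hmap : ∀ a ∈ A, f a ∈ B)
    (hinj : ∀ a ∈ A, ∀ b ∈ A, (f a)⁻¹ * f b ∈ Z → a⁻¹ * b ∈ Z) :
    Z.relIndex A ≤ Z.relIndex B := by
  refine Nat.card_le_card_of_injective
    (fun q : ↥A ⧸ Z.subgroupOf A =>
      (QuotientGroup.mk (⟨f q.out, hmap _ q.out.2⟩ : B) : ↥B ⧸ Z.subgroupOf B)) ?_
  intro q q' h
  simp only [QuotientGroup.eq, mem_subgroupOf] at h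
  rw [← QuotientGroup.out_eq' q, ← QuotientGroup.out_eq' q', QuotientGroup.eq, mem_subgroupOf]
  exact hinj _ q.out.2 _ q'.out.2 h

/-- The replacement step. -/
theorem exists_replacement {Q : Subgroup G} (hQ : IsMinimalCentrallyLarge Q) {Y : Subgroup G}
    (hY : Y ≤ centralizer (Y : Set G))
    (hprod : ((Y ⊔ centralizer (Q : Set G) : Subgroup G) : Set G) =
      (Y : Set G) * (centralizer (Q : Set G) : Set G))
    {x : G} (hx : x ∈ Y) (hxQ : x ∉ normalizer (Q : Set G)) {n : ℕ}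
    (htop : Subgroup.upperCentralSeries G n = ⊤) :
    ∃ M : Subgroup G, IsMinimalCentrallyLarge M ∧
      ∑ j ∈ Finset.range (n + 1),
          Nat.card ↥(centralizer (Q : Set G) ⊓ Subgroup.upperCentralSeries G j) <
        ∑ j ∈ Finset.range (n + 1),
          Nat.card ↥(centralizer (M : Set G) ⊓ Subgroup.upperCentralSeries G j) := by
  obtain ⟨hQ1, hQ2⟩ := isCentrallyLarge_iff.mp hQ.1
  set R := Q.map (MulAut.conj x).toMonoidHom with hRdef
  have hCR : centralizer (R : Set G) =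
      (centralizer (Q : Set G)).map (MulAut.conj x).toMonoidHom :=
    (map_centralizer_mulEquiv (MulAut.conj x) Q).symm
  have hRc : Nat.card R = Nat.card Q := card_map_of_injective (MulAut.conj x).injective
  have hR : IsMinimalCentrallyLarge R := by
    refine minimalCentrallyLarge_of_card_le hQ (isCentrallyLarge_iff.mpr ⟨?_, ?_⟩) hRc.le
    · show _ = _
      rw [hCR, hRc, card_map_of_injective (f := (MulAut.conj x).toMonoidHom)
        (MulAut.conj x).injective]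
      exact hQ1
    · rw [hCR]; exact map_mono hQ2
  obtain ⟨hR1, hR2⟩ := isCentrallyLarge_iff.mp hR.1
  have hne : R ≠ Q := fun h => hxQ (mem_normalizer_iff_map_conj_eq.mpr h)
  obtain ⟨-, eZ, hcc, -⟩ := minimalCentrallyLarge_uniform hQ hR
  obtain ⟨hQd, -⟩ := inf_centralizer_le_centralizer hQ hR.1
  have hCQ : centralizer (Q : Set G) ≤
      centralizer ((centralizer (Q : Set G) : Subgroup G) : Set G) :=
    centralizer_le (show (centralizer (Q : Set G) : Set G) ⊆ Q from hQ2)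
  set C := centralizer (Q : Set G) with hC
  set Z' := C ⊓ centralizer (R : Set G) with hZ'
  set D := Q ⊓ R with hD
  set S := (fun z => ⁅x, z⁆) '' (C : Set G) with hS
  have hSc : ∀ s ∈ S, ∀ t ∈ S, s * t = t * s := by
    rintro _ ⟨z, hz, rfl⟩ _ ⟨z', hz', rfl⟩
    exact commute_commutator_of_product hY hCQ hprod hx hx hz hz'
  have hSD : closure S ≤ centralizer (D : Set G) := by
    refine (closure_le _).mpr ?_
    rintro _ ⟨z, hz, rfl⟩
    show ⁅x, z⁆ ∈ centralizer (D : Set G)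
    rw [commutatorElement_def]
    refine mul_mem (centralizer_le (inf_le_right (a := Q) (b := R)) ?_)
      (centralizer_le (inf_le_left (a := Q) (b := R)) (inv_mem hz))
    rw [hCR]
    exact ⟨z, hz, rfl⟩
  have hZD : Z' ≤ D := fun z hz => (eZ.ge hz).1
  have hZC : Z' ≤ centralizer (D : Set G) :=
    inf_le_left.trans (centralizer_le (inf_le_left (a := Q) (b := R)))
  set M0 := Z' ⊔ closure S with hM0
  have hM0D : M0 ≤ centralizer (D : Set G) := sup_le hZC hSD
  have hM0a : M0 ≤ centralizer (M0 : Set G) := by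
    refine le_centralizer_iff_isMulCommutative.mpr
      (isMulCommutative_sup_of_le_centralizer ?_ ?_ ?_)
    · exact hZC.trans (centralizer_le (show (Z' : Set G) ⊆ D from hZD))
    · exact le_centralizer_iff_isMulCommutative.mpr (isMulCommutative_closure hSc)
    · exact le_centralizer_iff.mp (hSD.trans (centralizer_le (show (Z' : Set G) ⊆ D from hZD)))
  set M := D ⊔ M0 with hM
  have hM0M : M0 ≤ centralizer (M : Set G) :=
    le_centralizer_iff.mp (sup_le (le_centralizer_iff.mp hM0D) hM0a)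
  have hDM0 : D ⊓ M0 = Z' := by
    refine le_antisymm (fun z hz => eZ.le ⟨hz.1, ?_⟩) (le_inf hZD le_sup_left)
    have : z ∈ centralizer (((Q ⊓ R) ⊔ C : Subgroup G) : Set G) := by
      rw [centralizer_sup_eq]
      exact ⟨hM0D hz.2, le_centralizer_centralizer Q hz.1.1⟩
    rwa [hQd] at this
  -- `z ↦ ⁅x, z⁆` is injective modulo `Z'`
  have hinj : ∀ a ∈ C, ∀ b ∈ C, ⁅x, a⁆⁻¹ * ⁅x, b⁆ ∈ Z' → a⁻¹ * b ∈ Z' := by
    intro a ha b hb h
    have hc : ⁅x, a⁆⁻¹ * ⁅x, b⁆ ∈ C := h.1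
    have e : x * (a⁻¹ * b) * x⁻¹ = a⁻¹ * (⁅x, a⁆⁻¹ * ⁅x, b⁆) * b := by
      rw [commutatorElement_def, commutatorElement_def]; group
    have hw : x * (a⁻¹ * b) * x⁻¹ ∈ Z' :=
      mem_inf.mpr ⟨by rw [e]; exact mul_mem (mul_mem (inv_mem ha) hc) hb,
        by rw [hCR]; exact ⟨a⁻¹ * b, mul_mem (inv_mem ha) hb, rfl⟩⟩
    have e' : a⁻¹ * b = (x * (a⁻¹ * b) * x⁻¹) * (⁅x, a⁆⁻¹ * ⁅x, b⁆)⁻¹ := by
      rw [e]
      have c1 : a⁻¹ * (⁅x, a⁆⁻¹ * ⁅x, b⁆) = (⁅x, a⁆⁻¹ * ⁅x, b⁆) * a⁻¹ :=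
        mem_centralizer_iff.mp (hCQ hc) a⁻¹ (inv_mem ha)
      have c2 : (⁅x, a⁆⁻¹ * ⁅x, b⁆) * (a⁻¹ * b) = (a⁻¹ * b) * (⁅x, a⁆⁻¹ * ⁅x, b⁆) :=
        mem_centralizer_iff.mp (hCQ (mul_mem (inv_mem ha) hb)) _ hc
      rw [c1, mul_assoc (⁅x, a⁆⁻¹ * ⁅x, b⁆) a⁻¹ b, c2, mul_inv_cancel_right]
    rw [e']
    exact mul_mem hw (inv_mem h)
  have hmem : ∀ a ∈ C, ⁅x, a⁆ ∈ M0 :=
    fun a ha => mem_sup_right (subset_closure ⟨a, ha, rfl⟩)
  have hC0 : Z'.relIndex C ≤ Z'.relIndex M0 :=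
    relIndex_le_relIndex_of_map (fun z => ⁅x, z⁆) hmem hinj
  have hcM0 : Nat.card C ≤ Nat.card M0 := by
    rw [← LocalEvenBasic.card_mul_relIndex_of_le Z' C inf_le_left,
      ← LocalEvenBasic.card_mul_relIndex_of_le Z' M0 le_sup_left]
    exact Nat.mul_le_mul_left _ hC0
  have hMQ : Nat.card Q ≤ Nat.card M := by
    have h1 := LocalEvenBasic.card_mul_le_inf_mul_sup D M0
    rw [hDM0] at h1
    have hp := card_sup_mul_card_inf_of_coe D C
      (large_sup_inf (large_sup_inf hQ1 hR1).2.2.1 (large_centralizer hQ1).1).1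
    rw [show D ⊔ C = Q from hQd, show D ⊓ C = Z' from eZ] at hp
    refine Nat.le_of_mul_le_mul_right ?_ (Nat.card_pos : 0 < Nat.card Z')
    calc Nat.card Q * Nat.card Z' = Nat.card D * Nat.card C := hp
      _ ≤ Nat.card D * Nat.card M0 := Nat.mul_le_mul_left _ hcM0
      _ ≤ Nat.card Z' * Nat.card M := h1
      _ = Nat.card M * Nat.card Z' := mul_comm _ _
  have hQM : Nat.card Q * Nat.card C = maxCentralizerProduct G := hQ1
  have k1 : Nat.card Q * Nat.card C ≤ Nat.card M * Nat.card M0 := Nat.mul_le_mul hMQ hcM0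
  have k2 : Nat.card M * Nat.card M0 ≤ Nat.card M * Nat.card (centralizer (M : Set G)) :=
    Nat.mul_le_mul_left _ (card_le_of_le hM0M)
  have k3 := le_maxCentralizerProduct M
  have hCM : centralizer (M : Set G) = M0 := by
    refine (eq_of_le_of_card_ge hM0M ?_).symm
    exact Nat.le_of_mul_le_mul_left ((k3.trans hQM.ge).trans k1) Nat.card_pos
  have hMM : IsMinimalCentrallyLarge M := by
    refine minimalCentrallyLarge_of_card_le hQ (isCentrallyLarge_iff.mpr
      ⟨le_antisymm k3 (hQM ▸ k1.trans k2), hCM.le.trans le_sup_right⟩) ?_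
    refine Nat.le_of_mul_le_mul_right ?_ (Nat.card_pos : 0 < Nat.card C)
    exact ((Nat.mul_le_mul_left _ hcM0).trans k2).trans (k3.trans hQM.ge)
  refine ⟨M, hMM, ?_⟩
  rw [hCM]
  set U := Subgroup.upperCentralSeries G
  have hshift : ∀ j, Z'.relIndex (C ⊓ U (j + 1)) ≤ Z'.relIndex (M0 ⊓ U j) := by
    intro j
    refine relIndex_le_relIndex_of_map (fun z => ⁅x, z⁆) (fun a ha => ⟨hmem a ha.1, ?_⟩)
      (fun a ha b hb => hinj a ha.1 b hb.1)
    rw [← commutatorElement_inv a x]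
    exact (U j).inv_mem (Subgroup.mem_upperCentralSeries_succ_iff.mp ha.2 x)
  have hmono : ∀ j, Z'.relIndex (C ⊓ U j) ≤ Z'.relIndex (C ⊓ U (j + 1)) := fun j =>
    relIndex_le_of_le_right
      (inf_le_inf_left _ (Subgroup.upperCentralSeries_mono G (Nat.le_succ j)))
      index_ne_zero_of_finite
  have hcard : ∀ (X : Subgroup G) (j : ℕ), Z' ≤ X →
      Nat.card ↥(X ⊓ U j) = Nat.card ↥(Z' ⊓ U j) * Z'.relIndex (X ⊓ U j) := by
    intro X j hX
    have h1 : Z' ⊓ (X ⊓ U j) = Z' ⊓ U j := by rw [← inf_assoc, inf_eq_left.mpr hX]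
    rw [← inf_relIndex_right Z' (X ⊓ U j), h1]
    exact (LocalEvenBasic.card_mul_relIndex_of_le _ _ (inf_le_inf_right _ hX)).symm
  obtain ⟨j, hj, hlt⟩ : ∃ j ∈ Finset.range (n + 1),
      Z'.relIndex (C ⊓ U j) < Z'.relIndex (C ⊓ U (j + 1)) := by
    by_contra hno
    push Not at hno
    have hle : ∀ j, j ≤ n → Z'.relIndex (C ⊓ U j) ≤ 1 := by
      intro j
      induction j with
      | zero =>
        intro _
        rw [show C ⊓ U 0 = ⊥ from inf_bot_eq C]
        simp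
      | succ j ih =>
        intro hj
        exact (hno j (Finset.mem_range.mpr (by omega))).trans (ih (by omega))
    have h1 := hle n le_rfl
    rw [show C ⊓ U n = C by rw [show U n = ⊤ from htop, inf_top_eq]] at h1
    have h2 : Nat.card C ≤ Nat.card Z' := by
      rw [← LocalEvenBasic.card_mul_relIndex_of_le Z' C inf_le_left]
      exact (Nat.mul_le_mul_left _ h1).trans (mul_one _).le
    have hCC : C = centralizer (R : Set G) :=
      eq_of_le_of_card_ge ((eq_of_le_of_card_ge inf_le_left h2).ge.trans inf_le_right) hcc.ge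
    exact hne ((large_centralizer hR1).2.symm.trans (hCC ▸ (large_centralizer hQ1).2))
  refine Finset.sum_lt_sum (fun i _ => ?_) ⟨j, hj, ?_⟩
  · rw [hcard C i inf_le_left, hcard M0 i le_sup_left]
    exact Nat.mul_le_mul_left _ ((hmono i).trans (hshift i))
  · rw [hcard C j inf_le_left, hcard M0 j le_sup_left]
    exact Nat.mul_lt_mul_of_pos_left (hlt.trans_le (hshift j)) Nat.card_pos

/-- Some minimal centrally large subgroup is normalised by all of them and by `J(G)`. -/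
theorem exists_normalized_minimalCentrallyLarge [Group.IsNilpotent G] :
    ∃ Q : Subgroup G, IsMinimalCentrallyLarge Q ∧
      thompsonSubgroupA G ≤ normalizer (Q : Set G) ∧
      minimalCentrallyLargeJoin G ≤ normalizer (Q : Set G) := by
  obtain ⟨n, htop⟩ := Group.IsNilpotent.nilpotent (G := G)
  obtain ⟨R, hR⟩ := exists_isCentrallyLarge (G := G)
  haveI : Nonempty {Q : Subgroup G // IsMinimalCentrallyLarge Q} := by
    obtain ⟨Q, -, hQ⟩ := exists_minimalCentrallyLarge_le hR; exact ⟨⟨Q, hQ⟩⟩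
  obtain ⟨⟨Q, hQ⟩, hmax⟩ := Finite.exists_max
    (α := {Q : Subgroup G // IsMinimalCentrallyLarge Q}) (fun Q =>
      ∑ j ∈ Finset.range (n + 1),
        Nat.card ↥(centralizer (Q.1 : Set G) ⊓ Subgroup.upperCentralSeries G j))
  have key : ∀ Y : Subgroup G, Y ≤ centralizer (Y : Set G) →
      ((Y ⊔ centralizer (Q : Set G) : Subgroup G) : Set G) =
        (Y : Set G) * (centralizer (Q : Set G) : Set G) → Y ≤ normalizer (Q : Set G) := by
    intro Y hY hp x hx
    by_contra hxQ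
    obtain ⟨M, hM, hlt⟩ := exists_replacement hQ hY hp hx hxQ htop
    exact absurd (hmax ⟨M, hM⟩) (not_le.mpr hlt)
  obtain ⟨hQ1, hQ2⟩ := isCentrallyLarge_iff.mp hQ.1
  refine ⟨Q, hQ, sSup_le fun A hA => ?_, sSup_le fun B hB => ?_⟩
  · refine key A (le_centralizer_iff_isMulCommutative.mpr hA.1) ?_
    refine coe_sup_swap (le_antisymm ?_ ?_)
    · intro y hy
      obtain ⟨hp, -, hBm⟩ := centrallyLarge_sup_maxAbelian hQ.1 hA
      have hsup : centralizer (Q : Set G) ⊔ A ≤ Q ⊔ A := sup_le_sup_right hQ2 _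
      obtain ⟨q, hq, a, ha, rfl⟩ := hp.le (hsup hy)
      have hq' : q ∈ (Q ⊓ A) ⊔ centralizer (Q : Set G) := by
        rw [← centralizer_maxAbelian hBm, centralizer_sup_eq]
        refine ⟨?_, le_centralizer_centralizer Q hq⟩
        have h1 : centralizer (Q : Set G) ⊔ A ≤ centralizer ((Q ⊓ A : Subgroup G) : Set G) :=
          sup_le (centralizer_le (inf_le_left (a := Q) (b := A)))
            ((le_centralizer_iff_isMulCommutative.mpr hA.1).trans
              (centralizer_le (inf_le_right (a := Q) (b := A))))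
        exact (mul_mem_cancel_right (h1 (mem_sup_right ha))).mp (h1 hy)
      obtain ⟨d, hd, z, hz, rfl⟩ :=
        (coe_sup_eq_mul_of_le_centralizer (inf_le_left.trans (le_centralizer_centralizer Q))).le hq'
      exact ⟨z, hz, d * a, mul_mem hd.2 ha, by
        simp only
        rw [← mul_assoc, ← (mem_centralizer_iff.mp hz d hd.1)]⟩
    · rintro _ ⟨z, hz, a, ha, rfl⟩
      exact mul_mem (mem_sup_left hz) (mem_sup_right ha)
  · obtain ⟨hB1, hB2⟩ := isCentrallyLarge_iff.mp hB.1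
    rw [← (inf_centralizer_le_centralizer hB hQ.1).1]
    refine sup_le (inf_le_right.trans le_normalizer) (key _ ?_ ?_)
    · exact centralizer_le (show (centralizer (B : Set G) : Set G) ⊆ B from hB2)
    · exact (large_sup_inf (large_centralizer hB1).1 (large_centralizer hQ1).1).1

end Finite

end CfsgLib.LocalEven50
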