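import Mathlib.GroupTheory.Sylow
import Cfsg.Agent.LocalEven50.MinimalCentrallyLarge
import Cfsg.Agent.LocalEven50.PSL2Gen
import Cfsg.Agent.PLocal.Cores
import Cfsg.Agent.S0542
import Cfsg.Agent.PLocal.Thompson

/-!
# The basic pushing-up situation

`S` lies in a unique maximal subgroup and `G` has a quotient `PSL₂(q)`.  Then `|S / O_p(G)| = q`,
a nontrivial module has `|V / C_V(S)| ≥ q`, and, if `S = C_S(Z(J(S)))`, either `Z(S)` is central
in `G` or `O_p(G)` is centrally large in `S`.
-/

namespace CfsgLib.LocalEven50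

open Subgroup Cfsg

variable {G : Type*} [Group G] [Finite G] {p : ℕ} [Fact p.Prime]

/-- What is used of the basic pushing-up situation. -/
structure PushUpData (p : ℕ) (S M : Subgroup G) (q : ℕ) (g : G) : Prop where
  core_le : pCore p G ≤ S
  cpSelf : centralizer (pCore p G : Set G) ≤ pCore p G
  isPGroup : IsPGroup p S
  coatom : IsCoatom M
  le_max : S ≤ M
  unique : ∀ X : Subgroup G, X ≠ ⊤ → S ≤ X → X ≤ M
  normal_inf : ∀ N : Subgroup G, N.Normal → N ≤ M → N ⊓ S ≤ pCore p G
  normalizer_le : normalizer (S : Set G) ≤ M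
  index_core : (pCore p G).relIndex S = q
  one_lt : 1 < q
  q_pow : ∃ n, q = p ^ n
  pair : ∀ x : G, x ∉ M → S ⊔ S.map (MulAut.conj x).toMonoidHom = ⊤
  gen : ∀ x ∈ S, x ∉ pCore p G → zpowers x ⊔ S.map (MulAut.conj g).toMonoidHom = ⊤

theorem pushUpData {S : Subgroup G} (h : IsPushingUpSituation p S) :
    ∃ M q g, PushUpData p S M q g := by
  obtain ⟨-, ⟨P, rfl⟩, hC, ⟨M, ⟨hM, hPM⟩, huniq⟩, K, hK, F, _, _, n, hF, ⟨e⟩⟩ := h
  have hcore : pCore p G ≤ P := PLocal.pCore_le_sylow P
  have hunique : ∀ X : Subgroup G, X ≠ ⊤ → (P : Subgroup G) ≤ X → X ≤ M := by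
    intro X hX hPX
    obtain ⟨Y, hY, hXY⟩ := (eq_top_or_exists_le_coatom X).resolve_left hX
    exact (huniq Y ⟨hY, hPX.trans hXY⟩) ▸ hXY
  have hnormal : ∀ N : Subgroup G, N.Normal → N ≤ M → N ⊓ (P : Subgroup G) ≤ pCore p G := by
    intro N hN hNM
    obtain ⟨Q, hQ⟩ := Cfsg.Agent.S0542.result p N hN.isSubnormal P
    have hmap : (Q : Subgroup N).map N.subtype = N ⊓ (P : Subgroup G) := by
      rw [hQ, subgroupOf_map_subtype, inf_comm]
    have hfr := Sylow.normalizer_sup_eq_top Q
    rw [hmap] at hfr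
    have htop : normalizer ((N ⊓ (P : Subgroup G) : Subgroup G) : Set G) = ⊤ := by
      by_contra hne
      refine hM.1 (top_le_iff.mp (hfr.ge.trans (sup_le (hunique _ hne ?_) hNM)))
      intro x hx
      rw [mem_normalizer_iff]
      intro y
      refine ⟨fun hy => ⟨hN.conj_mem y hy.1 x, (mem_normalizer_iff.mp (le_normalizer hx) y).mp hy.2⟩,
        fun hy => ⟨?_, (mem_normalizer_iff.mp (le_normalizer hx) y).mpr hy.2⟩⟩
      simpa [mul_assoc] using hN.conj_mem _ hy.1 x⁻¹
    haveI := normalizer_eq_top_iff.mp htop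
    exact PLocal.le_pCore (P.2.to_inf_right)
  -- the map onto `PSL₂(q)`
  set φ := e.toMonoidHom.comp (QuotientGroup.mk' K)
  have hφ : Function.Surjective φ := e.surjective.comp (QuotientGroup.mk'_surjective K)
  have hker : ∀ x, φ x = 1 ↔ x ∈ K := by
    intro x
    show e (QuotientGroup.mk' K x) = 1 ↔ _
    rw [e.map_eq_one_iff, QuotientGroup.mk'_apply, QuotientGroup.eq_one_iff]
  obtain ⟨U, c, hUc, hgen⟩ := psl2_sylow_generation F hF
  have hq : 1 < Fintype.card F := Fintype.one_lt_card
  have hUne : (U : Subgroup (Matrix.ProjectiveSpecialLinearGroup (Fin 2) F)) ≠ ⊤ := by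
    intro h
    have h1 := Linear.card_PSL_two_mul (F := F)
    rw [← card_top, ← h, hUc] at h1
    have h2 : Nat.gcd 2 (Fintype.card F - 1) = Fintype.card F ^ 2 - 1 :=
      Nat.eq_of_mul_eq_mul_left (zero_lt_one.trans hq) ((mul_comm _ _).trans h1)
    have h3 : Nat.gcd 2 (Fintype.card F - 1) ≤ 2 := Nat.gcd_le_left _ two_pos
    have h4 : 2 ^ 2 ≤ Fintype.card F ^ 2 := Nat.pow_le_pow_left hq 2
    omega
  let PU := P.mapSurjective hφ
  obtain ⟨d, hd⟩ := MulAction.exists_smul_eq (Matrix.ProjectiveSpecialLinearGroup (Fin 2) F) U PU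
  have hPU : (P : Subgroup G).map φ =
      (U : Subgroup (Matrix.ProjectiveSpecialLinearGroup (Fin 2) F)).map
        (MulAut.conj d).toMonoidHom := by
    rw [← Sylow.coe_mapSurjective]
    exact (congrArg (fun T : Sylow p (Matrix.ProjectiveSpecialLinearGroup (Fin 2) F) =>
      (T : Subgroup (Matrix.ProjectiveSpecialLinearGroup (Fin 2) F))) hd).symm
  have hKM : K ≤ M := by
    by_contra hKM
    have h1 : K ⊔ (P : Subgroup G) = ⊤ := by
      by_contra hne
      exact hKM (le_sup_left.trans (hunique _ hne le_sup_right))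
    have h2 := congrArg (Subgroup.map φ) h1
    rw [Subgroup.map_sup, map_top_of_surjective φ hφ,
      (Subgroup.map_eq_bot_iff (f := φ) (H := K)).mpr (fun x hx => (hker x).mpr hx),
      bot_sup_eq, hPU] at h2
    refine hUne (map_injective (f := (MulAut.conj d).toMonoidHom) (MulAut.conj d).injective
      (h2.trans (map_top_of_surjective _ (MulAut.conj d).surjective).symm))
  -- generation in the quotient
  set c' := d * c * d⁻¹ with hc'
  have hgen' : ∀ y ∈ (P : Subgroup G).map φ, y ≠ 1 →
      zpowers y ⊔ ((P : Subgroup G).map φ).map (MulAut.conj c').toMonoidHom = ⊤ := by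
    rw [hPU]
    rintro _ ⟨u, hu, rfl⟩ hne
    have h1 := congrArg (Subgroup.map (MulAut.conj d).toMonoidHom)
      (hgen u hu (fun h => hne (by rw [h, map_one])))
    rw [map_top_of_surjective _ (MulAut.conj d).surjective, Subgroup.map_sup,
      MonoidHom.map_zpowers, map_map] at h1
    rw [map_map, ← h1]
    congr 2
    ext y
    simp [hc', mul_assoc]
  have hRK : pCore p G ≤ K := by
    intro x hx
    rw [← hker]
    by_contra hne
    refine hUne ?_
    haveI : ((pCore p G).map φ).Normal := (pCore_normal p G).map φ hφ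
    have h2 := hgen' (φ x) (mem_map_of_mem φ (hcore hx)) hne
    have h3 : zpowers (φ x) ≤ ((P : Subgroup G).map φ).map (MulAut.conj c').toMonoidHom := by
      refine (zpowers_le.mpr (mem_map_of_mem φ hx)).trans ?_
      refine le_trans ?_ (map_mono (map_mono hcore))
      intro y hy
      exact ⟨c'⁻¹ * y * c', by simpa using Normal.conj_mem ‹((pCore p G).map φ).Normal› y hy c'⁻¹,
        by simp [mul_assoc]⟩
    rw [sup_eq_right.mpr h3, hPU, map_map] at h2
    refine map_injective (f := (MulAut.conj c').toMonoidHom.comp (MulAut.conj d).toMonoidHom)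
      ((MulAut.conj c').injective.comp (MulAut.conj d).injective) (h2.trans ?_)
    exact (map_top_of_surjective _
      ((MulAut.conj c').surjective.comp (MulAut.conj d).surjective)).symm
  obtain ⟨g, hg⟩ := hφ c'
  have hcoreK : K ⊓ (P : Subgroup G) = pCore p G :=
    le_antisymm (hnormal K hK hKM) (le_inf hRK hcore)
  have hidx : (pCore p G).relIndex (P : Subgroup G) = Fintype.card F := by
    rw [← hUc, ← card_map_of_injective (f := (MulAut.conj d).toMonoidHom)
      (MulAut.conj d).injective, ← hPU, ← hcoreK, inf_relIndex_right,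
      ← MonoidHom.domRestrict_range, ← index_ker]
    unfold relIndex
    congr 1
    ext x
    exact (hker x).symm
  have hgenP : ∀ x ∈ (P : Subgroup G), x ∉ pCore p G →
      zpowers x ⊔ (P : Subgroup G).map (MulAut.conj g).toMonoidHom = ⊤ := by
    intro x hx hxR
    set X := zpowers x ⊔ (P : Subgroup G).map (MulAut.conj g).toMonoidHom with hX
    by_contra hne
    have hxK : φ x ≠ 1 := fun h => hxR (hcoreK.le ⟨(hker x).mp h, hx⟩)
    have hXφ : X.map φ = ⊤ := by
      rw [hX, Subgroup.map_sup, MonoidHom.map_zpowers, map_map]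
      convert hgen' (φ x) (mem_map_of_mem φ hx) hxK using 2
      rw [map_map]
      congr 1
      ext y
      simp [← hg, mul_assoc]
    -- the conjugate of `X` back lies in `M`
    set ci := (MulAut.conj g⁻¹).toMonoidHom
    have hci : Function.Injective ci := (MulAut.conj g⁻¹).injective
    have hcis : Function.Surjective ci := (MulAut.conj g⁻¹).surjective
    have hle : X.map ci ≤ M := by
      refine hunique _ (fun h => hne (map_injective hci
        (h.trans (map_top_of_surjective _ hcis).symm))) ?_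
      intro y hy
      exact ⟨g * y * g⁻¹, mem_sup_right ⟨y, hy, rfl⟩, by simp [ci, mul_assoc]⟩
    refine hM.1 (top_le_iff.mp fun y _ => ?_)
    obtain ⟨z, hz, hze⟩ := hXφ.ge (mem_top (φ (g * y * g⁻¹)))
    have h1 : z⁻¹ * (g * y * g⁻¹) ∈ K := by rw [← hker, map_mul, map_inv, hze, inv_mul_cancel]
    have h2 := hle (mem_map_of_mem ci hz)
    have h3 : g⁻¹ * (z⁻¹ * (g * y * g⁻¹)) * g ∈ M :=
      hKM (by simpa using hK.conj_mem _ h1 g⁻¹)
    have := M.mul_mem h2 h3
    simpa [ci, mul_assoc] using this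
  have hnorm : normalizer ((P : Subgroup G) : Set G) ≤ M := by
    refine hunique _ (fun h => ?_) le_normalizer
    haveI := normalizer_eq_top_iff.mp h
    have : (P : Subgroup G) ≤ pCore p G := PLocal.le_pCore P.2
    rw [relIndex_eq_one.mpr this] at hidx
    omega
  refine ⟨M, Fintype.card F, g, hcore, hC, P.2, hM, hPM, hunique, hnormal, hnorm, hidx, hq,
    ⟨n, hF⟩, fun x hx => ?_, hgenP⟩
  by_contra hne
  apply hx
  have h1 := hunique _ hne le_sup_left
  have h2 : ((x • P : Sylow p G) : Subgroup G) ≤ M := le_sup_right.trans h1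
  obtain ⟨m, hm⟩ := MulAction.exists_smul_eq M ((x • P).subtype h2) (P.subtype hPM)
  rw [Sylow.smul_subtype] at hm
  have h3 : (m : G) • (x • P) = P := Sylow.subtype_injective hm
  rw [smul_smul, Sylow.smul_eq_iff_mem_normalizer] at h3
  simpa using M.mul_mem (M.inv_mem m.2) (hnorm h3)

omit [Fact p.Prime] in
theorem PushUpData.gen_not_mem {S M : Subgroup G} {q : ℕ} {g : G} (h : PushUpData p S M q g) :
    g ∉ M := by
  intro hg
  obtain ⟨x, hx, hxR⟩ : ∃ x ∈ S, x ∉ pCore p G := by
    by_contra hne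
    push Not at hne
    have := h.index_core
    rw [relIndex_eq_one.mpr hne] at this
    exact absurd this h.one_lt.ne
  refine h.coatom.1 (top_le_iff.mp ((h.gen x hx hxR).ge.trans (sup_le ?_ ?_)))
  · exact zpowers_le.mpr (h.le_max hx)
  · rintro _ ⟨y, hy, rfl⟩
    exact M.mul_mem (M.mul_mem hg (h.le_max hy)) (M.inv_mem hg)

omit [Fact p.Prime] in
theorem PushUpData.index_lt {S M : Subgroup G} {q : ℕ} {g : G} (h : PushUpData p S M q g) :
    q < M.index := by
  classical
  set R := (pCore p G).subgroupOf S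
  let f : Option (↥S ⧸ R) → G ⧸ M := fun o =>
    o.elim (QuotientGroup.mk 1) (fun a => QuotientGroup.mk ((a.out : G) * g))
  have hsome : ∀ a, f (some a) ≠ f none := fun a e => by
    rw [eq_comm] at e
    change ((1 : G) : G ⧸ M) = (((a.out : G) * g : G) : G ⧸ M) at e
    rw [QuotientGroup.eq, inv_one, one_mul] at e
    exact h.gen_not_mem (by simpa using M.mul_mem (M.inv_mem (h.le_max a.out.2)) e)
  have hinj : Function.Injective f := by
    rintro (_ | a) (_ | b) e
    · rfl
    · exact absurd e.symm (hsome b)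
    · exact absurd e (hsome a)
    change (((a.out : G) * g : G) : G ⧸ M) = (((b.out : G) * g : G) : G ⧸ M) at e
    rw [QuotientGroup.eq] at e
    by_contra hne
    have hz : (a.out⁻¹ * b.out : S) ∉ R := fun hz => hne (congrArg some (by
      rw [← QuotientGroup.out_eq' a, ← QuotientGroup.out_eq' b, QuotientGroup.eq]; exact hz))
    refine h.coatom.1 (top_le_iff.mp fun y _ => ?_)
    have hle : zpowers ((a.out⁻¹ * b.out : S) : G) ⊔ S.map (MulAut.conj g).toMonoidHom ≤
        M.map (MulAut.conj g).toMonoidHom := by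
      refine sup_le (zpowers_le.mpr ⟨_, e, ?_⟩) (map_mono h.le_max)
      simp [mul_assoc]
    rw [h.gen _ (a.out⁻¹ * b.out).2 hz] at hle
    obtain ⟨m, hm, he⟩ := hle (mem_top (g * y * g⁻¹))
    simp at he
    exact he ▸ hm
  have h1 := Nat.card_le_card_of_injective f hinj
  rw [Finite.card_option] at h1
  have h2 : Nat.card (↥S ⧸ R) = q := h.index_core
  rw [← M.index_eq_card] at h1
  omega

/-- If `S` has fixed points on a normal `p`-subgroup `V` outside `C(G)`, then
`|V / C_V(S)| ≥ q`. -/
theorem PushUpData.le_relIndex {S M : Subgroup G} {q : ℕ} {g : G} (h : PushUpData p S M q g)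
    (V : Subgroup G) [V.Normal] (hV : IsPGroup p V)
    (hne : ¬ V ⊓ centralizer (S : Set G) ≤ centralizer ((⊤ : Subgroup G) : Set G)) :
    q ≤ (V ⊓ centralizer (S : Set G)).relIndex V := by
  classical
  set C := V ⊓ centralizer (S : Set G)
  set V0 := V ⊓ centralizer ((⊤ : Subgroup G) : Set G)
  have hV0C : V0 ≤ C :=
    inf_le_inf_left _ (centralizer_le (show (S : Set G) ⊆ ((⊤ : Subgroup G) : Set G) from le_top))
  let f : ↥V0 ⊕ (G ⧸ M) × {y : ↥C // (y : G) ∉ V0} → ↥V := Sum.elim
    (fun v => ⟨v, v.2.1⟩)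
    (fun ay => ⟨ay.1.out * (ay.2.1 : G) * ay.1.out⁻¹,
      Normal.conj_mem ‹V.Normal› _ ay.2.1.2.1 _⟩)
  have hcent : ∀ v ∈ V0, ∀ x : G, x * v * x⁻¹ = v := fun v hv x => by
    rw [mem_centralizer_iff.mp hv.2 x (mem_top x), mul_inv_cancel_right]
  have hkey : ∀ (a b : G) (y z : G), y ∈ C → z ∈ C → a⁻¹ * b ∉ M →
      a * y * a⁻¹ = b * z * b⁻¹ → y ∈ V0 := by
    intro a b y z hy hz hab e
    refine ⟨hy.1, ?_⟩
    have hyz : y = (a⁻¹ * b) * z * (a⁻¹ * b)⁻¹ :=
      calc y = a⁻¹ * (a * y * a⁻¹) * a := by group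
        _ = _ := by rw [e]; group
    have h1 : S.map (MulAut.conj (a⁻¹ * b)).toMonoidHom ≤
        centralizer ((zpowers y : Subgroup G) : Set G) := by
      rintro _ ⟨s, hs, rfl⟩
      refine mem_centralizer_iff.mpr fun w hw => ?_
      obtain ⟨i, rfl⟩ := mem_zpowers_iff.mp hw
      have hc : Commute z s := (mem_centralizer_iff.mp hz.2 s hs).symm
      rw [hyz]
      exact ((hc.map (MulAut.conj (a⁻¹ * b)).toMonoidHom).zpow_left i)
    have h2 : S ≤ centralizer ((zpowers y : Subgroup G) : Set G) :=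
      le_centralizer_iff.mp (zpowers_le.mpr hy.2)
    exact le_centralizer_iff.mp ((h.pair _ hab).ge.trans (sup_le h2 h1)) (mem_zpowers y)
  have hinj : Function.Injective f := by
    rintro (v | ⟨a, y, hy⟩) (w | ⟨b, z, hz⟩) e <;> have e' := congrArg Subtype.val e <;>
      simp only [f, Sum.elim_inl, Sum.elim_inr] at e'
    · exact congrArg Sum.inl (Subtype.ext e')
    · exfalso
      refine hz ?_
      have := hcent _ v.2 (b.out⁻¹)
      have e2 : (z : G) = b.out⁻¹ * (v : G) * b.out⁻¹⁻¹ := by rw [e']; group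
      rw [e2, this]
      exact v.2
    · exfalso
      refine hy ?_
      have := hcent _ w.2 (a.out⁻¹)
      have e2 : (y : G) = a.out⁻¹ * (w : G) * a.out⁻¹⁻¹ := by rw [← e']; group
      rw [e2, this]
      exact w.2
    · have hab : a = b := by
        by_contra hne'
        refine hy (hkey a.out b.out y z y.2 z.2 (fun hm => hne' ?_) e')
        rw [← QuotientGroup.out_eq' a, ← QuotientGroup.out_eq' b, QuotientGroup.eq]
        exact hm
      subst hab
      have : y = z := Subtype.ext (mul_left_cancel (mul_right_cancel e'))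
      subst this
      rfl
  have hcard := Nat.card_le_card_of_injective f hinj
  rw [Nat.card_sum, Nat.card_prod, ← M.index_eq_card] at hcard
  have hsplit : Nat.card {y : ↥C // (y : G) ∉ V0} + Nat.card ↥V0 = Nat.card ↥C := by
    have e : Nat.card {y : ↥C // (y : G) ∈ V0} = Nat.card ↥V0 :=
      Nat.card_congr
        { toFun := fun y => ⟨_, y.2⟩
          invFun := fun v => ⟨⟨v, hV0C v.2⟩, v.2⟩
          left_inv := fun _ => rfl
          right_inv := fun _ => rfl }
    rw [← e, add_comm, ← Nat.card_sum,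
      Nat.card_congr (Equiv.sumCompl fun y : ↥C => (y : G) ∈ V0)]
  have hcV := LocalEvenBasic.card_mul_relIndex_of_le C V inf_le_left
  have hpr := (Fact.out : p.Prime)
  obtain ⟨i, hi⟩ := IsPGroup.iff_card.mp (hV.to_le (inf_le_left : C ≤ V))
  obtain ⟨j, hj⟩ := IsPGroup.iff_card.mp (hV.to_le (inf_le_left : V0 ≤ V))
  obtain ⟨k, hk⟩ := IsPGroup.iff_card.mp hV
  obtain ⟨l, hl⟩ := h.q_pow
  obtain ⟨a, -, ha⟩ := (Nat.dvd_prime_pow hpr).mp (hk ▸ relIndex_dvd_card C V :
    C.relIndex V ∣ p ^ k)
  rw [ha, hl]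
  by_contra hlt
  rw [not_le] at hlt
  have hal : a < l := (Nat.pow_lt_pow_iff_right hpr.one_lt).mp hlt
  have hji : j < i := by
    refine (Nat.pow_lt_pow_iff_right hpr.one_lt).mp (hi ▸ hj ▸ lt_of_le_of_ne
      (card_le_of_le hV0C) fun he => hne ?_)
    exact (eq_of_le_of_card_ge hV0C he.ge).ge.trans inf_le_right
  have h2a : 2 * p ^ a ≤ q := by
    rw [hl]
    calc 2 * p ^ a ≤ p * p ^ a := Nat.mul_le_mul_right _ hpr.two_le
      _ = p ^ (a + 1) := (pow_succ' p a).symm
      _ ≤ p ^ l := Nat.pow_le_pow_right hpr.pos hal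
  have h2c : 2 * Nat.card ↥V0 ≤ Nat.card ↥C := by
    rw [hi, hj]
    calc 2 * p ^ j ≤ p * p ^ j := Nat.mul_le_mul_right _ hpr.two_le
      _ = p ^ (j + 1) := (pow_succ' p j).symm
      _ ≤ p ^ i := Nat.pow_le_pow_right hpr.pos hji
  have hN := h.index_lt
  have hv0 : 0 < Nat.card ↥V0 := Nat.card_pos
  rw [← hcV, ha] at hcard
  generalize Nat.card ↥V0 = v0 at *
  generalize Nat.card ↥C = cC at *
  generalize Nat.card {y : ↥C // (y : G) ∉ V0} = dd at *
  have h3 : (q + 1) * dd ≤ M.index * dd := Nat.mul_le_mul_right _ hN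
  have h4 : 2 * p ^ a * cC ≤ q * cC := Nat.mul_le_mul_right _ h2a
  nlinarith

/-! ### Centrally large subgroups of `S` in terms of `G` -/

omit [Finite G] [Fact p.Prime] in
theorem card_inf_centralizer_subgroupOf {S X : Subgroup G} (hX : X ≤ S) :
    Nat.card ↥(X.subgroupOf S ⊓ centralizer (X.subgroupOf S : Set ↥S)) =
      Nat.card ↥(X ⊓ centralizer (X : Set G)) := by
  rw [← card_map_of_injective (f := S.subtype) S.subtype_injective,
    PLocal.map_inf_centralizer S.subtype_injective, map_subgroupOf_eq_of_le hX]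

omit [Fact p.Prime] in
theorem isCentrallyLarge_subgroupOf_iff {S X : Subgroup G} (hX : X ≤ S) :
    IsCentrallyLarge (X.subgroupOf S) ↔
      Nat.card X * Nat.card ↥(X ⊓ centralizer (X : Set G)) = maxCentralProduct ↥S := by
  show _ = _ ↔ _
  rw [card_center_subgroup, card_inf_centralizer_subgroupOf hX,
    Nat.card_congr (subgroupOfEquivOfLe hX).toEquiv]

/-- If `S = C_S(Z(J(S)))` then `S` is centrally large. -/
theorem isCentrallyLarge_top {S : Subgroup G}
    (hJ : S ≤ centralizer (centerThompsonAOf S : Set G)) : IsCentrallyLarge (⊤ : Subgroup ↥S) := by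
  obtain ⟨Q, hQ⟩ := exists_isCentrallyLarge (G := ↥S)
  have h := centrallyLarge_sup_thompsonSubgroupA hQ
  refine top_le_iff.mp (le_trans ?_ (centralizer_center_thompsonSubgroupA_le hQ)) ▸ h
  intro s _
  refine mem_centralizer_iff.mpr fun z hz => Subtype.ext ?_
  refine mem_centralizer_iff.mp (hJ s.2) z ?_
  refine ⟨mem_map_of_mem _ hz.1, ?_⟩
  rintro _ ⟨y, hy, rfl⟩
  exact congrArg Subtype.val (mem_centralizer_iff.mp hz.2 y hy)

/-- Either `Z(S)` is central in `G` or `O_p(G)` is centrally large in `S`. -/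
theorem center_central_or_core_centrallyLarge {S : Subgroup G} (hE : IsPushingUpSituation p S)
    (hJ : S ≤ centralizer (centerThompsonAOf S : Set G)) :
    S ⊓ centralizer (S : Set G) ≤ centralizer ((⊤ : Subgroup G) : Set G) ∨
      IsCentrallyLarge ((pCore p G).subgroupOf S) := by
  obtain ⟨M, q, g, h⟩ := pushUpData hE
  haveI := pCore_normal p G
  set R := pCore p G
  set V := R ⊓ centralizer (R : Set G) with hVdef
  haveI : V.Normal := Subgroup.normal_inf_normal R _
  have hC : V ⊓ centralizer (S : Set G) = S ⊓ centralizer (S : Set G) := by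
    refine le_antisymm (inf_le_inf_right _ (inf_le_left.trans h.core_le))
      (le_inf (le_inf ?_ ?_) inf_le_right)
    · exact (inf_le_right.trans (centralizer_le h.core_le)).trans h.cpSelf
    · exact inf_le_right.trans (centralizer_le h.core_le)
  by_cases hc : V ⊓ centralizer (S : Set G) ≤ centralizer ((⊤ : Subgroup G) : Set G)
  · exact Or.inl (hC ▸ hc)
  right
  have h1 := h.le_relIndex V ((PLocal.isPGroup_pCore p G).to_le inf_le_left) hc
  have hcV := LocalEvenBasic.card_mul_relIndex_of_le (V ⊓ centralizer (S : Set G)) V inf_le_left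
  have hqR := LocalEvenBasic.card_mul_relIndex_of_le R S h.core_le
  rw [h.index_core] at hqR
  have htop := isCentrallyLarge_top hJ
  rw [← subgroupOf_self S, isCentrallyLarge_subgroupOf_iff le_rfl, ← hqR, ← hC] at htop
  have hle := le_maxCentralProduct (R.subgroupOf S)
  rw [card_center_subgroup, card_inf_centralizer_subgroupOf h.core_le,
    Nat.card_congr (subgroupOfEquivOfLe h.core_le).toEquiv] at hle
  rw [isCentrallyLarge_subgroupOf_iff h.core_le]
  refine le_antisymm hle ?_
  rw [← htop, ← hVdef, ← hcV, mul_assoc]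
  refine Nat.mul_le_mul_left _ ?_
  rw [mul_comm q]
  exact Nat.mul_le_mul_left _ h1

/-- Conjugates inside `S` of minimal centrally large subgroups are minimal centrally large. -/
theorem minimalCentrallyLarge_conj {S X : Subgroup G} (hX : X ≤ S)
    (hmin : IsMinimalCentrallyLarge (X.subgroupOf S)) (x : G)
    (hXx : X.map (MulAut.conj x).toMonoidHom ≤ S) :
    IsMinimalCentrallyLarge ((X.map (MulAut.conj x).toMonoidHom).subgroupOf S) := by
  have hinj : Function.Injective (MulAut.conj x).toMonoidHom := (MulAut.conj x).injective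
  refine minimalCentrallyLarge_of_card_le hmin ?_ ?_
  · rw [isCentrallyLarge_subgroupOf_iff hXx, card_map_of_injective hinj,
      ← PLocal.map_inf_centralizer hinj, card_map_of_injective hinj,
      ← isCentrallyLarge_subgroupOf_iff hX]
    exact hmin.1
  · rw [Nat.card_congr (subgroupOfEquivOfLe hXx).toEquiv, card_map_of_injective hinj,
      Nat.card_congr (subgroupOfEquivOfLe hX).toEquiv]

end CfsgLib.LocalEven50
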