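import Mathlib.GroupTheory.Frattini
import Mathlib.GroupTheory.Nilpotent
import Cfsg.Agent.LocalEven50.MinimalCentrallyLarge
import Cfsg.Agent.LocalEven50.PushingUp
import Cfsg.Agent.Solvable.Frattini
import Cfsg.Agent.PLocal.Thompson

/-!
# Minimal centrally large subgroups with `Ω₁` of the centre of largest order

If `R` is centrally large and `Z(R) = Ω₁(Z(R)) Z(P)`, every such subgroup has the Frattini
subgroup of one contained in `R`.
-/

namespace CfsgLib.LocalEven50

open Subgroup Cfsg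
open scoped Pointwise commutatorElement

variable {P : Type*} [Group P] [Finite P] {p : ℕ} [Fact p.Prime]

/-- Adjoining a central elementary abelian subgroup does not change `Φ`. -/
theorem map_frattini_sup (hP : IsPGroup p P) {D X : Subgroup P}
    (hXD : X ≤ centralizer (D : Set P)) (hX : IsElementaryAbelian p X) :
    (frattini ↥(D ⊔ X)).map (D ⊔ X).subtype = (frattini ↥D).map D.subtype := by
  have hD : IsPGroup p D := hP.to_subgroup D
  have hT : IsPGroup p ↥(D ⊔ X) := hP.to_subgroup _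
  have hsplit : ∀ t : ↥(D ⊔ X), ∃ d ∈ D, ∃ x ∈ X, (t : P) = d * x ∧
      x ∈ centralizer ((D ⊔ X : Subgroup P) : Set P) := by
    intro t
    have ht : (t : P) ∈ ((X ⊔ D : Subgroup P) : Set P) := by
      rw [sup_comm X D]; exact t.2
    rw [coe_sup_eq_mul_of_le_centralizer hXD] at ht
    obtain ⟨x, hx, d, hd, e⟩ := ht
    refine ⟨d, hd, x, hx, e.symm.trans (mem_centralizer_iff.mp (hXD hx) d hd).symm, ?_⟩
    rw [centralizer_sup_eq]
    exact ⟨hXD hx, le_centralizer_iff_isMulCommutative.mpr hX.1 hx⟩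
  refine le_antisymm ?_ ?_
  · rw [map_le_iff_le_comap]
    refine Solvable.frattini_le_of_elementary (p := p) ?_ fun t => ?_
    · rw [commutator_def, commutator_le]
      intro t _ u _
      obtain ⟨d, hd, x, hx, et, hxc⟩ := hsplit t
      obtain ⟨d', hd', y, hy, eu, hyc⟩ := hsplit u
      have hxd : d' * x = x * d' := mem_centralizer_iff.mp hxc d' (mem_sup_left hd')
      have hyd : d * y = y * d := mem_centralizer_iff.mp hyc d (mem_sup_left hd)
      have hxy : y * x = x * y := mem_centralizer_iff.mp hxc y (mem_sup_right hy)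
      have e : ⁅(t : P), (u : P)⁆ = ⁅d, d'⁆ := by
        rw [et, eu]
        have e1 : (d * x) * (d' * y) = (d * d') * (x * y) := by
          rw [mul_assoc, ← mul_assoc x, ← hxd, mul_assoc, ← mul_assoc d]
        have e2 : (d' * y) * (d * x) = (d' * d) * (x * y) := by
          rw [mul_assoc, ← mul_assoc y, ← hyd, mul_assoc, ← mul_assoc d', hxy]
        rw [show ⁅d * x, d' * y⁆ = ((d * x) * (d' * y)) * ((d' * y) * (d * x))⁻¹ by
          rw [commutatorElement_def]; group, e1, e2, commutatorElement_def]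
        group
      refine ⟨⁅(⟨d, hd⟩ : D), ⟨d', hd'⟩⁆, Solvable.commutator_le_frattini hD
        (commutator_mem_commutator (mem_top _) (mem_top _)), ?_⟩
      rw [map_commutatorElement, map_commutatorElement]
      exact e.symm
    · obtain ⟨d, hd, x, hx, et, hxc⟩ := hsplit t
      refine ⟨(⟨d, hd⟩ : D) ^ p, Solvable.pow_mem_frattini hD _, ?_⟩
      have hc : Commute d x := mem_centralizer_iff.mp hxc d (mem_sup_left hd)
      rw [map_pow, map_pow]
      show d ^ p = (t : P) ^ p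
      rw [et, hc.mul_pow, hX.2 x hx, mul_one]
  · rw [map_le_iff_le_comap]
    refine Solvable.frattini_le_of_elementary (p := p) ?_ fun d => ?_
    · rw [commutator_def, commutator_le]
      intro a _ b _
      refine ⟨⁅(⟨a, mem_sup_left a.2⟩ : ↥(D ⊔ X)), ⟨b, mem_sup_left b.2⟩⁆,
        Solvable.commutator_le_frattini hT (commutator_mem_commutator (mem_top _) (mem_top _)), ?_⟩
      rw [map_commutatorElement, map_commutatorElement]
      rfl
    · refine ⟨(⟨d, mem_sup_left d.2⟩ : ↥(D ⊔ X)) ^ p, Solvable.pow_mem_frattini hT _, ?_⟩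
      rw [map_pow, map_pow]
      rfl

omit [Fact p.Prime] in
theorem le_maxOmegaCenterOfMinimalCL {Q : Subgroup P} (hQ : IsMinimalCentrallyLarge Q) :
    Nat.card ↥(omegaOneCenter p Q) ≤ maxOmegaCenterOfMinimalCL p P :=
  le_csSup (Set.Finite.bddAbove ((Set.finite_range fun Q : Subgroup P =>
    Nat.card ↥(omegaOneCenter p Q)).subset (by rintro _ ⟨Q, -, rfl⟩; exact ⟨Q, rfl⟩)))
    ⟨Q, hQ, rfl⟩

omit [Fact p.Prime] in
theorem exists_maxOmega (p : ℕ) :
    ∃ Q : Subgroup P, IsMinimalCentrallyLarge Q ∧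
      Nat.card ↥(omegaOneCenter p Q) = maxOmegaCenterOfMinimalCL p P := by
  obtain ⟨R, hR⟩ := exists_isCentrallyLarge (G := P)
  obtain ⟨Q, -, hQ⟩ := exists_minimalCentrallyLarge_le hR
  exact Nat.sSup_mem (s := {k : ℕ | ∃ Q : Subgroup P, IsMinimalCentrallyLarge Q ∧
      Nat.card ↥(omegaOneCenter p Q) = k}) ⟨_, Q, hQ, rfl⟩
    (Set.Finite.bddAbove ((Set.finite_range fun Q : Subgroup P =>
      Nat.card ↥(omegaOneCenter p Q)).subset (by rintro _ ⟨Q, -, rfl⟩; exact ⟨Q, rfl⟩)))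

/-- The Frattini subgroup of a minimal centrally large subgroup with `Ω₁` of the centre of largest
order is that of one inside `R`. -/
theorem exists_good_le (hP : IsPGroup p P) {R : Subgroup P} (hR : IsCentrallyLarge R)
    (hV : centralizer (R : Set P) = omegaOne p (centralizer (R : Set P)) ⊔ center P)
    {Q : Subgroup P} (hQ : IsMinimalCentrallyLarge Q)
    (hgood : Nat.card ↥(omegaOneCenter p Q) = maxOmegaCenterOfMinimalCL p P) :
    ∃ Q' : Subgroup P, IsMinimalCentrallyLarge Q' ∧ Q' ≤ R ∧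
      Nat.card ↥(omegaOneCenter p Q') = maxOmegaCenterOfMinimalCL p P ∧
      (frattini ↥Q).map Q.subtype = (frattini ↥Q').map Q'.subtype := by
  obtain ⟨hQ1, hQ2⟩ := isCentrallyLarge_iff.mp hQ.1
  obtain ⟨hR1, hR2⟩ := isCentrallyLarge_iff.mp hR
  obtain ⟨hQd, hQc⟩ := inf_centralizer_le_centralizer hQ hR
  obtain ⟨-, -, hD1, hprod, hCD⟩ := large_sup_inf hQ1 hR1
  set Z := centralizer (Q : Set P) with hZ
  set V := centralizer (R : Set P) with hVdef
  set D := Q ⊓ R with hD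
  have hVV : V ≤ centralizer (V : Set P) :=
    centralizer_le (show (V : Set P) ⊆ R from hR2)
  have hZZ : Z ≤ centralizer (Z : Set P) := centralizer_le (show (Z : Set P) ⊆ Q from hQ2)
  have hZD : Z ≤ centralizer (D : Set P) := centralizer_le (inf_le_left (a := Q) (b := R))
  have hVD : V ≤ centralizer (D : Set P) := centralizer_le (inf_le_right (a := Q) (b := R))
  have eDV : D ⊓ V = Z ⊓ V :=
    le_antisymm (le_inf (fun x hx => hQc ⟨hx.1.1, hx.2⟩) inf_le_right)
      (le_inf (le_inf (inf_le_left.trans hQ2) (inf_le_right.trans hR2)) inf_le_right)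
  have eDZ : D ⊓ Z = Z ⊓ R :=
    le_antisymm (le_inf inf_le_right (inf_le_left.trans inf_le_right))
      (le_inf (le_inf (inf_le_left.trans hQ2) inf_le_right) inf_le_left)
  have pDV := card_sup_mul_card_inf_of_coe D V
    (coe_sup_swap (coe_sup_eq_mul_of_le_centralizer hVD))
  have pDZ := card_sup_mul_card_inf_of_coe D Z
    (coe_sup_swap (coe_sup_eq_mul_of_le_centralizer hZD))
  rw [eDV] at pDV
  rw [eDZ, show D ⊔ Z = Q from hQd] at pDZ
  have pZV := card_sup_mul_card_inf_of_coe Z V hprod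
  have hfD : Nat.card D * Nat.card ↥(Z ⊔ V) = maxCentralizerProduct P := by
    rw [← hCD]; exact hD1
  have hfQ : Nat.card Q * Nat.card Z = maxCentralizerProduct P := hQ1
  -- `|V : Z ∩ V| = |Z : Z ∩ R|`
  have hidx : Nat.card V * Nat.card ↥(Z ⊓ R) = Nat.card Z * Nat.card ↥(Z ⊓ V) := by
    refine Nat.eq_of_mul_eq_mul_left (mul_pos (Nat.card_pos (α := D)) (Nat.card_pos (α := Z))) ?_
    calc Nat.card D * Nat.card Z * (Nat.card V * Nat.card ↥(Z ⊓ R))
        = Nat.card D * (Nat.card Z * Nat.card V) * Nat.card ↥(Z ⊓ R) := by ring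
      _ = Nat.card D * Nat.card ↥(Z ⊔ V) * Nat.card ↥(Z ⊓ V) * Nat.card ↥(Z ⊓ R) := by
          rw [← pZV]; ring
      _ = (Nat.card Q * Nat.card ↥(Z ⊓ R)) * (Nat.card Z * Nat.card ↥(Z ⊓ V)) := by
          rw [hfD, ← hfQ]; ring
      _ = _ := by rw [pDZ]
  set Q' := D ⊔ V with hQ'
  have hCQ' : centralizer (Q' : Set P) = (Z ⊔ V) ⊓ R := by
    rw [hQ', centralizer_sup_eq, hCD, (large_centralizer hR1).2]
  have hcl : IsCentrallyLarge Q' := by
    refine isCentrallyLarge_iff.mpr ⟨(large_sup_inf hD1 (large_centralizer hR1).1).2.1, ?_⟩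
    rw [hCQ']
    intro x hx
    obtain ⟨z, hz, v, hv, rfl⟩ := hprod.le hx.1
    exact mul_mem (mem_sup_left ⟨hQ2 hz, (mul_mem_cancel_right (hR2 hv)).mp hx.2⟩)
      (mem_sup_right hv)
  have hcard : Nat.card Q' = Nat.card Q := by
    refine Nat.eq_of_mul_eq_mul_right
      (mul_pos (Nat.card_pos (α := ↥(Z ⊓ V))) (Nat.card_pos (α := ↥(Z ⊓ R)))) ?_
    calc Nat.card Q' * (Nat.card ↥(Z ⊓ V) * Nat.card ↥(Z ⊓ R))
        = Nat.card D * (Nat.card V * Nat.card ↥(Z ⊓ R)) := by rw [← mul_assoc, pDV]; ring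
      _ = Nat.card D * Nat.card Z * Nat.card ↥(Z ⊓ V) := by rw [hidx]; ring
      _ = _ := by rw [← pDZ]; ring
  have hmin : IsMinimalCentrallyLarge Q' := minimalCentrallyLarge_of_card_le hQ hcl hcard.le
  have hQ'R : Q' ≤ R := sup_le inf_le_right hR2
  -- the `Ω₁`-count
  set Z₁ := omegaOne p Z with hZ₁
  set V₁ := omegaOne p V with hV₁
  have heZ : IsElementaryAbelian p Z₁ :=
    PLocal.isElementaryAbelian_omegaOne (le_centralizer_iff_isMulCommutative.mp hZZ)
  have heV : IsElementaryAbelian p V₁ :=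
    PLocal.isElementaryAbelian_omegaOne (le_centralizer_iff_isMulCommutative.mp hVV)
  have hgoodZ : Nat.card Z₁ = maxOmegaCenterOfMinimalCL p P := by
    rw [← hgood]
    unfold omegaOneCenter
    rw [inf_eq_right.mpr hQ2]
  have hcen : center P ≤ Z ⊓ V := le_inf (center_le_centralizer _) (center_le_centralizer _)
  have hVsup : (Z ⊓ V) ⊔ V₁ = V :=
    le_antisymm (sup_le inf_le_right (PLocal.omegaOne_le p V))
      (hV.le.trans (sup_le le_sup_right (hcen.trans le_sup_left)))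
  have e1 : (Z ⊓ V) ⊓ V₁ = Z₁ ⊓ V₁ :=
    le_antisymm (le_inf (fun x hx => PLocal.mem_omegaOne hx.1.1 (heV.2 x hx.2)) inf_le_right)
      (le_inf (le_inf (inf_le_left.trans (PLocal.omegaOne_le p Z))
        (inf_le_right.trans (PLocal.omegaOne_le p V))) inf_le_right)
  have hprodV : ∀ A B : Subgroup P, A ≤ centralizer (B : Set P) →
      Nat.card ↥(A ⊔ B) * Nat.card ↥(A ⊓ B) = Nat.card A * Nat.card B :=
    fun A B h => card_sup_mul_card_inf_of_coe A B (coe_sup_eq_mul_of_le_centralizer h)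
  have q1 := hprodV (Z ⊓ V) V₁ (inf_le_right.trans
    (hVV.trans (centralizer_le (PLocal.omegaOne_le p V))))
  rw [hVsup, e1] at q1
  set W := (Z₁ ⊓ R) ⊔ V₁ with hW
  have e2 : (Z₁ ⊓ R) ⊓ V₁ = Z₁ ⊓ V₁ :=
    le_antisymm (inf_le_inf_right _ inf_le_left) (le_inf
      (le_inf inf_le_left (inf_le_right.trans ((PLocal.omegaOne_le p V).trans hR2))) inf_le_right)
  have hRV₁ : R ≤ centralizer (V₁ : Set P) :=
    le_centralizer_iff.mp (PLocal.omegaOne_le p V)
  have q2 := hprodV (Z₁ ⊓ R) V₁ (inf_le_right.trans hRV₁)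
  rw [e2] at q2
  have e3 : (Z ⊓ R) ⊓ Z₁ = Z₁ ⊓ R :=
    le_antisymm (le_inf inf_le_right (inf_le_left.trans inf_le_right))
      (le_inf (le_inf (inf_le_left.trans (PLocal.omegaOne_le p Z)) inf_le_right) inf_le_left)
  have q3 := hprodV (Z ⊓ R) Z₁ (inf_le_left.trans
    (hZZ.trans (centralizer_le (PLocal.omegaOne_le p Z))))
  rw [e3] at q3
  set U := (Z ⊓ R) ⊔ Z₁ with hU
  have hUZ : U ≤ Z := sup_le inf_le_left (PLocal.omegaOne_le p Z)
  have hWC : W ≤ omegaOne p (centralizer (Q' : Set P)) := by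
    rw [hCQ']
    refine sup_le (fun x hx => PLocal.mem_omegaOne ?_ (heZ.2 x hx.1))
      (fun x hx => PLocal.mem_omegaOne ?_ (heV.2 x hx))
    · exact ⟨mem_sup_left (PLocal.omegaOne_le p Z hx.1), hx.2⟩
    · exact ⟨mem_sup_right (PLocal.omegaOne_le p V hx), hR2 (PLocal.omegaOne_le p V hx)⟩
  have hQ'c : omegaOneCenter p Q' = omegaOne p (centralizer (Q' : Set P)) := by
    unfold omegaOneCenter
    rw [inf_eq_right.mpr (isCentrallyLarge_iff.mp hcl).2]
  have hWle : Nat.card W ≤ Nat.card Z₁ :=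
    hgoodZ ▸ ((card_le_of_le hWC).trans (hQ'c ▸ le_maxOmegaCenterOfMinimalCL hmin))
  have hWU : Nat.card W * Nat.card U = Nat.card Z₁ * Nat.card Z := by
    refine Nat.eq_of_mul_eq_mul_right (mul_pos (mul_pos (Nat.card_pos (α := ↥(Z₁ ⊓ V₁)))
      (Nat.card_pos (α := ↥(Z₁ ⊓ R)))) (Nat.card_pos (α := ↥(Z ⊓ V)))) ?_
    calc Nat.card W * Nat.card U * (Nat.card ↥(Z₁ ⊓ V₁) * Nat.card ↥(Z₁ ⊓ R) * Nat.card ↥(Z ⊓ V))
        = (Nat.card W * Nat.card ↥(Z₁ ⊓ V₁)) * (Nat.card U * Nat.card ↥(Z₁ ⊓ R)) *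
            Nat.card ↥(Z ⊓ V) := by ring
      _ = Nat.card ↥(Z₁ ⊓ R) * (Nat.card ↥(Z ⊓ V) * Nat.card V₁) * Nat.card Z₁ *
            Nat.card ↥(Z ⊓ R) := by rw [q2, q3]; ring
      _ = Nat.card ↥(Z₁ ⊓ R) * Nat.card ↥(Z₁ ⊓ V₁) * Nat.card Z₁ *
            (Nat.card V * Nat.card ↥(Z ⊓ R)) := by rw [← q1]; ring
      _ = _ := by rw [hidx]; ring
  have hUeq : U = Z := by
    refine eq_of_le_of_card_ge hUZ (Nat.le_of_mul_le_mul_left ?_ (Nat.card_pos (α := Z₁)))
    exact hWU.ge.trans (Nat.mul_le_mul_right _ hWle)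
  have hWeq : Nat.card W = Nat.card Z₁ := by
    rw [hUeq] at hWU
    exact Nat.eq_of_mul_eq_mul_right Nat.card_pos hWU
  refine ⟨Q', hmin, hQ'R, le_antisymm (le_maxOmegaCenterOfMinimalCL hmin) ?_, ?_⟩
  · rw [← hgoodZ, ← hWeq, hQ'c]
    exact card_le_of_le hWC
  · have eQ : Q = D ⊔ Z₁ := by
      refine le_antisymm ?_ (sup_le inf_le_left ((PLocal.omegaOne_le p Z).trans hQ2))
      conv_lhs => rw [← hQd]
      refine sup_le le_sup_left (hUeq.ge.trans (sup_le ?_ le_sup_right))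
      exact (le_inf (inf_le_left.trans hQ2) inf_le_right).trans le_sup_left
    have eQ' : Q' = D ⊔ V₁ := by
      refine le_antisymm (sup_le le_sup_left ?_) (sup_le_sup_left (PLocal.omegaOne_le p V) D)
      rw [hV]
      exact sup_le le_sup_right
        ((le_inf (hcen.trans (inf_le_left.trans hQ2)) (hcen.trans (inf_le_right.trans hR2))).trans
          le_sup_left)
    rw [eQ', eQ, map_frattini_sup hP ((PLocal.omegaOne_le p Z).trans hZD) heZ,
      map_frattini_sup hP ((PLocal.omegaOne_le p V).trans hVD) heV]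

end CfsgLib.LocalEven50
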