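import Cfsg.Agent.LocalEven50.HSubgroups
import Cfsg.Agent.Solvable.Frattini
import Cfsg.Agent.Transfer.Residual
import Cfsg.Agent.Transfer.Frobenius
import Cfsg.Agent.Transfer.Fusion
import Cfsg.Agent.Transfer.Tate
import Cfsg.Agent.Transfer.NormalPComplement

/-!
# H-subgroups of one fixed order give a normal `p`-complement

If `p` is the smallest prime divisor of `|G|`, the Sylow `p`-subgroup has order above `d > 1`, and
all `p`-subgroups of order `d` (and of order `4` when `d = 2`) are H-subgroups, then `G` has a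
normal `p`-complement.

The proof: for `d = p` Frobenius' criterion applies. If some element has order above `d`, the
subgroup `Z` of order `p` of a cyclic subgroup of order `d` is weakly closed, and one passes to
`N(Z)` or to `G / Z`. Otherwise conjugation inside a Sylow subgroup `P` is trivial modulo `Φ(P)`
and Tate's theorem applies.
-/

namespace CfsgLib.LocalEven50

open Subgroup Pointwise
open scoped commutatorElement

variable {G : Type*} [Group G] {p : ℕ}

theorem exists_le_card_pow [Finite G] [Fact p.Prime] {X M : Subgroup G} {i n : ℕ} (hXM : X ≤ M)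
    (hM : IsPGroup p M) (hX : Nat.card X = p ^ i) (hin : i ≤ n) (hn : p ^ n ≤ Nat.card M) :
    ∃ E : Subgroup G, X ≤ E ∧ E ≤ M ∧ Nat.card E = p ^ n := by
  obtain ⟨e, he⟩ := IsPGroup.iff_card.mp hM
  have hdvd : p ^ n ∣ Nat.card M := by
    rw [he] at hn ⊢
    exact pow_dvd_pow _ ((Nat.pow_le_pow_iff_right (Fact.out : p.Prime).one_lt).1 hn)
  obtain ⟨K, hK, hXK⟩ := Sylow.exists_subgroup_card_pow_prime_le p hdvd (X.subgroupOf M)
    ((Nat.card_congr (subgroupOfEquivOfLe hXM).toEquiv).trans hX) hin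
  exact ⟨K.map M.subtype, fun x hx => ⟨⟨x, hXM hx⟩, hXK (mem_subgroupOf.mpr hx), rfl⟩,
    map_subtype_le _, (card_map_of_injective M.subtype_injective).trans hK⟩

theorem coprime_pred_of_min [Finite G] [Fact p.Prime]
    (hmin : ∀ q : ℕ, q.Prime → q ∣ Nat.card G → p ≤ q) (g : G) :
    (orderOf g).Coprime (p - 1) := by
  refine Nat.coprime_of_dvd fun q hq hq1 hq2 => ?_
  have h1 := hmin q hq (hq1.trans (orderOf_dvd_natCard g))
  have h2 : q ≤ p - 1 := Nat.le_of_dvd (by have := (Fact.out : p.Prime).two_le; omega) hq2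
  have := (Fact.out : p.Prime).two_le
  omega

theorem hypotheses_subgroup [Finite G] [Fact p.Prime]
    (hmin : ∀ q : ℕ, q.Prime → q ∣ Nat.card G → p ≤ q) (H : Subgroup G) :
    ∀ q : ℕ, q.Prime → q ∣ Nat.card H → p ≤ q :=
  fun q hq hd => hmin q hq (hd.trans (card_subgroup_dvd_card H))

/-- The case `d = p`. -/
theorem hasNormalPComplement_of_allHSub_prime [Finite G] [Fact p.Prime]
    (hmin : ∀ q : ℕ, q.Prime → q ∣ Nat.card G → p ≤ q) (h : AllHSub p p G) :
    Cfsg.HasNormalPComplement p G := by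
  refine Transfer.hasNormalPComplement_of_local default fun R hR g hg hgp => ?_
  have hRp := (default : Sylow p G).2.to_le hR
  refine fun x hx => (commute_of_fix_small hRp hgp hg (fun y hy hy' => ?_) x hx).symm.eq
  obtain ⟨i, hi⟩ := IsPGroup.iff_orderOf.mp hRp ⟨y, hy⟩
  rw [Subgroup.orderOf_mk] at hi
  rcases Nat.eq_zero_or_pos i with rfl | hipos
  · rw [pow_zero, orderOf_eq_one_iff] at hi
    rw [hi]
    exact Commute.one_right g
  have hle : zpowers y ≤ R := zpowers_le.mpr hy
  have hcard : Nat.card (zpowers y) = p ∨ (p = 2 ∧ Nat.card (zpowers y) = 4) := by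
    rw [Nat.card_zpowers]
    rcases hy' with h1 | ⟨rfl, h1⟩
    · refine Or.inl ((((Fact.out : p.Prime).eq_one_or_self_of_dvd _
        (orderOf_dvd_of_pow_eq_one h1))).resolve_left ?_)
      rw [hi]
      exact ((Nat.one_lt_pow hipos.ne' (Fact.out : p.Prime).one_lt)).ne'
    · have h2 : orderOf y ∣ 2 ^ 2 := orderOf_dvd_of_pow_eq_one h1
      rw [hi, Nat.pow_dvd_pow_iff_le_right (by norm_num)] at h2
      rcases (by omega : i = 1 ∨ i = 2) with rfl | rfl
      · exact Or.inl (by rw [hi, pow_one])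
      · exact Or.inr ⟨rfl, by rw [hi]; norm_num⟩
  refine commute_of_normalizes_pElement hi ?_ hgp (coprime_pred_of_min hmin g)
  exact (h _ (hRp.to_le hle) hcard).conj_mem_of_isPGroup hRp hle (mem_zpowers y)
    ((mem_normalizer_iff.mp hg y).mp hy)

/-- The case of a central subgroup `Z` of order `p`, with `d = p ^ 2`. -/
theorem hasNormalPComplement_of_allHSub_sq [Finite G] [Fact p.Prime]
    (hmin : ∀ q : ℕ, q.Prime → q ∣ Nat.card G → p ≤ q) (h : AllHSub p (p ^ 2) G)
    {Z : Subgroup G} (hZ : Nat.card Z = p) (hZc : Z ≤ center G) :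
    Cfsg.HasNormalPComplement p G := by
  haveI hZn : Z.Normal := ⟨fun z hz g => by
    rw [mem_center_iff.mp (hZc hz) g, mul_inv_cancel_right]; exact hz⟩
  refine Transfer.hasNormalPComplement_of_local default fun R hR g hg hgp => ?_
  have hRp := (default : Sylow p G).2.to_le hR
  have hZp : IsPGroup p Z := IsPGroup.of_card (n := 1) (by rw [hZ, pow_one])
  have hR' : IsPGroup p ↥(R ⊔ Z) := hRp.to_sup_of_normal_right hZp
  have hg' : g ∈ normalizer ((R ⊔ Z : Subgroup G) : Set G) := by
    rw [mem_normalizer_iff_map_conj_eq] at hg ⊢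
    have hZg : g ∈ normalizer (Z : Set G) := by
      rw [normalizer_eq_top_iff.mpr hZn]; trivial
    exact (Subgroup.map_sup R Z _).trans
      (congrArg₂ (· ⊔ ·) hg (mem_normalizer_iff_map_conj_eq.mp hZg))
  have hgc : ∀ z ∈ Z, Commute g z := fun z hz => mem_center_iff.mp (hZc hz) g
  refine fun x hx => (commute_of_fix_small hR' hgp hg' (fun y hy hy' => ?_) x
    (mem_sup_left hx)).symm.eq
  obtain ⟨i, hi⟩ := IsPGroup.iff_orderOf.mp hR' ⟨y, hy⟩
  rw [Subgroup.orderOf_mk] at hi
  have hco := coprime_pred_of_min hmin g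
  have hyi : i ≤ 2 := by
    have h2 : orderOf y ∣ p ^ 2 := by
      rcases hy' with h1 | ⟨rfl, h1⟩
      · exact (orderOf_dvd_of_pow_eq_one h1).trans (dvd_pow_self p two_ne_zero)
      · exact orderOf_dvd_of_pow_eq_one h1
    rw [hi, Nat.pow_dvd_pow_iff_le_right (Fact.out : p.Prime).one_lt] at h2
    exact h2
  by_cases hyZ : y ∈ Z
  · exact hgc y hyZ
  by_cases hi2 : i = 2
  · subst hi2
    refine commute_of_normalizes_pElement hi ?_ hgp hco
    have hle : zpowers y ≤ R ⊔ Z := zpowers_le.mpr hy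
    exact (h _ (hR'.to_le hle) (Or.inl (by rw [Nat.card_zpowers, hi]))).conj_mem_of_isPGroup hR' hle
      (mem_zpowers y) ((mem_normalizer_iff.mp hg' y).mp hy)
  · have hi1 : i = 1 := by
      rcases (by omega : i = 0 ∨ i = 1) with rfl | rfl
      · rw [pow_zero, orderOf_eq_one_iff] at hi
        exact absurd (hi ▸ Z.one_mem) hyZ
      · rfl
    subst hi1
    rw [pow_one] at hi
    set E := zpowers y ⊔ Z with hE
    have hEle : E ≤ R ⊔ Z := sup_le (zpowers_le.mpr hy) le_sup_right
    have hEc : Nat.card E = p ^ 2 := by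
      have h1 := card_sup_mul_card_inf (zpowers y) Z
      have h2 : Nat.card ↥(zpowers y ⊓ Z) = 1 := by
        rcases (Fact.out : p.Prime).eq_one_or_self_of_dvd _
          (hi ▸ Nat.card_zpowers y ▸ card_dvd_of_le (inf_le_left : zpowers y ⊓ Z ≤ zpowers y))
          with h3 | h3
        · exact h3
        · exfalso
          have h4 : zpowers y ⊓ Z = zpowers y :=
            eq_of_le_of_card_ge inf_le_left (by rw [Nat.card_zpowers, hi, h3])
          exact hyZ ((inf_eq_left.mp h4) (mem_zpowers y))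
      rw [h2, mul_one, Nat.card_zpowers, hi, hZ] at h1
      rw [hE, h1, pow_two]
    have hgy : g * y * g⁻¹ ∈ E :=
      (h _ (hR'.to_le hEle) (Or.inl hEc)).conj_mem_of_isPGroup hR' hEle
        (mem_sup_left (mem_zpowers y)) ((mem_normalizer_iff.mp hg' y).mp hy)
    -- commutation modulo `Z`
    have h5 : QuotientGroup.mk' Z (g * y * g⁻¹) ∈ zpowers (QuotientGroup.mk' Z y) := by
      have := mem_map_of_mem (QuotientGroup.mk' Z) hgy
      rwa [hE, Subgroup.map_sup, QuotientGroup.map_mk'_self, sup_bot_eq,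
        MonoidHom.map_zpowers] at this
    have h6 : Commute (QuotientGroup.mk' Z g) (QuotientGroup.mk' Z y) := by
      refine commute_of_normalizes_zpowers ?_ ?_
      · simpa only [map_mul, map_inv] using h5
      · refine Nat.Coprime.coprime_dvd_left (orderOf_map_dvd _ g) ?_
        obtain ⟨j, -, hj⟩ := (Nat.dvd_prime_pow (Fact.out : p.Prime)).mp
          (show orderOf (QuotientGroup.mk' Z y) ∣ p ^ 1 by
            rw [pow_one, ← hi]; exact orderOf_map_dvd _ y)
        rw [hj]
        exact coprime_totient_pow hgp hco j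
    have h7 : ⁅g, y⁆ ∈ Z := by
      have := (commutatorElement_eq_one_iff_commute.mpr h6)
      rw [← map_commutatorElement] at this
      exact (QuotientGroup.eq_one_iff _).mp this
    refine OddOrder.Stab.commute_of_stab_mem (hgc _ h7) h7 ?_
    rw [hZ]
    exact hgp

/-- A normal `p`-complement lifts over a central subgroup of order `p`. -/
theorem hasNormalPComplement_of_central_quotient [Finite G] [Fact p.Prime] {Z : Subgroup G}
    [Z.Normal] (hZ : Nat.card Z = p) (hZc : Z ≤ center G)
    (h : Cfsg.HasNormalPComplement p (G ⧸ Z)) : Cfsg.HasNormalPComplement p G := by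
  rw [Transfer.hasNormalPComplement_iff] at h ⊢
  set K := Cfsg.pResidual p G with hK
  intro hdvd
  set f := QuotientGroup.mk' Z
  -- `|K|` is `|K ⊓ Z|` times a number prime to `p`
  have h1 := card_mul_index ((K ⊓ Z).subgroupOf K)
  have h2 : ((K ⊓ Z).subgroupOf K).index = Nat.card ↥(K.map f) := by
    rw [inf_subgroupOf_left, ← MonoidHom.domRestrict_range, ← index_ker,
      MonoidHom.ker_domRestrict, QuotientGroup.ker_mk']
  rw [Transfer.map_pResidual_of_surjective f (QuotientGroup.mk'_surjective Z)] at h2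
  rw [h2, Nat.card_congr (subgroupOfEquivOfLe (inf_le_left : K ⊓ Z ≤ K)).toEquiv] at h1
  have hZK : Nat.card ↥(K ⊓ Z) = p := by
    rcases (Fact.out : p.Prime).eq_one_or_self_of_dvd _
      (hZ ▸ card_dvd_of_le (inf_le_right : K ⊓ Z ≤ Z)) with h3 | h3
    · rw [h3, one_mul] at h1
      exact absurd (h1 ▸ hdvd) h
    · exact h3
  -- so `Z ⊓ K` is a central Sylow subgroup of `K`
  set S := (K ⊓ Z).subgroupOf K with hS
  have hSp : IsPGroup p S := IsPGroup.of_card (n := 1) (by
    rw [Nat.card_congr (subgroupOfEquivOfLe (inf_le_left : K ⊓ Z ≤ K)).toEquiv, hZK, pow_one])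
  have hidx : ¬ p ∣ S.index := by
    rw [hS, inf_subgroupOf_left, ← inf_subgroupOf_left]
    have : ((K ⊓ Z).subgroupOf K).index * Nat.card ↥(K ⊓ Z) = Nat.card K := by
      rw [← Nat.card_congr (subgroupOfEquivOfLe (inf_le_left : K ⊓ Z ≤ K)).toEquiv]
      exact index_mul_card _
    intro h4
    have h5 : ((K ⊓ Z).subgroupOf K).index = Nat.card ↥(Cfsg.pResidual p (G ⧸ Z)) := by
      rw [← h1, mul_comm (Nat.card ↥(K ⊓ Z))] at this
      exact Nat.eq_of_mul_eq_mul_right Nat.card_pos this
    exact h (h5 ▸ h4)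
  let P : Sylow p K := hSp.toSylow hidx
  have hNC : normalizer ((P : Subgroup K) : Set K) ≤ centralizer ((P : Subgroup K) : Set K) := by
    intro x _ y hy
    exact Subtype.ext ((mem_center_iff.mp (hZc (mem_inf.mp (mem_subgroupOf.mp hy)).2) (x : G)).symm)
  have hKc : Cfsg.HasNormalPComplement p K :=
    ⟨P, _, inferInstance, MonoidHom.ker_transferSylow_isComplement' P hNC⟩
  rw [Transfer.hasNormalPComplement_iff, Transfer.pResidual_pResidual, Subgroup.card_top] at hKc
  exact hKc hdvd

/-- Cyclic groups of `p`-power order have one subgroup of order `p`. -/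
theorem mem_zpowers_pow_of_pow_eq_one [Finite G] [Fact p.Prime] {x y : G} {k : ℕ}
    (hx : orderOf x = p ^ (k + 1)) (hy : y ∈ zpowers x) (hyp : y ^ p = 1) :
    y ∈ zpowers (x ^ p ^ k) := by
  obtain ⟨j, rfl⟩ := (isOfFinOrder_of_finite x).mem_powers_iff_mem_zpowers.mpr hy
  simp only at hyp ⊢
  rw [← pow_mul, ← orderOf_dvd_iff_pow_eq_one, hx, pow_succ] at hyp
  obtain ⟨i, rfl⟩ := Nat.dvd_of_mul_dvd_mul_right (Fact.out : p.Prime).pos hyp
  rw [pow_mul]
  exact pow_mem (mem_zpowers _) i

/-- If all elements of `p`-power order have order at most `d`, conjugation inside `P` is trivial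
modulo `Φ(P)`, so `G` has a normal `p`-complement. -/
theorem hasNormalPComplement_of_exponent_le [Finite G] [Fact p.Prime] {k : ℕ}
    (hmin : ∀ q : ℕ, q.Prime → q ∣ Nat.card G → p ≤ q) (h : AllHSub p (p ^ k) G) (P : Sylow p G)
    (hP : p ^ k < Nat.card (P : Subgroup G)) (hexp : ∀ x ∈ (P : Subgroup G), orderOf x ∣ p ^ k) :
    Cfsg.HasNormalPComplement p G := by
  set K := (Transfer.elemResidual p ↥(P : Subgroup G)).map (P : Subgroup G).subtype with hK
  have hmod : ∀ M : Subgroup ↥(P : Subgroup G), IsCoatom M →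
      ∀ (A : Set G) (g : G), Transfer.FusionChain P A g → ∀ a ∈ A, A ⊆ (P : Set G) →
        a⁻¹ * (g⁻¹ * a * g) ∈ M.map (P : Subgroup G).subtype := by
    intro M hM A g hc
    haveI hMn : M.Normal := Solvable.normal_of_coatom P.2 hM
    set M' := M.map (P : Subgroup G).subtype with hM'
    have hM'P : M' ≤ (P : Subgroup G) := map_subtype_le _
    have hcardM : p ^ k ≤ Nat.card M' := by
      rw [hM', card_map_of_injective (P : Subgroup G).subtype_injective]
      obtain ⟨e, he⟩ := IsPGroup.iff_card.mp P.2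
      have h1 := M.card_mul_index
      rw [Solvable.index_coatom P.2 hM, he] at h1
      rw [he] at hP
      have hke : k < e := (Nat.pow_lt_pow_iff_right (Fact.out : p.Prime).one_lt).mp hP
      obtain ⟨e, rfl⟩ : ∃ e', e = e' + 1 := ⟨e - 1, by omega⟩
      rw [Nat.eq_of_mul_eq_mul_right (Fact.out : p.Prime).pos (h1.trans (pow_succ p e))]
      exact Nat.pow_le_pow_right (Fact.out : p.Prime).pos (by omega)
    induction hc with
    | nil A => intro a _ _; simp
    | cons A Q x g hA ht hx _ ih =>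
      intro a ha hAP
      set D := (P : Subgroup G) ⊓ (Q : Subgroup G) with hD
      set N := normalizer (D : Set G) with hN
      -- `N(D)` preserves `D ⊓ M`
      have hinv : ∀ n ∈ N, ∀ b ∈ D, b ∈ M' → n * b * n⁻¹ ∈ M' := by
        intro n hn b hb hbM
        obtain ⟨j, hj, hbj⟩ := (Nat.dvd_prime_pow (Fact.out : p.Prime)).mp (hexp b hb.1)
        obtain ⟨E, hbE, hEM, hEc⟩ := exists_le_card_pow (zpowers_le.mpr hbM) (P.2.to_le hM'P)
          (by rw [Nat.card_zpowers, hbj]) hj hcardM
        exact hEM ((h E (P.2.to_le (hEM.trans hM'P)) (Or.inl hEc)).conj_mem_of_isPGroup P.2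
          (hEM.trans hM'P) (hbE (mem_zpowers b)) ((mem_normalizer_iff.mp hn b).mp hb).1)
      let S : Subgroup N :=
        { carrier := {n | ∀ b ∈ D, b⁻¹ * ((n : G) * b * (n : G)⁻¹) ∈ M'}
          one_mem' := fun b _ => by simp
          mul_mem' := fun {m n} hm hn b hb => by
            have hb' : (n : G) * b * (n : G)⁻¹ ∈ D := (mem_normalizer_iff.mp n.2 b).mp hb
            have := M'.mul_mem (hn b hb) (hm _ hb')
            simpa [mul_assoc] using this
          inv_mem' := fun {n} hn b hb => by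
            have hb' : (n : G)⁻¹ * b * (n : G) ∈ D := (mem_normalizer_iff''.mp n.2 b).mp hb
            have := M'.inv_mem (hn _ hb')
            simpa [mul_assoc] using this }
      suffices hS : S = ⊤ by
        have h1 : a⁻¹ * (x⁻¹ * a * x) ∈ M' := by
          have := (hS.ge (mem_top (⟨x, hx⟩⁻¹ : N))) a (hA ha)
          simpa using this
        have hax : x⁻¹ * a * x ∈ (P : Subgroup G) :=
          ((mem_normalizer_iff''.mp hx a).mp (hA ha)).1
        have h2 := ih (x⁻¹ * a * x) ⟨a, ha, rfl⟩ (by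
          rintro _ ⟨b, hb, rfl⟩
          exact ((mem_normalizer_iff''.mp hx b).mp (hA hb)).1)
        have := M'.mul_mem h1 h2
        simpa [mul_assoc] using this
      let PN : Sylow p N := Sylow.ofCard _ (Transfer.card_subgroupOf_eq P ht.1)
      rw [eq_top_iff, ← Transfer.sylow_sup_pResidual PN]
      refine sup_le ?_ ((closure_le _).mpr ?_)
      · intro y hy b hb
        have hy' : (y : G) ∈ (P : Subgroup G) := mem_subgroupOf.mp hy
        refine ⟨⟨b, hb.1⟩⁻¹ * (⟨y, hy'⟩ * ⟨b, hb.1⟩ * ⟨y, hy'⟩⁻¹), ?_, rfl⟩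
        have := (OddOrder.Stab.frattini_facts P.2).1 (⟨b, hb.1⟩ : ↥(P : Subgroup G))⁻¹ ⟨y, hy'⟩
        refine frattini_le_coatom hM ?_
        convert this using 1
        rw [commutatorElement_def, inv_inv]
        group
      · intro n hn b hb
        have hn' : (orderOf (n : G)).Coprime p := by
          rw [orderOf_coe]; exact hn
        set nb := (n : G) * b * (n : G)⁻¹ with hnb
        have hnbD : nb ∈ D := (mem_normalizer_iff.mp n.2 b).mp hb
        by_cases hbM : b ∈ M'
        · exact M'.mul_mem (M'.inv_mem hbM) (hinv _ n.2 b hb hbM)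
        -- the quotient `D / D ⊓ M` has order dividing `p`
        set L := normalizer (D : Set G) ⊓ normalizer ((D ⊓ M' : Subgroup G) : Set G) with hL
        have hmemL : ∀ m ∈ N, m ∈ L := by
          intro m hm
          refine ⟨hm, ?_⟩
          show m ∈ normalizer ((D ⊓ M' : Subgroup G) : Set G)
          rw [mem_normalizer_iff_map_conj_eq]
          refine eq_of_le_of_card_ge ?_ (card_map_of_injective (MulAut.conj m).injective).ge
          rintro _ ⟨c, ⟨hc1, hc2⟩, rfl⟩
          exact ⟨(mem_normalizer_iff.mp hm c).mp hc1, hinv m hm c hc1 hc2⟩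
        have hbL : b ∈ L := hmemL b (le_normalizer hb)
        haveI : ((D ⊓ M').subgroupOf L).Normal :=
          normal_subgroupOf_of_le_normalizer inf_le_right
        set f := QuotientGroup.mk' ((D ⊓ M').subgroupOf L) with hf
        have hMp : ∀ c ∈ (P : Subgroup G), c ^ p ∈ M' := fun c hc =>
          ⟨⟨c, hc⟩ ^ p, by
            have := pow_index_mem M (⟨c, hc⟩ : ↥(P : Subgroup G))
            rwa [Solvable.index_coatom P.2 hM] at this, rfl⟩
        have hfb : f ⟨b, hbL⟩ ≠ 1 := fun h1 =>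
          hbM (mem_subgroupOf.mp ((QuotientGroup.eq_one_iff _).mp h1)).2
        have hordb : orderOf (f ⟨b, hbL⟩) = p := by
          refine orderOf_eq_prime ?_ hfb
          rw [← map_pow]
          exact (QuotientGroup.eq_one_iff _).mpr
            (mem_subgroupOf.mpr ⟨D.pow_mem hb p, hMp b hb.1⟩)
        have hgen : zpowers (⟨b, hb.1⟩ : ↥(P : Subgroup G)) ⊔ M = ⊤ := by
          refine hM.2 _ (lt_of_le_of_ne le_sup_right fun h1 => hbM ⟨⟨b, hb.1⟩, ?_, rfl⟩)
          exact h1.ge (mem_sup_left (mem_zpowers _))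
        have hcyc : f ⟨n, hmemL n n.2⟩ * f ⟨b, hbL⟩ * (f ⟨n, hmemL n n.2⟩)⁻¹ ∈
            zpowers (f ⟨b, hbL⟩) := by
          obtain ⟨u, hu, v, hv, huv⟩ : (⟨nb, hnbD.1⟩ : ↥(P : Subgroup G)) ∈
              (zpowers (⟨b, hb.1⟩ : ↥(P : Subgroup G)) : Set ↥(P : Subgroup G)) *
              (M : Set ↥(P : Subgroup G)) := by
            rw [← mul_normal, hgen]
            exact mem_top _
          obtain ⟨z, rfl⟩ := mem_zpowers_iff.mp hu
          refine mem_zpowers_iff.mpr ⟨z, ?_⟩
          rw [← map_zpow, ← map_inv, ← map_mul, ← map_mul]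
          apply QuotientGroup.eq.mpr
          rw [mem_subgroupOf]
          have he : b ^ z * (v : G) = nb := congrArg Subtype.val huv
          show (b ^ z)⁻¹ * nb ∈ D ⊓ M'
          refine ⟨D.mul_mem (D.inv_mem (zpow_mem hb z)) hnbD, ?_⟩
          rw [← he, inv_mul_cancel_left]
          exact mem_map_of_mem _ hv
        have hcomm : Commute (f ⟨n, hmemL n n.2⟩) (f ⟨b, hbL⟩) := by
          refine commute_of_normalizes_zpowers hcyc ?_
          refine Nat.Coprime.coprime_dvd_left
            ((orderOf_map_dvd f _).trans (dvd_of_eq (Subgroup.orderOf_mk _ _))) ?_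
          rw [hordb, ← pow_one p]
          exact coprime_totient_pow hn' (coprime_pred_of_min hmin _) 1
        have h7 : (⟨b, hbL⟩ : L)⁻¹ * (⟨n, hmemL n n.2⟩ * ⟨b, hbL⟩ * ⟨n, hmemL n n.2⟩⁻¹) ∈
            (D ⊓ M').subgroupOf L := by
          rw [← QuotientGroup.eq]
          show f _ = f _
          rw [map_mul, map_mul, map_inv, hcomm.eq, mul_inv_cancel_right]
        exact (mem_subgroupOf.mp h7).2
  have hfoc : ∀ a : G, a ∈ (P : Subgroup G) → ∀ g : G, g⁻¹ * a * g ∈ (P : Subgroup G) →
      a⁻¹ * (g⁻¹ * a * g) ∈ K := by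
    intro a ha g hg
    have hc := Transfer.exists_fusionChain P (A := {a}) (g := g) (Set.singleton_subset_iff.mpr ha)
      (by rw [Set.image_singleton]; exact Set.singleton_subset_iff.mpr hg)
    refine ⟨⟨a, ha⟩⁻¹ * ⟨g⁻¹ * a * g, hg⟩, ?_, rfl⟩
    have hΦ : frattini ↥(P : Subgroup G) ≤ Transfer.elemResidual p ↥(P : Subgroup G) :=
      Solvable.frattini_le_of_elementary le_sup_left
        (fun x => mem_sup_right (subset_closure ⟨x, rfl⟩))
    refine hΦ (Solvable.mem_frattini_iff.mpr fun M hM => ?_)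
    obtain ⟨w, hw, hwe⟩ := hmod M hM {a} g hc a rfl (Set.singleton_subset_iff.mpr ha)
    rwa [show (⟨a, ha⟩ : ↥(P : Subgroup G))⁻¹ * ⟨g⁻¹ * a * g, hg⟩ = w from Subtype.ext hwe.symm]
  rw [Transfer.hasNormalPComplement_iff_sylow_inf P]
  have hT := Transfer.tate_of_elemResidual P (H := (P : Subgroup G)) le_rfl ?_
  · rw [hT, Transfer.pResidual_eq_bot_of_isPGroup P.2, Subgroup.map_bot]
  · refine (Transfer.sylow_inf_elemResidual_le P).trans (sup_le ?_ ?_)
    · rw [focalSubgroup_def, closure_le]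
      rintro _ ⟨hmem, x, hx, u, rfl⟩
      have h1 : u⁻¹⁻¹ * x⁻¹ * u⁻¹ ∈ (P : Subgroup G) := by
        have := (P : Subgroup G).mul_mem ((P : Subgroup G).inv_mem hx) hmem
        simpa [commutatorElement_def, mul_assoc] using this
      have := hfoc x⁻¹ ((P : Subgroup G).inv_mem hx) u⁻¹ h1
      rwa [show x⁻¹⁻¹ * (u⁻¹⁻¹ * x⁻¹ * u⁻¹) = ⁅x, u⁆ by
        rw [commutatorElement_def]; group] at this
    · rw [closure_le]
      rintro _ ⟨y, hy, rfl⟩
      exact ⟨⟨y, hy⟩ ^ p, mem_sup_right (subset_closure ⟨⟨y, hy⟩, rfl⟩), rfl⟩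

universe u

/-- The main theorem on H-subgroups of one fixed order. -/
theorem hasNormalPComplement_of_allHSub [Fact p.Prime] (n : ℕ) :
    ∀ (G : Type u) [Group G] [Finite G], Nat.card G = n →
      (∀ q : ℕ, q.Prime → q ∣ Nat.card G → p ≤ q) → ∀ k : ℕ, 1 ≤ k → AllHSub p (p ^ k) G →
      ∀ P : Sylow p G, p ^ k < Nat.card (P : Subgroup G) → Cfsg.HasNormalPComplement p G := by
  induction n using Nat.strong_induction_on with
  | _ n ih =>
  intro G _ _ hn hmin k hk h P hP
  have hp := (Fact.out : p.Prime)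
  by_cases hk1 : k = 1
  · subst hk1
    exact hasNormalPComplement_of_allHSub_prime hmin (by rwa [pow_one] at h)
  by_cases hexp : ∀ x ∈ (P : Subgroup G), orderOf x ∣ p ^ k
  · exact hasNormalPComplement_of_exponent_le hmin h P hP hexp
  push Not at hexp
  obtain ⟨x, hx, hxk⟩ := hexp
  obtain ⟨i, hi⟩ := IsPGroup.iff_orderOf.mp P.2 ⟨x, hx⟩
  rw [Subgroup.orderOf_mk] at hi
  have hki : k ≤ i := by
    by_contra hc
    exact hxk (hi ▸ pow_dvd_pow p (by omega))
  obtain ⟨k', rfl⟩ : ∃ k', k = k' + 1 := ⟨k - 1, by omega⟩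
  set y := x ^ p ^ (i - (k' + 1)) with hy
  have hyo : orderOf y = p ^ (k' + 1) := by
    rw [hy, orderOf_pow' x (pow_ne_zero _ hp.ne_zero), hi,
      Nat.gcd_eq_right (pow_dvd_pow p (by omega)), Nat.pow_div (by omega) hp.pos]
    congr 1
    omega
  have hyP : y ∈ (P : Subgroup G) := (P : Subgroup G).pow_mem hx _
  set z := y ^ p ^ k' with hz
  have hzo : orderOf z = p := by
    rw [hz, orderOf_pow' y (pow_ne_zero _ hp.ne_zero), hyo,
      Nat.gcd_eq_right (pow_dvd_pow p (by omega)), Nat.pow_div (by omega) hp.pos]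
    simp
  have hzP : z ∈ (P : Subgroup G) := (P : Subgroup G).pow_mem hyP _
  set Z := zpowers z with hZdef
  have hZc : Nat.card Z = p := by rw [hZdef, Nat.card_zpowers, hzo]
  have hE : IsHSub (zpowers y) :=
    h _ (P.2.to_le (zpowers_le.mpr hyP)) (Or.inl (by rw [Nat.card_zpowers, hyo]))
  -- every conjugate of `z` in `P` lies in `Z`
  have hcl : ∀ g : G, g * z * g⁻¹ ∈ (P : Subgroup G) → g * z * g⁻¹ ∈ Z := by
    intro g hg
    have h1 := hE.conj_mem_of_isPGroup P.2 (zpowers_le.mpr hyP) (pow_mem (mem_zpowers y) _) hg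
    refine mem_zpowers_pow_of_pow_eq_one hyo h1 ?_
    rw [conj_pow, ← hzo, pow_orderOf_eq_one, mul_one, mul_inv_cancel]
  have hwc : Cfsg.IsWeaklyClosed Z (P : Subgroup G) := by
    refine ⟨zpowers_le.mpr hzP, fun g hg => eq_of_le_of_card_ge ?_
      (card_map_of_injective (MulAut.conj g).injective).ge⟩
    have h1 : g * z * g⁻¹ ∈ Z := hcl g (hg ⟨z, mem_zpowers z, rfl⟩)
    rw [hZdef, MonoidHom.map_zpowers]
    exact zpowers_le.mpr h1
  have hcop1 : ∀ g : G, Commute g z ↔ g * z * g⁻¹ ∈ Z := by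
    intro g
    refine ⟨fun hc => ?_, fun hc => commute_of_normalizes_zpowers hc ?_⟩
    · rw [hc.eq, mul_inv_cancel_right]; exact mem_zpowers z
    · rw [hzo, Nat.totient_prime hp]
      exact coprime_pred_of_min hmin g
  have hZcP : Z ≤ centralizer ((P : Subgroup G) : Set G) := by
    refine zpowers_le.mpr fun u hu => ?_
    exact (hcop1 u).mpr (hcl u ((P : Subgroup G).mul_mem ((P : Subgroup G).mul_mem hu hzP)
      ((P : Subgroup G).inv_mem hu)))
  by_cases hZn : normalizer (Z : Set G) = ⊤
  · -- `Z` is central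
    haveI hZN : Z.Normal := normalizer_eq_top_iff.mp hZn
    have hZC : Z ≤ center G := zpowers_le.mpr (mem_center_iff.mpr fun g =>
      (hcop1 g).mpr (hZN.conj_mem z (mem_zpowers z) g))
    by_cases hk2 : k' = 1
    · subst hk2
      exact hasNormalPComplement_of_allHSub_sq hmin h hZc hZC
    refine hasNormalPComplement_of_central_quotient hZc hZC ?_
    set f := QuotientGroup.mk' Z with hf
    have hcardq : ∀ H : Subgroup (G ⧸ Z), Nat.card ↥(H.comap f) = Nat.card H * p := by
      intro H
      have h1 := card_mul_index (H.comap f)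
      rw [index_comap_of_surjective H (QuotientGroup.mk'_surjective Z),
        card_eq_card_quotient_mul_card_subgroup Z, ← card_mul_index H, hZc] at h1
      refine Nat.eq_of_mul_eq_mul_right (Nat.pos_of_ne_zero H.index_ne_zero_of_finite) ?_
      rw [h1]; ring
    have hlt : Nat.card (G ⧸ Z) < n := by
      rw [← hn, card_eq_card_quotient_mul_card_subgroup Z, hZc]
      exact lt_mul_of_one_lt_right Nat.card_pos hp.one_lt
    refine ih _ hlt (G ⧸ Z) rfl (fun q hq hd => hmin q hq ?_) k' (by omega) ?_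
      (P.mapSurjective (QuotientGroup.mk'_surjective Z)) ?_
    · exact hd.trans (card_quotient_dvd_card Z)
    · intro E hEp hEc
      have hEc' : Nat.card E = p ^ k' := by
        rcases hEc with h1 | ⟨h1, -⟩
        · exact h1
        · exfalso
          have h4 : p ^ 2 ≤ p ^ k' := Nat.pow_le_pow_right hp.pos (by omega)
          rw [h1] at h4
          nlinarith [hp.two_le]
      have hbig : IsHSub (E.comap f) := by
        refine h _ ?_ (Or.inl ?_)
        · refine IsPGroup.comap_of_ker_isPGroup hEp f ?_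
          rw [QuotientGroup.ker_mk']
          exact IsPGroup.of_card (n := 1) (by rw [hZc, pow_one])
        · rw [hcardq, hEc', pow_succ]
      rintro g w ⟨⟨e, he, rfl⟩, hwN⟩
      obtain ⟨g', rfl⟩ := QuotientGroup.mk'_surjective Z g
      obtain ⟨e', rfl⟩ := QuotientGroup.mk'_surjective Z e
      have h2 : g' * e' * g'⁻¹ ∈ E.comap f := by
        refine hbig.conj_mem (show e' ∈ E.comap f from he) ?_
        rw [← comap_normalizer_eq_of_surjective _ (QuotientGroup.mk'_surjective Z)]
        rw [mem_comap]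
        simpa using hwN
      have h3 : f (g' * e' * g'⁻¹) ∈ E := mem_comap.mp h2
      rw [map_mul, map_mul, map_inv] at h3
      exact h3
    · have h3 : Nat.card ↥(((P : Subgroup G).map f).comap f) = Nat.card (P : Subgroup G) := by
        rw [comap_map_eq_self]
        rw [QuotientGroup.ker_mk']
        exact zpowers_le.mpr hzP
      rw [hcardq] at h3
      rw [Sylow.coe_mapSurjective]
      refine Nat.lt_of_mul_lt_mul_right (a := p) ?_
      rw [h3, ← pow_succ]
      exact hP
  · -- `N(Z)` controls fusion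
    set N := normalizer (Z : Set G) with hNdef
    have hPN : (P : Subgroup G) ≤ N := fun u hu =>
      centralizer_le_normalizer _ fun w hw => (hZcP hw u hu).symm
    have hlt : Nat.card N < n := by
      rw [← hn]
      exact lt_of_le_of_ne (card_le_card_group N) fun h1 => hZn (eq_top_of_card_eq N h1)
    have hN := ih _ hlt N rfl (hypotheses_subgroup hmin N) _ hk (h.subgroup N) (P.subtype hPN) (by
      rw [Sylow.coe_subtype, Nat.card_congr (subgroupOfEquivOfLe hPN).toEquiv]
      exact hP)
    refine Transfer.hasNormalPComplement_of_controlsFusion_self P fun a ha g hg => ?_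
    obtain ⟨m, hm, hme⟩ :=
      Transfer.controlsFusion_normalizer_of_weaklyClosed P hwc hZcP a ha g hg
    have h1 : (⟨a, hPN ha⟩ : N) ∈ ((P.subtype hPN : Sylow p N) : Subgroup N) := by
      rw [Sylow.coe_subtype]; exact mem_subgroupOf.mpr ha
    have h2 : (⟨m, hm⟩ : N) * ⟨a, hPN ha⟩ * (⟨m, hm⟩ : N)⁻¹ ∈
        ((P.subtype hPN : Sylow p N) : Subgroup N) := by
      rw [Sylow.coe_subtype, mem_subgroupOf]
      show m * a * m⁻¹ ∈ (P : Subgroup G)
      rw [hme]; exact hg
    obtain ⟨u, hu, hue⟩ :=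
      Transfer.controlsFusion_self_of_hasNormalPComplement hN _ _ h1 _ h2
    rw [Sylow.coe_subtype] at hu
    refine ⟨(u : G), mem_subgroupOf.mp hu, ?_⟩
    rw [← hme]
    exact congrArg Subtype.val hue

end CfsgLib.LocalEven50
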