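import Mathlib.GroupTheory.Transfer
import Mathlib.FieldTheory.Finite.Basic
import Cfsg.Prelude.Def_Transfer
import Cfsg.Agent.OddOrder.BG1Stab
import Cfsg.Agent.LocalEven50.Basic

/-!
# H-subgroups

A subgroup `E` is an H-subgroup of `G` when `g E g⁻¹ ⊓ N_G(E) ≤ E` for all `g`. Elementary facts,
and lemmas on elements of order prime to `p` acting on `p`-subgroups through cyclic invariant
subgroups.
-/

namespace CfsgLib.LocalEven50

open Subgroup
open scoped commutatorElement

variable {G : Type*} [Group G] {p d : ℕ}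

/-- `E` is strongly closed in its normaliser. -/
def IsHSub (E : Subgroup G) : Prop :=
  ∀ g : G, E.map (MulAut.conj g).toMonoidHom ⊓ normalizer (E : Set G) ≤ E

/-- All `p`-subgroups of order `d` (and of order `4` when `d = 2`) are H-subgroups. -/
def AllHSub (p d : ℕ) (G : Type*) [Group G] : Prop :=
  ∀ E : Subgroup G, IsPGroup p E → (Nat.card E = d ∨ (d = 2 ∧ Nat.card E = 4)) → IsHSub E

theorem IsHSub.conj_mem {E : Subgroup G} (hE : IsHSub E) {x g : G} (hx : x ∈ E)
    (hg : g * x * g⁻¹ ∈ normalizer (E : Set G)) : g * x * g⁻¹ ∈ E :=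
  hE g ⟨⟨x, hx, rfl⟩, hg⟩

theorem IsHSub.mem_normalizer [Finite G] {E K : Subgroup G} (hE : IsHSub E) (hEK : E ≤ K)
    (hKN : K ≤ normalizer (E : Set G)) {g : G} (hg : g ∈ normalizer (K : Set G)) :
    g ∈ normalizer (E : Set G) := by
  rw [mem_normalizer_iff_map_conj_eq]
  refine eq_of_le_of_card_ge (le_trans ?_ (hE g))
    (card_map_of_injective (MulAut.conj g).injective).ge
  refine le_inf le_rfl ?_
  rintro _ ⟨x, hx, rfl⟩
  exact hKN ((mem_normalizer_iff.mp hg x).mp (hEK hx))

/-- An H-subgroup is normal in every `p`-group containing it. -/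
theorem IsHSub.le_normalizer_of_isPGroup [Finite G] [Fact p.Prime] {E R : Subgroup G}
    (hE : IsHSub E) (hR : IsPGroup p R) (hER : E ≤ R) : R ≤ normalizer (E : Set G) := by
  by_contra hne
  obtain ⟨x, hxR, hxN, hx⟩ := exists_mem_normalizer_not_mem hR
    (inf_le_left : R ⊓ normalizer (E : Set G) ≤ R) (fun h => hne (h.ge.trans inf_le_right))
  exact hx ⟨hxR, hE.mem_normalizer (le_inf hER le_normalizer) inf_le_right hxN⟩

/-- An H-subgroup is strongly closed in every `p`-group containing it. -/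
theorem IsHSub.conj_mem_of_isPGroup [Finite G] [Fact p.Prime] {E R : Subgroup G}
    (hE : IsHSub E) (hR : IsPGroup p R) (hER : E ≤ R) {x g : G} (hx : x ∈ E)
    (hg : g * x * g⁻¹ ∈ R) : g * x * g⁻¹ ∈ E :=
  hE.conj_mem hx (hE.le_normalizer_of_isPGroup hR hER hg)

theorem IsHSub.of_conj {E : Subgroup G} {c : G}
    (h : IsHSub (E.map (MulAut.conj c).toMonoidHom)) : IsHSub E := by
  intro g y hy
  obtain ⟨⟨x, hx, rfl⟩, hyN⟩ := hy
  have hinj : Function.Injective (MulAut.conj c).toMonoidHom := (MulAut.conj c).injective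
  refine (mem_map_iff_mem hinj).mp
    (h (c * g * c⁻¹) ⟨⟨(MulAut.conj c).toMonoidHom x, ⟨x, hx, rfl⟩, ?_⟩, ?_⟩)
  · simp [mul_assoc]
  · exact le_normalizer_map _ ⟨_, hyN, rfl⟩

theorem IsHSub.subgroupOf {E H : Subgroup G} (hE : IsHSub E) (hEH : E ≤ H) :
    IsHSub (E.subgroupOf H) := by
  rintro g y ⟨⟨x, hx, rfl⟩, hyN⟩
  refine mem_subgroupOf.mpr (hE.conj_mem (g := (g : G)) (mem_subgroupOf.mp hx) ?_)
  rw [← subgroupOf_normalizer_eq hEH] at hyN
  exact mem_subgroupOf.mp hyN

theorem AllHSub.subgroup (h : AllHSub p d G) (H : Subgroup G) : AllHSub p d H := by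
  intro E hE hcard
  have hc : Nat.card (E.map H.subtype) = Nat.card E := card_map_of_injective H.subtype_injective
  have := (h (E.map H.subtype) (hE.map _) (by rw [hc]; exact hcard)).subgroupOf
    (map_subtype_le E)
  rwa [subgroupOf, comap_map_eq_self_of_injective H.subtype_injective] at this

/-- It suffices to know the subgroups of one Sylow subgroup. -/
theorem allHSub_of_sylow [Finite G] [Fact p.Prime] (P : Sylow p G)
    (h : ∀ E : Subgroup G, E ≤ (P : Subgroup G) →
      (Nat.card E = d ∨ (d = 2 ∧ Nat.card E = 4)) → IsHSub E) : AllHSub p d G := by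
  intro E hE hcard
  obtain ⟨Q, hQ⟩ := hE.exists_le_sylow
  obtain ⟨c, hc⟩ := MulAction.exists_smul_eq G Q P
  refine IsHSub.of_conj (c := c) (h _ ?_ ?_)
  · rw [← hc, Sylow.coe_subgroup_smul]
    exact map_mono hQ
  · rwa [card_map_of_injective (MulAut.conj c).injective]

/-- An element normalising `⟨x⟩` whose order is prime to `φ(|x|)` centralises `x`. -/
theorem commute_of_normalizes_zpowers [Finite G] {g x : G} (hg : g * x * g⁻¹ ∈ zpowers x)
    (hcop : (orderOf g).Coprime (Nat.totient (orderOf x))) : Commute g x := by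
  classical
  obtain ⟨m, -, hm⟩ := Finset.mem_image.mp
    (mem_zpowers_iff_mem_range_orderOf.mp hg)
  have hpow : ∀ j : ℕ, g ^ j * x * (g ^ j)⁻¹ = x ^ (m ^ j) := by
    intro j
    induction j with
    | zero => simp
    | succ j ih =>
      calc g ^ (j + 1) * x * (g ^ (j + 1))⁻¹ = g * (g ^ j * x * (g ^ j)⁻¹) * g⁻¹ := by
            rw [pow_succ']; group
        _ = (g * x * g⁻¹) ^ (m ^ j) := by rw [ih, conj_pow]
        _ = x ^ (m ^ (j + 1)) := by rw [← hm, ← pow_mul, pow_succ']
  have h1 : m ^ orderOf g ≡ 1 [MOD orderOf x] := by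
    rw [← pow_eq_pow_iff_modEq]
    have := hpow (orderOf g)
    rw [pow_orderOf_eq_one] at this
    simpa using this.symm
  haveI : NeZero (orderOf x) := ⟨(orderOf_pos x).ne'⟩
  have h2 : (m : ZMod (orderOf x)) ^ orderOf g = 1 := by
    have := (ZMod.natCast_eq_natCast_iff _ _ _).mpr h1
    simpa using this
  obtain ⟨u, hu⟩ : IsUnit (m : ZMod (orderOf x)) :=
    IsUnit.of_pow_eq_one h2 (orderOf_pos g).ne'
  have h3 : orderOf u ∣ orderOf g :=
    orderOf_dvd_of_pow_eq_one (Units.ext (by rw [Units.val_pow_eq_pow_val, hu, h2]; rfl))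
  have h4 : orderOf u ∣ Nat.totient (orderOf x) := by
    rw [← ZMod.card_units_eq_totient]
    exact orderOf_dvd_card
  have h5 : u = 1 := orderOf_eq_one_iff.mp (Nat.eq_one_of_dvd_coprimes hcop h3 h4)
  have h6 : m ≡ 1 [MOD orderOf x] := by
    rw [← ZMod.natCast_eq_natCast_iff]
    rw [h5, Units.val_one] at hu
    simpa using hu.symm
  rw [← pow_eq_pow_iff_modEq, hm, pow_one] at h6
  exact mul_inv_eq_iff_eq_mul.mp h6

/-- The totient of a power of `p` is prime to `n` when `n` is prime to `p` and to `p - 1`. -/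
theorem coprime_totient_pow [Fact p.Prime] {n : ℕ} (h1 : n.Coprime p) (h2 : n.Coprime (p - 1))
    (k : ℕ) : n.Coprime (Nat.totient (p ^ k)) := by
  rcases Nat.eq_zero_or_pos k with rfl | hk
  · simp
  rw [Nat.totient_prime_pow Fact.out hk]
  exact (h1.pow_right _).mul_right h2

theorem commute_of_normalizes_pElement [Finite G] [Fact p.Prime] {g x : G} {k : ℕ}
    (hx : orderOf x = p ^ k) (hg : g * x * g⁻¹ ∈ zpowers x) (h1 : (orderOf g).Coprime p)
    (h2 : (orderOf g).Coprime (p - 1)) : Commute g x :=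
  commute_of_normalizes_zpowers hg (hx ▸ coprime_totient_pow h1 h2 k)

/-- A coprime element fixing all elements of `R` killed by `4` (for `p = 2`), respectively by `p`,
centralises the `p`-group `R`. -/
theorem commute_of_fix_small [Finite G] [Fact p.Prime] {a : G} {R : Subgroup G}
    (hR : IsPGroup p R) (hcop : (orderOf a).Coprime p) (ha : a ∈ normalizer (R : Set G))
    (hfix : ∀ x ∈ R, (x ^ p = 1 ∨ (p = 2 ∧ x ^ 4 = 1)) → Commute a x) :
    ∀ x ∈ R, Commute a x := by
  by_cases hp : p = 2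
  swap
  · exact OddOrder.Stab.commute_of_fix_prime_order hp hR hcop ha
      fun x hx h => hfix x hx (Or.inl h)
  subst hp
  induction R using WellFoundedLT.induction with
  | _ R ih =>
  rcases eq_or_ne R ⊥ with hs | hne
  · intro x hx
    rw [hs, mem_bot] at hx
    rw [hx]
    exact Commute.one_right a
  haveI : Nontrivial R := (Subgroup.nontrivial_iff_ne_bot R).mpr hne
  obtain ⟨hfc, hfp, hfne⟩ := OddOrder.Stab.frattini_facts hR
  set F : Subgroup G := (frattini R).map R.subtype with hF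
  have hFR : F < R := by
    refine lt_of_le_of_ne (map_subtype_le _) fun h => hfne ‹_› ?_
    apply map_injective R.subtype_injective
    rw [← hF, h, ← MonoidHom.range_eq_map, range_subtype]
  have hmap : ∀ b ∈ normalizer (R : Set G), b ∈ normalizer (F : Set G) := by
    intro b hb
    rw [mem_normalizer_iff_map_conj_eq]
    refine eq_of_le_of_card_ge ?_ (card_map_of_injective (MulAut.conj b).injective).ge
    rintro _ ⟨z, hz, rfl⟩
    exact OddOrder.Stab.map_subtype_conj_mem _ hb hz
  have hFa : ∀ x ∈ F, Commute a x := ih F hFR (hmap a ha) (hR.to_le hFR.le)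
    fun x hx h => hfix x (hFR.le hx) h
  have hcopR : (orderOf a).Coprime (Nat.card R) := by
    obtain ⟨k, hk⟩ := IsPGroup.iff_card.mp hR
    rw [hk]
    exact hcop.pow_right k
  set D : Subgroup G := R ⊓ centralizer (F : Set G) with hD
  have haD : a ∈ normalizer (D : Set G) := by
    rw [mem_normalizer_iff_map_conj_eq]
    refine eq_of_le_of_card_ge ?_ (card_map_of_injective (MulAut.conj a).injective).ge
    rintro _ ⟨z, ⟨hz, hzc⟩, rfl⟩
    refine ⟨(mem_normalizer_iff.mp ha z).mp hz, fun f hf => ?_⟩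
    have h1 : Commute a f := hFa f hf
    have h2 : Commute f z := mem_centralizer_iff.mp hzc f hf
    exact ((h1.symm.mul_right h2).mul_right h1.symm.inv_right).eq
  have hcomm : ∀ x ∈ R, ⁅a, x⁆ ∈ D := by
    intro x hx
    refine ⟨?_, fun f hf => ?_⟩
    · rw [commutatorElement_def]
      exact R.mul_mem ((mem_normalizer_iff.mp ha x).mp hx) (R.inv_mem hx)
    · have hconj : x⁻¹ * f * x ∈ F :=
        (mem_normalizer_iff''.mp (hmap x (le_normalizer hx)) f).mp hf
      have h1 : Commute a f := hFa f hf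
      have h3 : Commute a (x⁻¹ * f * x) := hFa _ hconj
      have h4 : Commute f (x * a⁻¹ * x⁻¹) := by
        show f * (x * a⁻¹ * x⁻¹) = x * a⁻¹ * x⁻¹ * f
        calc f * (x * a⁻¹ * x⁻¹) = x * ((x⁻¹ * f * x) * a⁻¹) * x⁻¹ := by group
          _ = x * (a⁻¹ * (x⁻¹ * f * x)) * x⁻¹ := by rw [h3.inv_left.eq]
          _ = x * a⁻¹ * x⁻¹ * f := by group
      have h5 := h1.symm.mul_right h4
      rw [show a * (x * a⁻¹ * x⁻¹) = ⁅a, x⁆ by rw [commutatorElement_def]; group] at h5
      exact h5.eq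
  rcases lt_or_eq_of_le (inf_le_left : D ≤ R) with hlt | heq
  · have hDa : ∀ x ∈ D, Commute a x := ih D hlt haD (hR.to_le inf_le_left)
      fun x hx h => hfix x hx.1 h
    exact fun x hx => OddOrder.Stab.commute_of_stab_mem (hDa _ (hcomm x hx)) (hcomm x hx).1 hcopR
  · intro x hx
    have hcen : ∀ f ∈ F, ∀ z ∈ R, Commute f z := fun f hf z hz =>
      mem_centralizer_iff.mp (heq.ge hz).2 f hf
    set c := ⁅a, x⁆ with hc
    have hcR : c ∈ R := (hcomm x hx).1
    have hxx : x ^ 2 ∈ F := ⟨(⟨x, hx⟩ : R) ^ 2, hfp _, rfl⟩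
    have hxc : a * x * a⁻¹ = c * x := by
      rw [hc, commutatorElement_def]; group
    set b := ⁅x, c⁆ with hb
    have hbF : b ∈ F := ⟨⁅(⟨x, hx⟩ : R), ⟨c, hcR⟩⁆, hfc _ _, rfl⟩
    have hb2 : b ^ 2 = 1 := by
      rw [hb, ← OddOrder.Stab.commutatorElement_pow_left (hcen b hbF x hx).symm,
        commutatorElement_eq_one_iff_commute]
      exact hcen _ hxx c hcR
    have h1 : (c * x) ^ 2 = x ^ 2 := by
      rw [← hxc, conj_pow, (hFa _ hxx).eq, mul_inv_cancel_right]
    have h2 : (c * x) ^ 2 = c ^ 2 * b * x ^ 2 := by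
      have e : x * c = b * c * x := by rw [hb, commutatorElement_def]; group
      calc (c * x) ^ 2 = c * (x * c) * x := by rw [pow_two]; group
        _ = c * (b * c) * x ^ 2 := by rw [e, pow_two]; group
        _ = c ^ 2 * b * x ^ 2 := by rw [(hcen b hbF c hcR).eq, pow_two c]; group
    have hcb : c ^ 2 = b⁻¹ := eq_inv_of_mul_eq_one_left (mul_eq_right.mp (h2.symm.trans h1))
    have hc4 : c ^ 4 = 1 := by
      rw [show 4 = 2 * 2 from rfl, pow_mul, hcb, inv_pow, hb2, inv_one]
    exact OddOrder.Stab.commute_of_stab_mem (hfix c hcR (Or.inr ⟨rfl, hc4⟩)) hcR hcopR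

end CfsgLib.LocalEven50
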