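import Mathlib.FieldTheory.Finite.Basic
import Mathlib.Algebra.Module.ZMod
import Cfsg.Prelude.Def_SolvableStructure
import Cfsg.Agent.Solvable.Basic
import Cfsg.Agent.Transfer.Residual
import Cfsg.Agent.Transfer.Tate
import Cfsg.Agent.LocalEven50.HSubgroups

/-!
# A criterion for supersolvability along a normal `p`-subgroup

If `G / N` is supersolvable for a normal `p`-subgroup `N`, and all elements of order prime to `p`
of `A = G' G^(p-1)` centralise `N`, then `G` is supersolvable: the chief factors below `N` have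
order `p`.
-/

namespace CfsgLib.LocalEven50

open Subgroup
open scoped commutatorElement

variable {G : Type*} [Group G] {p : ℕ}

theorem isSupersolvable_of_surjective {H : Type*} [Group H] (h : Cfsg.IsSupersolvable G)
    (f : G →* H) (hf : Function.Surjective f) : Cfsg.IsSupersolvable H := by
  obtain ⟨n, S, h0, hl, hn, hs⟩ := h
  refine ⟨n, fun i => (S i).map f, by simp [h0], ?_, fun i => (hn i).map f hf, fun i => ?_⟩
  · simp only
    rw [hl, map_top_of_surjective f hf]
  · obtain ⟨g, hg⟩ := hs i
    exact ⟨f g, by simp only; rw [hg, Subgroup.map_sup, MonoidHom.map_zpowers]⟩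

/-- A cyclic normal subgroup with supersolvable quotient. -/
theorem isSupersolvable_of_cyclic_normal (M : Subgroup G) [M.Normal] {g : G}
    (hM : M = zpowers g) (h : Cfsg.IsSupersolvable (G ⧸ M)) : Cfsg.IsSupersolvable G := by
  obtain ⟨n, S, h0, hl, hn, hs⟩ := h
  let f := QuotientGroup.mk' M
  refine ⟨n + 1, Fin.cons ⊥ (fun i => (S i).comap f), by simp, ?_, ?_, ?_⟩
  · rw [show Fin.last (n + 1) = (Fin.last n).succ from (Fin.succ_last n).symm, Fin.cons_succ, hl,
      comap_top]
  · intro i
    refine Fin.cases ?_ (fun j => ?_) i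
    · rw [Fin.cons_zero]; infer_instance
    · rw [Fin.cons_succ]; exact (hn j).comap f
  · intro i
    refine Fin.cases ?_ (fun j => ?_) i
    · refine ⟨g, ?_⟩
      rw [Fin.cons_succ, Fin.castSucc_zero, Fin.cons_zero, h0, bot_sup_eq, MonoidHom.comap_bot,
        QuotientGroup.ker_mk', hM]
    · obtain ⟨q, hq⟩ := hs j
      obtain ⟨q, rfl⟩ := QuotientGroup.mk'_surjective M q
      refine ⟨q, ?_⟩
      rw [Fin.cons_succ, Fin.castSucc_succ, Fin.cons_succ]
      have e : ((S j.castSucc).comap f ⊔ zpowers q).map f = S j.succ := by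
        rw [Subgroup.map_sup, map_comap_eq_self_of_surjective (QuotientGroup.mk'_surjective M),
          MonoidHom.map_zpowers, hq]
      rw [← e, comap_map_eq, QuotientGroup.ker_mk', sup_eq_left]
      exact le_sup_of_le_left ((QuotientGroup.ker_mk' M).ge.trans (ker_le_comap f _))

theorem isSupersolvable_of_subsingleton [Subsingleton G] : Cfsg.IsSupersolvable G :=
  ⟨0, fun _ => ⊥, rfl, Subsingleton.elim _ _, fun _ => inferInstance, fun i => i.elim0⟩

open Polynomial in
/-- An endomorphism `T` of a `ZMod p`-space with `T ^ p = T` has an eigenvector. -/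
theorem exists_eigenvector [Fact p.Prime] {V : Type*} [AddCommGroup V] [Module (ZMod p) V]
    [Nontrivial V] (T : Module.End (ZMod p) V) (hT : T ^ p = T) :
    ∃ (c : ZMod p) (v : V), v ≠ 0 ∧ T v = c • v := by
  by_contra hno
  push Not at hno
  have hinj : ∀ c : ZMod p, Function.Injective (aeval T (X - C c)) := fun c => by
    rw [injective_iff_map_eq_zero]
    intro v hv
    by_contra hne
    refine hno c v hne ?_
    simpa [sub_eq_zero, Algebra.algebraMap_eq_smul_one] using hv
  have hlist : ∀ l : List (ZMod p),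
      Function.Injective (aeval T ((l.map fun c => X - C c).prod)) := by
    intro l
    induction l with
    | nil => exact fun a b h => by simpa using h
    | cons c l ih =>
      rw [List.map_cons, List.prod_cons, map_mul]
      exact (hinj c).comp ih
  have hq : (Finset.univ.toList.map fun c : ZMod p => X - C c).prod = X ^ p - X := by
    rw [Finset.prod_map_toList]
    have hcard : Fintype.card (ZMod p) = p := ZMod.card p
    have hr := FiniteField.roots_X_pow_card_sub_X (ZMod p)
    have hd : (X ^ p - X : (ZMod p)[X]).natDegree = p :=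
      FiniteField.X_pow_card_sub_X_natDegree_eq (ZMod p) (Fact.out : p.Prime).one_lt
    rw [hcard] at hr
    have hm : (X ^ p - X : (ZMod p)[X]).Monic := by
      refine monic_X_pow_sub ?_
      rw [degree_X]
      exact_mod_cast (Fact.out : p.Prime).one_lt
    have h1 := prod_multiset_X_sub_C_of_monic_of_roots_card_eq hm (by
      rw [hr, hd, Finset.card_val, Finset.card_univ, hcard])
    rw [hr] at h1
    exact h1
  obtain ⟨v, hv⟩ := exists_ne (0 : V)
  apply hv
  refine hlist (Finset.univ.toList) ?_
  rw [hq, map_zero]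
  simp [hT]

/-- A group version of `exists_eigenvector`. -/
theorem exists_eigenvector_monoidHom [Fact p.Prime] {M : Type*} [CommGroup M] [Nontrivial M]
    (hexp : ∀ x : M, x ^ p = 1) (φ : M →* M) (hφ : ∀ x, (⇑φ)^[p] x = φ x) :
    ∃ (n : ℕ) (v : M), v ≠ 1 ∧ φ v = v ^ n := by
  haveI : Module (ZMod p) (Additive M) := AddCommGroup.zmodModule fun x =>
    Additive.toMul.injective (hexp x.toMul)
  let T : Module.End (ZMod p) (Additive M) := (MonoidHom.toAdditive φ).toZModLinearMap p
  have hit : ∀ (i : ℕ) (x : Additive M), (⇑T)^[i] x = Additive.ofMul ((⇑φ)^[i] x.toMul) := by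
    intro i
    induction i with
    | zero => intro x; rfl
    | succ i ih =>
      intro x
      rw [Function.iterate_succ_apply', Function.iterate_succ_apply', ih]
      rfl
  obtain ⟨c, v, hv, hcv⟩ := exists_eigenvector T (LinearMap.ext fun x => by
    rw [Module.End.pow_apply, hit, hφ]
    rfl)
  refine ⟨c.val, v.toMul, hv, ?_⟩
  rw [← ZMod.natCast_zmod_val c, Nat.cast_smul_eq_nsmul] at hcv
  exact congrArg Additive.toMul hcv

/-- A minimal normal `p`-subgroup centralised by the elements of order prime to `p` of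
`G' G^(p-1)` has order `p`. -/
theorem card_eq_prime_of_minimal_normal [Finite G] [Fact p.Prime] {M : Subgroup G} [M.Normal]
    (hne : M ≠ ⊥) (hMp : IsPGroup p M)
    (hmin : ∀ K : Subgroup G, K.Normal → K ≤ M → K = ⊥ ∨ K = M)
    (hA : ∀ g ∈ Transfer.elemResidual (p - 1) G, (orderOf g).Coprime p →
      ∀ x ∈ M, Commute g x) : Nat.card M = p := by
  classical
  haveI := hMp.isNilpotent
  haveI : Group.IsSolvable M := inferInstance
  have hc := Solvable.mul_comm_of_minimal_normal hne hmin
  have hexp : ∀ x ∈ M, x ^ p = 1 := by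
    obtain ⟨q, hq, hq'⟩ := Solvable.exists_prime_pow_eq_one_of_minimal_normal hne hmin
    obtain ⟨x, hx, hx1⟩ := (M.bot_or_exists_ne_one).resolve_left hne
    have h1 : orderOf x = q := by
      haveI := Fact.mk hq
      exact orderOf_eq_prime (hq' x hx) hx1
    obtain ⟨i, hi⟩ := IsPGroup.iff_orderOf.mp hMp ⟨x, hx⟩
    rw [Subgroup.orderOf_mk, h1] at hi
    have : q = p := by
      rcases Nat.eq_zero_or_pos i with rfl | hi0
      · exact absurd hi hq.ne_one
      · exact ((Nat.prime_dvd_prime_iff_eq Fact.out hq).mp (hi ▸ dvd_pow_self p hi0.ne')).symm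
    exact this ▸ hq'
  set A := Transfer.elemResidual (p - 1) G with hAdef
  haveI hAn : A.Normal := ⟨fun a ha g => by
    have h1 : ⁅g, a⁆ ∈ A :=
      mem_sup_left (commutator_mem_commutator (mem_top g) (mem_top a))
    simpa [commutatorElement_def] using A.mul_mem h1 ha⟩
  -- `A` centralises `M`
  have hAC : ∀ g ∈ A, ∀ x ∈ M, Commute g x := by
    let φ : A →* MulAut M := MulAut.conjNormal.comp A.subtype
    have hp' : IsPGroup p φ.range := by
      rintro ⟨_, ⟨g, hg⟩, rfl⟩
      obtain ⟨i, m, hm, hgi⟩ :=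
        Nat.exists_eq_pow_mul_and_not_dvd (orderOf_pos g).ne' p (Fact.out : p.Prime).ne_one
      refine ⟨i, Subtype.ext ?_⟩
      show (MulAut.conjNormal g) ^ p ^ i = 1
      rw [← map_pow]
      refine MulEquiv.ext fun x => Subtype.ext ?_
      have hco : (orderOf (g ^ p ^ i)).Coprime p := by
        rw [orderOf_pow' g (pow_ne_zero i (Fact.out : p.Prime).ne_zero),
          Nat.gcd_eq_right (hgi ▸ dvd_mul_right _ _), hgi,
          Nat.mul_div_cancel_left _ (pow_pos (Fact.out : p.Prime).pos i)]
        exact ((Fact.out : p.Prime).coprime_iff_not_dvd.mpr hm).symm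
      have := hA (g ^ p ^ i) (A.pow_mem hg _) hco x x.2
      rw [MulAut.conjNormal_apply, this.eq, mul_inv_cancel_right]
      rfl
    have hdvd : p ∣ Nat.card M :=
      (hMp.card_eq_or_dvd).resolve_left (fun h => hne (eq_bot_of_card_eq M h))
    have hfix : (1 : M) ∈ MulAction.fixedPoints φ.range M := fun a => smul_one a
    obtain ⟨v, hv, hv1⟩ :=
      hp'.exists_fixed_point_of_prime_dvd_card_of_fixed_point M hdvd hfix
    have h1 : M ⊓ centralizer (A : Set G) ≠ ⊥ := by
      intro h
      apply hv1
      have : (v : G) ∈ M ⊓ centralizer (A : Set G) := by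
        refine ⟨v.2, fun a ha => ?_⟩
        have := congrArg Subtype.val (hv ⟨φ ⟨a, ha⟩, ⟨a, ha⟩, rfl⟩)
        change a * (v : G) * a⁻¹ = v at this
        exact mul_inv_eq_iff_eq_mul.mp this
      rw [h, mem_bot] at this
      exact Subtype.ext this.symm
    have h2 := (hmin (M ⊓ centralizer (A : Set G)) inferInstance inf_le_left).resolve_left h1
    intro g hg x hx
    exact (h2.ge hx).2 g hg
  have hcomm : ∀ a b : G, ∀ x ∈ M, Commute ⁅a, b⁆ x := fun a b x hx =>
    hAC _ (mem_sup_left (commutator_mem_commutator (mem_top a) (mem_top b))) x hx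
  -- every element acts on `M` as a power map
  have key : ∀ g : G, ∀ x ∈ M, g * x * g⁻¹ ∈ zpowers x := by
    intro g
    haveI : Nontrivial M := (nontrivial_iff_ne_bot M).mpr hne
    letI : CommGroup M := { (inferInstance : Group M) with
      mul_comm := fun a b => Subtype.ext (hc a a.2 b b.2) }
    let φ : M →* M := (MulAut.conjNormal g : MulAut M).toMonoidHom
    have hpow : ∀ (i : ℕ) (x : M), (((⇑φ)^[i] x : M) : G) = g ^ i * x * (g ^ i)⁻¹ := by
      intro i
      induction i with
      | zero => intro x; simp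
      | succ i ih =>
        intro x
        rw [Function.iterate_succ_apply', pow_succ' g]
        show g * ((⇑φ)^[i] x : M) * g⁻¹ = _
        rw [ih]
        group
    have hφ : ∀ x : M, (⇑φ)^[p] x = φ x := by
      intro x
      refine Subtype.ext ?_
      rw [hpow]
      show _ = g * (x : G) * g⁻¹
      have hg1 : Commute (g ^ (p - 1)) (g * (x : G) * g⁻¹) :=
        hAC _ (mem_sup_right (subset_closure ⟨g, rfl⟩)) _ (Normal.conj_mem ‹_› _ x.2 g)
      have hp1 : g ^ p = g ^ (p - 1) * g := by
        rw [← pow_succ]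
        congr 1
        have := (Fact.out : p.Prime).one_lt
        omega
      rw [hp1]
      calc g ^ (p - 1) * g * (x : G) * (g ^ (p - 1) * g)⁻¹
          = (g ^ (p - 1) * (g * (x : G) * g⁻¹)) * (g ^ (p - 1))⁻¹ := by group
        _ = g * (x : G) * g⁻¹ := by rw [hg1.eq]; group
    obtain ⟨n, v, hv, hnv⟩ :=
      exists_eigenvector_monoidHom (fun x => Subtype.ext (hexp x x.2)) φ hφ
    let W : Subgroup G :=
      { carrier := {x | x ∈ M ∧ g * x * g⁻¹ = x ^ n}
        one_mem' := ⟨M.one_mem, by simp⟩
        mul_mem' := fun {a b} ha hb => ⟨M.mul_mem ha.1 hb.1, by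
          rw [(show Commute a b from hc a ha.1 b hb.1).mul_pow, ← ha.2, ← hb.2]; group⟩
        inv_mem' := fun {a} ha => ⟨M.inv_mem ha.1, by rw [inv_pow, ← ha.2]; group⟩ }
    have hWn : W.Normal := ⟨fun x hx h => ⟨Normal.conj_mem ‹M.Normal› x hx.1 h, by
      have h1 : Commute ⁅g, h⁆ (h * (g * x * g⁻¹) * h⁻¹) :=
        hcomm g h _ (Normal.conj_mem ‹M.Normal› _ (Normal.conj_mem ‹M.Normal› x hx.1 g) h)
      calc g * (h * x * h⁻¹) * g⁻¹
          = ⁅g, h⁆ * (h * (g * x * g⁻¹) * h⁻¹) * ⁅g, h⁆⁻¹ := by
            rw [commutatorElement_def]; group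
        _ = h * (g * x * g⁻¹) * h⁻¹ := by rw [h1.eq]; group
        _ = (h * x * h⁻¹) ^ n := by rw [hx.2, conj_pow]⟩⟩
    have hWM : W = M := by
      refine (hmin W hWn fun x hx => hx.1).resolve_left fun h => hv ?_
      have hvW : (v : G) ∈ W := ⟨v.2, congrArg Subtype.val hnv⟩
      rw [h, mem_bot] at hvW
      exact Subtype.ext hvW
    intro x hx
    rw [(hWM.ge hx).2]
    exact pow_mem (mem_zpowers x) _
  obtain ⟨x, hx, hx1⟩ := (M.bot_or_exists_ne_one).resolve_left hne
  have hxn : (zpowers x).Normal := ⟨fun y hy g => by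
    obtain ⟨i, rfl⟩ := mem_zpowers_iff.mp hy
    rw [← conj_zpow]
    exact zpow_mem (key g x hx) i⟩
  have hxM := (hmin _ hxn (zpowers_le.mpr hx)).resolve_left
    (fun h => hx1 (zpowers_eq_bot.mp h))
  rw [← hxM, Nat.card_zpowers, orderOf_eq_prime (hexp x hx) hx1]

/-- Supersolvability along a normal `p`-subgroup. -/
theorem isSupersolvable_of_normal_pGroup [Finite G] [Fact p.Prime] (N : Subgroup G) [N.Normal]
    (hNp : IsPGroup p N)
    (hA : ∀ g ∈ Transfer.elemResidual (p - 1) G, (orderOf g).Coprime p → ∀ x ∈ N, Commute g x)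
    (hGN : Cfsg.IsSupersolvable (G ⧸ N)) : Cfsg.IsSupersolvable G := by
  suffices h : ∀ (m : ℕ) (L : Subgroup G) [L.Normal], L ≤ N → L.relIndex N = m →
      Cfsg.IsSupersolvable (G ⧸ L) by
    have h1 := h _ ⊥ bot_le rfl
    exact isSupersolvable_of_surjective h1 (QuotientGroup.quotientBot).toMonoidHom
      QuotientGroup.quotientBot.surjective
  intro m
  induction m using Nat.strong_induction_on with
  | _ m ih =>
  intro L _ hL hm
  by_cases hLN : L = N
  · subst hLN; exact hGN
  let f := QuotientGroup.mk' L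
  have hf : Function.Surjective f := QuotientGroup.mk'_surjective L
  haveI : (N.map f).Normal := Normal.map ‹N.Normal› f hf
  have hNne : N.map f ≠ ⊥ := fun h => hLN (le_antisymm hL (by
    rw [Subgroup.map_eq_bot_iff, QuotientGroup.ker_mk'] at h; exact h))
  obtain ⟨M, hMn, hMne, hMN, hMmin⟩ := Solvable.exists_minimal_normal_le ‹(N.map f).Normal› hNne
  haveI := hMn
  have hMcard : Nat.card M = p := by
    refine card_eq_prime_of_minimal_normal hMne ((hNp.map f).to_le hMN) hMmin ?_
    intro gb hgb hcop xb hxb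
    have hgb' : gb ∈ (Transfer.elemResidual (p - 1) G).map f := by
      revert hgb
      refine fun h => (?_ : Transfer.elemResidual (p - 1) (G ⧸ L) ≤ _) h
      refine sup_le ?_ ((closure_le _).mpr ?_)
      · rw [_root_.commutator_def, ← map_top_of_surjective f hf, ← map_commutator]
        exact map_mono (le_sup_of_le_left (le_of_eq (_root_.commutator_def G).symm))
      · rintro _ ⟨y, rfl⟩
        obtain ⟨y, rfl⟩ := hf y
        exact ⟨y ^ (p - 1), mem_sup_right (subset_closure ⟨y, rfl⟩), map_pow f y _⟩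
    obtain ⟨a, ha, rfl⟩ := hgb'
    obtain ⟨x, hx, rfl⟩ := hMN hxb
    -- replace `a` by its part of order prime to `p`
    obtain ⟨i, r, hr, hai⟩ :=
      Nat.exists_eq_pow_mul_and_not_dvd (orderOf_pos a).ne' p (Fact.out : p.Prime).ne_one
    have hco : (orderOf (a ^ p ^ i)).Coprime p := by
      rw [orderOf_pow' a (pow_ne_zero i (Fact.out : p.Prime).ne_zero),
        Nat.gcd_eq_right (hai ▸ dvd_mul_right _ _), hai,
        Nat.mul_div_cancel_left _ (pow_pos (Fact.out : p.Prime).pos i)]
      exact ((Fact.out : p.Prime).coprime_iff_not_dvd.mpr hr).symm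
    have h1 : Commute (f (a ^ p ^ i)) (f x) :=
      (hA _ (pow_mem ha _) hco x hx).map f
    rw [map_pow] at h1
    obtain ⟨j, hj⟩ := exists_pow_eq_self_of_coprime (x := f a) (hcop.symm.pow_left i)
    have := h1.pow_left j
    rwa [hj] at this
  set L' := M.comap f with hL'
  have hLL' : L ≤ L' := (QuotientGroup.ker_mk' L).ge.trans (ker_le_comap f M)
  have hL'N : L' ≤ N := by
    refine (comap_mono hMN).trans ?_
    rw [comap_map_eq, QuotientGroup.ker_mk', sup_eq_left.mpr hL]
  have hlt : L'.relIndex N < m := by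
    rw [← hm, ← relIndex_mul_relIndex L L' N hLL' hL'N]
    refine lt_mul_of_one_lt_left (Nat.pos_of_ne_zero index_ne_zero_of_finite) ?_
    have : L.relIndex L' = Nat.card M := by
      have h1 : (⊥ : Subgroup (G ⧸ L)).comap f = L :=
        (MonoidHom.comap_bot f).trans (QuotientGroup.ker_mk' L)
      conv_lhs => rw [← h1]
      rw [relIndex_comap, hL', map_comap_eq_self_of_surjective hf, relIndex_bot_left]
    rw [this, hMcard]
    exact (Fact.out : p.Prime).one_lt
  have h2 := ih _ hlt L' hL'N rfl
  obtain ⟨x, hx⟩ : ∃ x : G ⧸ L, M = zpowers x := by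
    haveI : IsCyclic M := isCyclic_of_prime_card hMcard
    obtain ⟨x, hx⟩ := (Subgroup.isCyclic_iff_exists_zpowers_eq_top M).mp ‹_›
    exact ⟨x, hx.symm⟩
  refine isSupersolvable_of_cyclic_normal M hx (isSupersolvable_of_surjective h2
    (QuotientGroup.map L' M f le_rfl) ?_)
  intro y
  obtain ⟨y, rfl⟩ := QuotientGroup.mk'_surjective M y
  obtain ⟨y, rfl⟩ := hf y
  exact ⟨QuotientGroup.mk' L' y, rfl⟩

end CfsgLib.LocalEven50
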