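import Mathlib.GroupTheory.SpecificGroups.Cyclic
import Cfsg.Agent.Coprime.Action
import Cfsg.Agent.LocalEven50.HNilpotent
import Cfsg.Agent.LocalEven50.Supersolvable

/-!
# H-subgroups of fixed order and supersolvability

If `G / E` is supersolvable and each noncyclic Sylow subgroup of `E` has all subgroups of some
intermediate order (and of order `4` if that order is `2`) as H-subgroups of `G`, then `G` is
supersolvable.
-/

namespace CfsgLib.LocalEven50

open Subgroup
open scoped commutatorElement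

variable {G : Type*} [Group G] {p : ℕ}

/-- Elements of order prime to `p` of `G' G^(p-1)` centralise cyclic normal `p`-subgroups. -/
theorem commute_of_mem_elemResidual_of_normal [Finite G] [Fact p.Prime] {g y : G} {k : ℕ}
    (hy : orderOf y = p ^ k) (hn : (zpowers y).Normal)
    (hg : g ∈ Transfer.elemResidual (p - 1) G) (hgp : (orderOf g).Coprime p) : Commute g y := by
  rcases Nat.eq_zero_or_pos k with rfl | hk
  · rw [pow_zero, orderOf_eq_one_iff] at hy
    rw [hy]
    exact Commute.one_right g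
  haveI := hn
  set C := zpowers y with hC
  have hcard : Nat.card C = p ^ k := by rw [hC, Nat.card_zpowers, hy]
  haveI : NeZero (Nat.card C) := ⟨Nat.card_pos.ne'⟩
  let χ : G →* (ZMod (Nat.card C))ˣ :=
    (IsCyclic.mulAutMulEquiv C).toMonoidHom.comp MulAut.conjNormal
  let f : G →* (ZMod (Nat.card C))ˣ := (powMonoidHom (p ^ (k - 1))).comp χ
  have h1 : Transfer.elemResidual (p - 1) G ≤ f.rangeRestrict.ker := by
    refine Transfer.elemResidual_le_ker f.rangeRestrict
      (fun a b => Subtype.ext (mul_comm _ _)) fun a => ?_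
    obtain ⟨x, hx⟩ := a.2
    refine Subtype.ext ?_
    rw [SubgroupClass.coe_pow, ← hx]
    show ((χ x) ^ p ^ (k - 1)) ^ (p - 1) = 1
    have htot : p ^ (k - 1) * (p - 1) = Nat.card (ZMod (Nat.card C))ˣ := by
      rw [Nat.card_eq_fintype_card, ZMod.card_units_eq_totient, hcard,
        Nat.totient_prime_pow Fact.out hk]
    rw [← pow_mul, htot]
    exact pow_card_eq_one'
  have h2 : (χ g) ^ p ^ (k - 1) = 1 := congrArg Subtype.val (h1 hg)
  have h3 : χ g = 1 :=
    orderOf_eq_one_iff.mp (Nat.eq_one_of_dvd_coprimes (hgp.pow_right (k - 1))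
      (orderOf_map_dvd χ g) (orderOf_dvd_of_pow_eq_one h2))
  have h4 : MulAut.conjNormal (H := C) g = 1 :=
    (IsCyclic.mulAutMulEquiv C).injective (h3.trans (map_one _).symm)
  have h5 := congrArg Subtype.val (MulEquiv.congr_fun h4 ⟨y, mem_zpowers y⟩)
  rw [MulAut.conjNormal_apply] at h5
  exact mul_inv_eq_iff_eq_mul.mp h5

/-- If all subgroups of order `d` (and `4` if `d = 2`) of a normal `p`-subgroup `N` of order
above `d` are normal in `G`, elements of order prime to `p` of `G' G^(p-1)` centralise `N`. -/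
theorem commute_of_all_normal [Finite G] [Fact p.Prime] {N : Subgroup G} [N.Normal]
    (hN : IsPGroup p N) {k : ℕ} (hk : 1 ≤ k) (hlt : p ^ k < Nat.card N)
    (hall : ∀ E : Subgroup G, E ≤ N → (Nat.card E = p ^ k ∨ (p ^ k = 2 ∧ Nat.card E = 4)) →
      E.Normal)
    {g : G} (hg : g ∈ Transfer.elemResidual (p - 1) G) (hgp : (orderOf g).Coprime p) :
    ∀ x ∈ N, Commute g x := by
  have hp := (Fact.out : p.Prime)
  have hgN : g ∈ normalizer (N : Set G) := by
    rw [normalizer_eq_top_iff.mpr ‹N.Normal›]; trivial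
  refine commute_of_fix_small hN hgp hgN fun x hx hx' => ?_
  obtain ⟨i, hi⟩ := IsPGroup.iff_orderOf.mp hN ⟨x, hx⟩
  rw [Subgroup.orderOf_mk] at hi
  by_cases hik : i ≤ k
  · obtain ⟨e, he⟩ := IsPGroup.iff_card.mp hN
    have hke : k < e := (Nat.pow_lt_pow_iff_right hp.one_lt).mp (he ▸ hlt)
    obtain ⟨S, hxS, hSN, hScard⟩ := exists_le_card_pow (n := k + 1) (zpowers_le.mpr hx) hN
      ((Nat.card_zpowers x).trans hi) (by omega)
      (he ▸ Nat.pow_le_pow_right hp.pos hke)
    have hxS' : x ∈ S := hxS (mem_zpowers x)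
    by_cases hcyc : ∃ s ∈ S, zpowers s = S
    · obtain ⟨s, hs, hsS⟩ := hcyc
      have hso : orderOf s = p ^ (k + 1) := by rw [← Nat.card_zpowers, hsS, hScard]
      have hso' : orderOf (s ^ p) = p ^ k := by
        rw [orderOf_pow' s hp.ne_zero, hso, Nat.gcd_eq_right (dvd_pow_self p (Nat.succ_ne_zero k)),
          pow_succ, Nat.mul_div_cancel _ hp.pos]
      have hc := commute_of_mem_elemResidual_of_normal hso'
        (hall _ ((zpowers_le.mpr (pow_mem hs p)).trans hSN)
          (Or.inl (by rw [Nat.card_zpowers, hso']))) hg hgp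
      obtain ⟨j, rfl⟩ :=
        (isOfFinOrder_of_finite s).mem_powers_iff_mem_zpowers.mpr (hsS.ge hxS')
      simp only at hi ⊢
      have h1 : p ^ (k + 1) ∣ j * p ^ i := by
        rw [← hso, orderOf_dvd_iff_pow_eq_one, pow_mul, ← hi, pow_orderOf_eq_one]
      have h2 : p ^ k * p ∣ j * p ^ k :=
        (pow_succ p k) ▸ h1.trans (mul_dvd_mul_left j (pow_dvd_pow p hik))
      rw [mul_comm j] at h2
      obtain ⟨l, rfl⟩ := Nat.dvd_of_mul_dvd_mul_left (pow_pos hp.pos k) h2
      rw [pow_mul]
      exact hc.pow_right l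
    · push Not at hcyc
      have hSp : IsPGroup p S := hN.to_le hSN
      -- the maximal subgroups of `S` are normal in `G`
      have hmaxn : ∀ M : Subgroup S, IsCoatom M → (M.map S.subtype).Normal := by
        intro M hM
        refine hall _ ((map_subtype_le M).trans hSN) (Or.inl ?_)
        rw [card_map_of_injective S.subtype_injective]
        have h1 := M.card_mul_index
        rw [Solvable.index_coatom hSp hM, hScard, pow_succ] at h1
        exact Nat.eq_of_mul_eq_mul_right hp.pos h1
      haveI hSn : S.Normal := by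
        refine ⟨fun s hs c => ?_⟩
        have hne : zpowers (⟨s, hs⟩ : S) ≠ ⊤ := fun h => hcyc s hs (by
          have := congrArg (Subgroup.map S.subtype) h
          rwa [MonoidHom.map_zpowers, ← MonoidHom.range_eq_map, range_subtype] at this)
        obtain ⟨M, hM, hsM⟩ := Solvable.exists_coatom_ge hne
        exact map_subtype_le M
          ((hmaxn M hM).conj_mem s ⟨⟨s, hs⟩, hsM (mem_zpowers _), rfl⟩ c)
      have hfr : ∀ a ∈ zpowers g, ∀ s ∈ S, ⁅s, a⁆ ∈ (frattini S).map S.subtype := by
        intro a ha s hs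
        have haA : a ∈ Transfer.elemResidual (p - 1) G := zpowers_le.mpr hg ha
        have hap : (orderOf a).Coprime p :=
          hgp.coprime_dvd_left (by
            rw [← Nat.card_zpowers g]; exact Subgroup.orderOf_dvd_natCard _ ha)
        have hmem : ⁅s, a⁆ ∈ S := by
          rw [commutatorElement_def, mul_assoc, mul_assoc]
          exact S.mul_mem hs (by simpa [mul_assoc] using hSn.conj_mem _ (S.inv_mem hs) a)
        refine ⟨⟨⁅s, a⁆, hmem⟩, ?_, rfl⟩
        rw [SetLike.mem_coe, Solvable.mem_frattini_iff]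
        intro M hM
        set M' := M.map S.subtype with hM'
        haveI := hmaxn M hM
        have key : ⁅s, a⁆ ∈ M' := by
          by_cases hsM : (⟨s, hs⟩ : S) ∈ M
          · have h1 : s ∈ M' := ⟨_, hsM, rfl⟩
            rw [commutatorElement_def, mul_assoc, mul_assoc]
            refine M'.mul_mem h1 ?_
            rw [← mul_assoc]
            exact (hmaxn M hM).conj_mem _ (M'.inv_mem h1) a
          set f := QuotientGroup.mk' M'
          have hgen : S.map f = zpowers (f s) := by
            have h1 : zpowers (⟨s, hs⟩ : S) ⊔ M = ⊤ := by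
              refine hM.2 _ (lt_of_le_of_ne le_sup_right fun h => hsM ?_)
              exact h.ge (mem_sup_left (mem_zpowers _))
            have h2 := congrArg (fun L : Subgroup S => (L.map S.subtype).map f) h1
            simp only [Subgroup.map_sup, MonoidHom.map_zpowers] at h2
            rw [← hM', QuotientGroup.map_mk'_self, sup_bot_eq, ← MonoidHom.range_eq_map,
              range_subtype] at h2
            exact h2.symm
          obtain ⟨j, hj⟩ := IsPGroup.iff_orderOf.mp hSp ⟨s, hs⟩
          rw [Subgroup.orderOf_mk] at hj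
          obtain ⟨j', -, hj'⟩ := (Nat.dvd_prime_pow hp).mp (hj ▸ orderOf_map_dvd f s)
          have hc := commute_of_mem_elemResidual_of_normal hj'
            (hgen ▸ hSn.map f (QuotientGroup.mk'_surjective M'))
            (Transfer.map_elemResidual_le f ⟨a, haA, rfl⟩)
            (hap.coprime_dvd_left (orderOf_map_dvd f a))
          rw [← QuotientGroup.eq_one_iff, ← QuotientGroup.mk'_apply, map_commutatorElement,
            commutatorElement_eq_one_iff_commute]
          exact hc.symm
        obtain ⟨w, hw, hwe⟩ := key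
        rwa [show (⟨⁅s, a⁆, hmem⟩ : S) = w from Subtype.ext hwe.symm]
      have hAS : zpowers g ≤ normalizer (S : Set G) := by
        rw [normalizer_eq_top_iff.mpr hSn]; exact le_top
      have hcop : (Nat.card (zpowers g)).Coprime (Nat.card (frattini S)) := by
        obtain ⟨j, hj⟩ := IsPGroup.iff_card.mp (hSp.to_subgroup (frattini S))
        rw [Nat.card_zpowers, hj]
        exact hgp.pow_right j
      have := Coprime.le_centralizer_of_commutator_le_frattini hAS hcop
        (commutator_le.mpr fun s hs a ha => hfr a ha s hs)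
      exact (this (mem_zpowers g) x hxS').symm
  · -- an element of order 4 with `d = 2`
    push Not at hik
    have hi2 : i ≤ 2 := by
      have h2 : p ^ i ∣ p ^ 2 := by
        rcases hx' with h1 | ⟨rfl, h1⟩
        · exact hi ▸ (orderOf_dvd_of_pow_eq_one h1).trans (dvd_pow_self p two_ne_zero)
        · exact hi ▸ orderOf_dvd_of_pow_eq_one h1
      exact (Nat.pow_dvd_pow_iff_le_right hp.one_lt).mp h2
    obtain ⟨rfl, rfl⟩ : k = 1 ∧ i = 2 := by omega
    have hp2 : p = 2 := by
      rcases hx' with h1 | ⟨h, -⟩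
      · exfalso
        have := hi ▸ orderOf_dvd_of_pow_eq_one h1
        nth_rewrite 2 [← pow_one p] at this
        exact absurd ((Nat.pow_dvd_pow_iff_le_right hp.one_lt).mp this) (by norm_num)
      · exact h
    refine commute_of_mem_elemResidual_of_normal hi (hall _ (zpowers_le.mpr hx) (Or.inr ⟨?_, ?_⟩))
      hg hgp
    · rw [hp2, pow_one]
    · rw [Nat.card_zpowers, hi, hp2]
      norm_num

/-- The image of an H-subgroup of `p`-power order modulo a normal `p'`-subgroup. -/
theorem IsHSub.map_mk' [Finite G] [Fact p.Prime] {E : Subgroup G} (hE : IsHSub E)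
    (hEp : IsPGroup p E) (K : Subgroup G) [K.Normal] (hK : (Nat.card K).Coprime p) :
    IsHSub (E.map (QuotientGroup.mk' K)) := by
  set f := QuotientGroup.mk' K with hf
  rintro gb w ⟨hwg, hwN⟩
  obtain ⟨g, rfl⟩ := QuotientGroup.mk'_surjective K gb
  obtain ⟨_, ⟨e, he, rfl⟩, rfl⟩ := hwg
  set c := g * e * g⁻¹ with hc
  have hwc : (MulAut.conj (f g)).toMonoidHom (f e) = f c := by simp [hc]
  rw [hwc] at hwN ⊢
  have hcN : c ∈ normalizer ((E ⊔ K : Subgroup G) : Set G) := by
    have h1 : c ∈ (normalizer ((E.map f : Subgroup (G ⧸ K)) : Set (G ⧸ K))).comap f := hwN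
    rw [comap_normalizer_eq_of_surjective _ (QuotientGroup.mk'_surjective K), comap_map_eq,
      QuotientGroup.ker_mk'] at h1
    exact h1
  -- `c` moves into `normalizer E` modulo `K`
  have hEEK : E ≤ E ⊔ K := le_sup_left
  have hEidx : ¬ p ∣ (E.subgroupOf (E ⊔ K)).index := by
    have h1 := card_sup_mul_card_inf E K
    have h2 := card_mul_index (E.subgroupOf (E ⊔ K))
    rw [Nat.card_congr (subgroupOfEquivOfLe hEEK).toEquiv] at h2
    intro hd
    rw [← h2, mul_assoc] at h1
    have h3 := Nat.eq_of_mul_eq_mul_left Nat.card_pos h1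
    exact (Fact.out : p.Prime).coprime_iff_not_dvd.mp hK.symm (h3 ▸ hd.trans (dvd_mul_right _ _))
  have hEs : IsPGroup p ↥(E.subgroupOf (E ⊔ K)) := hEp.comap_subtype
  let T : Sylow p ↥(E ⊔ K) := hEs.toSylow hEidx
  have hcE : E.map (MulAut.conj c).toMonoidHom ≤ E ⊔ K := by
    refine (map_mono hEEK).trans ?_
    exact (mem_normalizer_iff_map_conj_eq.mp hcN).le
  obtain ⟨U, hU⟩ := ((hEp.map (MulAut.conj c).toMonoidHom).comap_subtype
    (K := E ⊔ K)).exists_le_sylow
  obtain ⟨u, hu⟩ := MulAction.exists_smul_eq ↥(E ⊔ K) U T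
  have huc : (u : G) * c ∈ normalizer (E : Set G) := by
    rw [mem_normalizer_iff_map_conj_eq]
    refine eq_of_le_of_card_ge ?_ (card_map_of_injective (MulAut.conj _).injective).ge
    rintro _ ⟨z, hz, rfl⟩
    have hzK : c * z * c⁻¹ ∈ E ⊔ K := hcE ⟨z, hz, rfl⟩
    have h : u * (⟨c * z * c⁻¹, hzK⟩ : ↥(E ⊔ K)) * u⁻¹ ∈ (T : Subgroup ↥(E ⊔ K)) := by
      rw [← hu, Sylow.coe_subgroup_smul]
      exact smul_mem_pointwise_smul _ (MulAut.conj u) _ (hU ⟨z, hz, rfl⟩)
    have h' : (u : G) * (c * z * c⁻¹) * (u : G)⁻¹ ∈ E := h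
    simpa [mul_assoc] using h'
  set W := E ⊔ zpowers ((u : G) * c) with hW
  have hWN : W ≤ normalizer (E : Set G) := sup_le le_normalizer (zpowers_le.mpr huc)
  have hcW : c ∈ W ⊔ K := by
    have hu' : (u : G) ∈ W ⊔ K := (sup_le_sup_right le_sup_left K) u.2
    have := (W ⊔ K).mul_mem ((W ⊔ K).inv_mem hu')
      (mem_sup_left (mem_sup_right (mem_zpowers ((u : G) * c))) : (u : G) * c ∈ W ⊔ K)
    rwa [inv_mul_cancel_left] at this
  have hWEK : W ⊔ K ≤ normalizer ((E ⊔ K : Subgroup G) : Set G) :=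
    sup_le (sup_le (le_sup_left.trans le_normalizer) (zpowers_le.mpr
      (mul_mem (le_normalizer u.2) hcN))) (le_sup_right.trans le_normalizer)
  -- the image of `W` is a `p`-group, covered by a Sylow subgroup of `W`
  have hWf : W.map f ≤ (E.map f) ⊔ zpowers (f c) := by
    rw [hW, Subgroup.map_sup, MonoidHom.map_zpowers, map_mul]
    refine sup_le le_sup_left (zpowers_le.mpr (mul_mem (mem_sup_left ?_)
      (mem_sup_right (mem_zpowers _))))
    have := mem_map_of_mem f u.2
    rwa [Subgroup.map_sup, QuotientGroup.map_mk'_self, sup_bot_eq] at this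
  have hcp : IsPGroup p (zpowers c) := by
    have := (hEp.to_le (zpowers_le.mpr he)).map (MulAut.conj g).toMonoidHom
    rwa [MonoidHom.map_zpowers] at this
  have hWfp : IsPGroup p (W.map f) := by
    refine IsPGroup.to_le ?_ hWf
    refine (hEp.map f).to_sup_of_normal_left' ?_ (zpowers_le.mpr hwN)
    have := hcp.map f
    rwa [MonoidHom.map_zpowers] at this
  obtain ⟨RW⟩ : Nonempty (Sylow p W) := inferInstance
  set R := (RW : Subgroup W).map W.subtype with hR
  have hRW : R ≤ W := map_subtype_le _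
  have hRp : IsPGroup p R := RW.2.map _
  have hRf : R.map f = W.map f := by
    refine le_antisymm (map_mono hRW) ?_
    have h1 : ((RW : Subgroup W).map ((f.domRestrict W).rangeRestrict)) = ⊤ := by
      have h2 : IsPGroup p (f.domRestrict W).range := by
        rwa [MonoidHom.domRestrict_range]
      let T' := RW.mapSurjective (f.domRestrict W).rangeRestrict_surjective
      have h3 : (⊤ : Subgroup ↥(f.domRestrict W).range) = (T' : Subgroup _) :=
        T'.3 (h2.to_subgroup ⊤) le_top
      rw [← Sylow.coe_mapSurjective]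
      exact h3.symm
    rintro _ ⟨z, hz, rfl⟩
    obtain ⟨r, hr, hre⟩ := h1.ge (mem_top (⟨f z, ⟨z, hz⟩, rfl⟩ : (f.domRestrict W).range))
    exact ⟨r, mem_map_of_mem _ hr, congrArg Subtype.val hre⟩
  -- `c` has a conjugate in `R` under `W ⊔ K`
  obtain ⟨R', hR'⟩ := (hRp.comap_subtype (K := W ⊔ K)).exists_le_sylow
  obtain ⟨C', hC'⟩ := (hcp.comap_subtype (K := W ⊔ K)).exists_le_sylow
  have hR'eq : (R' : Subgroup ↥(W ⊔ K)) = R.subgroupOf (W ⊔ K) := by
    refine le_antisymm ?_ hR'
    intro z hz
    have h1 : f z ∈ R.map f := by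
      rw [hRf]
      have := mem_map_of_mem f z.2
      rwa [Subgroup.map_sup, QuotientGroup.map_mk'_self, sup_bot_eq] at this
    obtain ⟨r, hr, hrz⟩ := h1
    have hr' : r ∈ W ⊔ K := mem_sup_left (hRW hr)
    have h2 : r⁻¹ * (z : G) ∈ K := by
      rw [← QuotientGroup.eq]; exact hrz
    have h3 : (⟨r, hr'⟩⁻¹ * z : ↥(W ⊔ K)) ∈ (R' : Subgroup ↥(W ⊔ K)) :=
      mul_mem (inv_mem (hR' (mem_subgroupOf.mpr hr))) hz
    obtain ⟨j, hj⟩ := IsPGroup.iff_orderOf.mp R'.2 ⟨_, h3⟩
    rw [Subgroup.orderOf_mk, ← Subgroup.orderOf_coe] at hj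
    have h4 : orderOf (r⁻¹ * (z : G)) = 1 := by
      have hdvd := Subgroup.orderOf_dvd_natCard _ h2
      refine Nat.eq_one_of_dvd_coprimes (hK.pow_right j) hdvd ?_
      rw [← hj]; rfl
    rw [orderOf_eq_one_iff, inv_mul_eq_one] at h4
    exact mem_subgroupOf.mpr (h4 ▸ hr)
  obtain ⟨l, hl⟩ := MulAction.exists_smul_eq ↥(W ⊔ K) C' R'
  have hlc : (l : G) * c * (l : G)⁻¹ ∈ R := by
    have h : l * (⟨c, hcW⟩ : ↥(W ⊔ K)) * l⁻¹ ∈ (R' : Subgroup ↥(W ⊔ K)) := by
      rw [← hl, Sylow.coe_subgroup_smul]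
      exact smul_mem_pointwise_smul _ (MulAut.conj l) _ (hC' (mem_zpowers c))
    rw [hR'eq] at h
    exact mem_subgroupOf.mp h
  have hlE : (l : G) * g * e * ((l : G) * g)⁻¹ ∈ E := by
    refine hE.conj_mem he ?_
    have := hWN (hRW hlc)
    simpa [hc, mul_assoc] using this
  have hcEK : c ∈ E ⊔ K := by
    have h := (mem_normalizer_iff''.mp (hWEK l.2) ((l : G) * g * e * ((l : G) * g)⁻¹)).mp
      (hEEK hlE)
    simpa [hc, mul_assoc] using h
  have := mem_map_of_mem f hcEK
  rwa [Subgroup.map_sup, QuotientGroup.map_mk'_self, sup_bot_eq] at this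

/-- The hypothesis of the theorem below. -/
def HasHSubSylows (E : Subgroup G) : Prop :=
  ∀ (p : ℕ), p.Prime → ∀ P : Subgroup G, P ≤ E → IsPGroup p P → ¬ p ∣ P.relIndex E →
    ¬ IsCyclic ↥P → ∃ D : Subgroup G, D ≤ P ∧ 1 < Nat.card D ∧ Nat.card D < Nat.card P ∧
      ∀ F : Subgroup G, F ≤ P → (Nat.card F = Nat.card D ∨ (Nat.card D = 2 ∧ Nat.card F = 4)) →
        IsHSub F

theorem isSupersolvable_of_hSub [Finite G] (n : ℕ) :
    ∀ (E : Subgroup G) [E.Normal], Nat.card E = n → Cfsg.IsSupersolvable (G ⧸ E) →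
      HasHSubSylows E → Cfsg.IsSupersolvable G := by
  induction n using Nat.strong_induction_on with
  | _ n ih =>
  intro E _ hn hGE h
  by_cases hE1 : Nat.card E = 1
  · obtain rfl := eq_bot_of_card_eq E hE1
    exact isSupersolvable_of_surjective hGE QuotientGroup.quotientBot.toMonoidHom
      QuotientGroup.quotientBot.surjective
  set p := (Nat.card E).minFac with hpdef
  haveI : Fact p.Prime := ⟨Nat.minFac_prime hE1⟩
  have hp := (Fact.out : p.Prime)
  have hpE : p ∣ Nat.card E := Nat.minFac_dvd _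
  have hminE : ∀ q : ℕ, q.Prime → q ∣ Nat.card E → p ≤ q :=
    fun q hq hd => Nat.minFac_le_of_dvd hq.two_le hd
  obtain ⟨PE⟩ : Nonempty (Sylow p E) := inferInstance
  set P := (PE : Subgroup E).map E.subtype with hP
  have hPE : P ≤ E := map_subtype_le _
  have hPp : IsPGroup p P := PE.2.map _
  have hPsub : P.subgroupOf E = (PE : Subgroup E) := by
    rw [hP, subgroupOf, comap_map_eq_self_of_injective E.subtype_injective]
  have hPidx : ¬ p ∣ P.relIndex E := by
    rw [relIndex, hPsub]; exact PE.not_dvd_index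
  have hPc : Nat.card P = Nat.card (PE : Subgroup E) :=
    card_map_of_injective E.subtype_injective
  -- `E` has a normal `p`-complement
  have hcase : IsCyclic ↥P ∨ ∃ k, 1 ≤ k ∧ p ^ k < Nat.card P ∧
      ∀ F : Subgroup G, F ≤ P → (Nat.card F = p ^ k ∨ (p ^ k = 2 ∧ Nat.card F = 4)) →
        IsHSub F := by
    by_cases hc : IsCyclic ↥P
    · exact Or.inl hc
    obtain ⟨D, hDP, hD1, hD2, hD⟩ := h p hp P hPE hPp hPidx hc
    obtain ⟨k, hk⟩ := IsPGroup.iff_card.mp (hPp.to_le hDP)
    refine Or.inr ⟨k, ?_, hk ▸ hD2, fun F hF hF' => hD F hF (by rwa [hk])⟩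
    by_contra h0
    rw [show k = 0 by omega, pow_zero] at hk
    omega
  have hEnil : Cfsg.HasNormalPComplement p E := by
    rcases hcase with hc | ⟨k, hk, hkP, hF⟩
    · haveI : IsCyclic (PE : Subgroup E) :=
        isCyclic_of_surjective (equivMapOfInjective _ _ E.subtype_injective).symm.toMonoidHom
          (MulEquiv.surjective _)
      exact ⟨PE, _, inferInstance, IsCyclic.isComplement' rfl ‹_›⟩
    · refine hasNormalPComplement_of_allHSub _ E rfl hminE k hk ?_ PE (hPc ▸ hkP)
      refine allHSub_of_sylow PE fun F hFP hFc => ?_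
      have hcm : Nat.card (F.map E.subtype) = Nat.card F :=
        card_map_of_injective E.subtype_injective
      have := (hF (F.map E.subtype) (map_mono hFP) (by rw [hcm]; exact hFc)).subgroupOf
        (map_subtype_le F)
      rwa [subgroupOf, comap_map_eq_self_of_injective E.subtype_injective] at this
  set K₀ := Cfsg.pResidual p E
  set K := K₀.map E.subtype with hKdef
  have hK₀ : ¬ p ∣ Nat.card K₀ := Transfer.hasNormalPComplement_iff.mp hEnil
  have hKc : Nat.card K = Nat.card K₀ := card_map_of_injective E.subtype_injective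
  have hKcop : (Nat.card K).Coprime p := (hp.coprime_iff_not_dvd.mpr (hKc ▸ hK₀)).symm
  have hKE : K ≤ E := map_subtype_le _
  haveI hKn : K.Normal := by
    refine ⟨fun x hx g => ?_⟩
    have : K ≤ K.comap (MulAut.conj g).toMonoidHom := by
      rw [hKdef, Transfer.map_subtype_pResidual, closure_le]
      rintro y ⟨hyE, hyo⟩
      refine subset_closure ⟨Normal.conj_mem ‹E.Normal› y hyE g, ?_⟩
      rwa [show orderOf ((MulAut.conj g).toMonoidHom y) = orderOf y from
        orderOf_injective _ (MulAut.conj g).injective y]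
    exact this hx
  have hlt : Nat.card K < n := by
    rw [← hn]
    exact lt_of_le_of_ne (card_le_of_le hKE) fun he => (hKc ▸ hK₀) (he ▸ hpE)
  refine ih _ hlt K rfl ?_ ?_
  swap
  · intro q hq Q hQK hQ hQidx hQc
    haveI : Fact q.Prime := ⟨hq⟩
    have hqp : q ≠ p := by
      rintro rfl
      apply hQc
      have : Q = ⊥ := by
        rcases hQ.card_eq_or_dvd with h1 | h1
        · exact eq_bot_of_card_eq Q h1
        · exact absurd (h1.trans (card_dvd_of_le hQK)) (hp.coprime_iff_not_dvd.mp hKcop.symm)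
      subst this
      infer_instance
    refine h q hq Q (hQK.trans hKE) hQ ?_ hQc
    rw [← relIndex_mul_relIndex Q K E hQK hKE]
    refine hq.not_dvd_mul hQidx fun hd => ?_
    have h1 : K.subgroupOf E = K₀ := by
      rw [hKdef, subgroupOf, comap_map_eq_self_of_injective E.subtype_injective]
    rw [relIndex, h1] at hd
    obtain ⟨j, hj⟩ := Transfer.exists_index_pResidual_eq_pow (p := p) (G := E)
    rw [hj] at hd
    exact hqp ((Nat.prime_dvd_prime_iff_eq hq hp).mp (hq.dvd_of_dvd_pow hd))
  -- the quotient by `K`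
  set f := QuotientGroup.mk' K
  have hf : Function.Surjective f := QuotientGroup.mk'_surjective K
  haveI : (E.map f).Normal := Normal.map ‹E.Normal› f hf
  have hEeq : E = P ⊔ K := by
    have h1 := congrArg (Subgroup.map E.subtype) (Transfer.sylow_sup_pResidual PE)
    rw [Subgroup.map_sup, ← MonoidHom.range_eq_map, range_subtype] at h1
    exact h1.symm
  have hEf : E.map f = P.map f := by
    rw [hEeq, Subgroup.map_sup, QuotientGroup.map_mk'_self, sup_bot_eq]
  have hdisj : Disjoint P K := by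
    refine disjoint_iff.mpr (eq_bot_of_card_eq _ ?_)
    obtain ⟨j, hj⟩ := IsPGroup.iff_card.mp hPp
    exact Nat.eq_one_of_dvd_coprimes ((hKcop.pow_right j).symm)
      (hj ▸ card_dvd_of_le inf_le_left) (card_dvd_of_le inf_le_right)
  refine isSupersolvable_of_normal_pGroup (p := p) (E.map f) (hEf ▸ hPp.map f) ?_
    (isSupersolvable_of_surjective hGE
      (QuotientGroup.map E (E.map f) f (le_comap_map f E)) ?_)
  swap
  · intro y
    obtain ⟨y, rfl⟩ := QuotientGroup.mk'_surjective _ y
    obtain ⟨y, rfl⟩ := hf y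
    exact ⟨QuotientGroup.mk' E y, rfl⟩
  intro a ha hap x hx
  rcases hcase with hc | ⟨k, hk, hkP, hF⟩
  · obtain ⟨s, hs⟩ := (Subgroup.isCyclic_iff_exists_zpowers_eq_top P).mp hc
    have hN : E.map f = zpowers (f s) := by rw [hEf, ← hs, MonoidHom.map_zpowers]
    obtain ⟨j, hj⟩ := IsPGroup.iff_orderOf.mp (hPp.map f)
      ⟨f s, mem_map_of_mem f (hs.le (mem_zpowers s))⟩
    rw [Subgroup.orderOf_mk] at hj
    have hc' := commute_of_mem_elemResidual_of_normal hj (hN ▸ ‹(E.map f).Normal›) ha hap
    rw [hN] at hx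
    obtain ⟨z, rfl⟩ := mem_zpowers_iff.mp hx
    exact hc'.zpow_right z
  · refine commute_of_all_normal (hEf ▸ hPp.map f) hk ?_ (fun F hFN hFc => ?_) ha hap x hx
    · rw [hEf, Solvable.card_map_mk'_of_disjoint K P hdisj]; exact hkP
    set F' := P ⊓ F.comap f with hF'
    have hF'F : F'.map f = F := by
      refine le_antisymm ?_ fun w hw => ?_
      · rintro _ ⟨z, hz, rfl⟩
        exact hz.2
      · obtain ⟨z, hz, rfl⟩ := (hEf ▸ hFN) hw
        exact ⟨z, ⟨hz, hw⟩, rfl⟩
    have hF'c : Nat.card F' = Nat.card F := by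
      rw [← Solvable.card_map_mk'_of_disjoint K F' (hdisj.mono_left inf_le_left), hF'F]
    have hF'p : IsPGroup p F' := hPp.to_le inf_le_left
    have hH : IsHSub F := hF'F ▸ (hF F' inf_le_left (by rw [hF'c]; exact hFc)).map_mk' hF'p K hKcop
    refine normalizer_eq_top_iff.mp (top_le_iff.mp fun g _ => ?_)
    refine hH.mem_normalizer hFN (hH.le_normalizer_of_isPGroup (hEf ▸ hPp.map f) hFN) ?_
    rw [normalizer_eq_top_iff.mpr ‹(E.map f).Normal›]
    trivial

end CfsgLib.LocalEven50
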