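import Cfsg.Agent.LocalEven50.PushingUpBase
import Cfsg.Agent.LocalEven50.SL2Natural

/-!
# The map onto `PSL₂(q)` in standard position
-/

set_option linter.style.haveILetI false
set_option linter.unusedSectionVars false

namespace CfsgLib.LocalEven50

open Subgroup Cfsg
open scoped MatrixGroups commutatorElement

variable {F : Type*} [Field F]

/-- The upper root group of `PSL₂(F)`. -/
noncomputable def pUpper (F : Type*) [Field F] :
    Multiplicative F →* Matrix.ProjectiveSpecialLinearGroup (Fin 2) F :=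
  (QuotientGroup.mk' (center (Matrix.SpecialLinearGroup (Fin 2) F))).comp (upperHom F)

/-- The lower root group of `PSL₂(F)`. -/
noncomputable def pLower (F : Type*) [Field F] :
    Multiplicative F →* Matrix.ProjectiveSpecialLinearGroup (Fin 2) F :=
  (QuotientGroup.mk' (center (Matrix.SpecialLinearGroup (Fin 2) F))).comp (lowerHom F)

theorem coe_upper (t : Multiplicative F) :
    ((upperHom F t : SL(2, F)) : Matrix (Fin 2) (Fin 2) F) = !![1, t.toAdd; 0, 1] := rfl

theorem coe_lower (t : Multiplicative F) :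
    ((lowerHom F t : SL(2, F)) : Matrix (Fin 2) (Fin 2) F) = !![1, 0; t.toAdd, 1] := rfl

theorem center_apply {z : SL(2, F)} (hz : z ∈ center SL(2, F)) :
    (z : Matrix (Fin 2) (Fin 2) F) 0 1 = 0 ∧ (z : Matrix (Fin 2) (Fin 2) F) 1 0 = 0 := by
  have h1 := congrArg (fun m : SL(2, F) => (m : Matrix (Fin 2) (Fin 2) F))
    (mem_center_iff.mp hz (lowerHom F (.ofAdd 1)))
  have h2 := congrArg (fun m : SL(2, F) => (m : Matrix (Fin 2) (Fin 2) F))
    (mem_center_iff.mp hz (upperHom F (.ofAdd 1)))
  simp only [Matrix.SpecialLinearGroup.coe_mul, coe_upper, coe_lower] at h1 h2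
  have e1 := congrFun (congrFun h1 0) 0
  have e2 := congrFun (congrFun h2 0) 0
  simp [Matrix.mul_apply, Fin.sum_univ_two] at e1 e2
  exact ⟨e1, e2⟩

theorem eq_one_of_pUpper_eq_pLower {s t : Multiplicative F} (h : pUpper F s = pLower F t) :
    s = 1 ∧ t = 1 := by
  have hz : (upperHom F s)⁻¹ * lowerHom F t ∈ center SL(2, F) := by
    rw [← QuotientGroup.eq_one_iff, QuotientGroup.mk_mul, QuotientGroup.mk_inv]
    exact inv_mul_eq_one.mpr h
  rw [← map_inv] at hz
  obtain ⟨h01, h10⟩ := center_apply hz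
  simp only [Matrix.SpecialLinearGroup.coe_mul, coe_upper, coe_lower] at h01 h10
  simp [Matrix.mul_apply, Fin.sum_univ_two] at h01 h10
  exact ⟨h01, h10⟩

theorem pUpper_injective : Function.Injective (pUpper F) :=
  (injective_iff_map_eq_one _).mpr fun t ht =>
    (eq_one_of_pUpper_eq_pLower (t := 1) (by rw [ht, map_one])).1

theorem pLower_injective : Function.Injective (pLower F) :=
  (injective_iff_map_eq_one _).mpr fun t ht =>
    (eq_one_of_pUpper_eq_pLower (s := 1) (by rw [ht, map_one])).2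

theorem pRot_conj (t : Multiplicative F) :
    (QuotientGroup.mk' (center SL(2, F))) (rotSL : SL(2, F)) * pUpper F t *
      ((QuotientGroup.mk' (center SL(2, F))) (rotSL : SL(2, F)))⁻¹ = pLower F t⁻¹ := by
  show _ * QuotientGroup.mk' _ (upperHom F t) * _ = QuotientGroup.mk' _ (lowerHom F t⁻¹)
  rw [lower_eq, inv_inv, map_mul, map_mul, map_inv]

variable {G : Type*} [Group G] [Finite G] {p : ℕ} [Fact p.Prime] {M : Subgroup G} {q : ℕ} {a : G}

/-- The quotient map onto `PSL₂(F)` can be chosen so that `S^a` maps onto the upper and `S` onto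
the lower root group. -/
theorem exists_pslHom [Fintype F] {S : Sylow p G} (B : PUCore p (S : Subgroup G) M q a)
    (K : Subgroup G) [K.Normal] {n : ℕ} (hF : Fintype.card F = p ^ n)
    (e : G ⧸ K ≃* Matrix.ProjectiveSpecialLinearGroup (Fin 2) F) :
    ∃ φ : G →* Matrix.ProjectiveSpecialLinearGroup (Fin 2) F, Function.Surjective φ ∧
      φ.ker ⊓ (S : Subgroup G) = pCore p G ∧
      (cj a (S : Subgroup G)).map φ = (pUpper F).range ∧
      (S : Subgroup G).map φ = (pLower F).range ∧ Fintype.card F = q := by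
  classical
  haveI := pCore_normal p G
  set π := QuotientGroup.mk' (center SL(2, F))
  set φ₀ := e.toMonoidHom.comp (QuotientGroup.mk' K)
  have hφ₀ : Function.Surjective φ₀ := e.surjective.comp (QuotientGroup.mk'_surjective K)
  obtain ⟨U, -, hUc, -⟩ := psl2_sylow_generation (p := p) F hF
  have hcardU : Nat.card ↥(pUpper F).range = Fintype.card F := by
    rw [Nat.card_congr (MonoidHom.ofInjective pUpper_injective).toEquiv.symm,
      ← Nat.card_eq_fintype_card]
    exact Nat.card_congr Multiplicative.toAdd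
  have hpU : IsPGroup p ↥(pUpper F).range := IsPGroup.of_card (n := n) (hcardU.trans hF)
  obtain ⟨Q, hQ⟩ := hpU.exists_le_sylow
  have hQU : (Q : Subgroup (Matrix.ProjectiveSpecialLinearGroup (Fin 2) F)) = (pUpper F).range :=
    (eq_of_le_of_card_ge hQ (by
      rw [hcardU, ← hUc]; exact (Nat.card_congr (Q.equiv U).toEquiv).le)).symm
  set P0 := S.mapSurjective hφ₀
  set P1 := (a • S).mapSurjective hφ₀
  have hP0 : (P0 : Subgroup _) = (S : Subgroup G).map φ₀ := Sylow.coe_mapSurjective hφ₀ S
  have hP1 : (P1 : Subgroup _) = (cj a (S : Subgroup G)).map φ₀ := by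
    rw [Sylow.coe_mapSurjective, Sylow.coe_subgroup_smul]
    rfl
  -- the two Sylow subgroups differ
  have hne : P0 ≠ P1 := by
    intro h
    have hle : (cj a (S : Subgroup G)).map φ₀ ≤ (S : Subgroup G).map φ₀ := by rw [← hP0, ← hP1, h]
    obtain ⟨x, hx, hxR⟩ := B.exists_not_core_cj
    have htop := congrArg (Subgroup.map φ₀) (B.gen hx hxR)
    rw [Subgroup.map_sup, map_top_of_surjective _ hφ₀, sup_eq_right.mpr
      ((map_mono (zpowers_le.mpr hx)).trans hle)] at htop
    obtain ⟨d, hd⟩ := MulAction.exists_smul_eq (Matrix.ProjectiveSpecialLinearGroup (Fin 2) F) Q P0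
    have h2 : (Q : Subgroup (Matrix.ProjectiveSpecialLinearGroup (Fin 2) F)) = ⊤ := by
      have h3 := congrArg
        (fun T : Sylow p (Matrix.ProjectiveSpecialLinearGroup (Fin 2) F) =>
          (T : Subgroup (Matrix.ProjectiveSpecialLinearGroup (Fin 2) F))) hd
      simp only [Sylow.coe_subgroup_smul, hP0, htop] at h3
      apply map_injective (f := (MulAut.conj d).toMonoidHom) (MulAut.conj d).injective
      rw [map_top_of_surjective _ (MulAut.conj d).surjective]
      exact h3
    obtain ⟨t, ht⟩ := (hQU.symm.trans h2).ge (mem_top (pLower F (.ofAdd 1)))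
    exact one_ne_zero (congrArg Multiplicative.toAdd (eq_one_of_pUpper_eq_pLower ht).2)
  obtain ⟨d, hd⟩ := MulAction.exists_smul_eq (Matrix.ProjectiveSpecialLinearGroup (Fin 2) F) Q P1
  obtain ⟨c, hc⟩ := MulAction.exists_smul_eq (Matrix.ProjectiveSpecialLinearGroup (Fin 2) F) Q
    (d⁻¹ • P0)
  have hmemQ : ∀ (b y : Matrix.ProjectiveSpecialLinearGroup (Fin 2) F),
      y ∈ ((b • Q : Sylow p _) : Subgroup _) ↔ b⁻¹ * y * b ∈ (pUpper F).range := by
    intro b y
    rw [Sylow.coe_subgroup_smul, Subgroup.mem_pointwise_smul_iff_inv_smul_mem, hQU]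
    simp
  obtain ⟨g, rfl⟩ := QuotientGroup.mk'_surjective _ c
  obtain ⟨s, hs⟩ : ∃ s, ∀ y, y ∈ ((π g • Q : Sylow p _) : Subgroup _) ↔
      (pUpper F s)⁻¹ * y * pUpper F s ∈ (pLower F).range := by
    have hU : ∀ (t : Multiplicative F) y, (pUpper F t)⁻¹ * y * pUpper F t ∈ (pUpper F).range ↔
        y ∈ (pUpper F).range := fun t y => by
      have ht : pUpper F t ∈ (pUpper F).range := ⟨t, rfl⟩
      rw [Subgroup.mul_mem_cancel_right _ ht, Subgroup.mul_mem_cancel_left _ (inv_mem ht)]
    have hD : ∀ (b : Fˣ) y, (π (diagHom b))⁻¹ * y * π (diagHom b) ∈ (pUpper F).range ↔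
        y ∈ (pUpper F).range := by
      intro b y
      have key : ∀ (b : Fˣ) (t : Multiplicative F),
          π (diagHom b) * pUpper F t * (π (diagHom b))⁻¹ ∈ (pUpper F).range := fun b t => by
        refine ⟨.ofAdd ((b : F) * b * t.toAdd), ?_⟩
        rw [eq_mul_inv_iff_mul_eq]
        show π _ * π _ = π _ * π _
        rw [← map_mul, ← map_mul, ← diag_mul_upper, ofAdd_toAdd]
      constructor
      · rintro ⟨t, ht⟩
        obtain ⟨t', ht'⟩ := key b t
        exact ⟨t', by rw [ht', ht]; group⟩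
      · rintro ⟨t, rfl⟩
        obtain ⟨t', ht'⟩ := key b⁻¹ t
        exact ⟨t', by rw [ht', map_inv, map_inv, inv_inv]⟩
    rcases bruhat g with ⟨b, t, rfl⟩ | ⟨b, s, t, rfl⟩
    · exfalso
      apply hne
      have h1 : (π (diagHom b * upperHom F t) • Q) = Q := by
        refine Sylow.ext (SetLike.ext fun y => ?_)
        rw [hmemQ, hQU, map_mul, show ((π (diagHom b)) * π (upperHom F t))⁻¹ * y *
          (π (diagHom b) * π (upperHom F t)) = (pUpper F t)⁻¹ *
            ((π (diagHom b))⁻¹ * y * π (diagHom b)) * pUpper F t by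
          show _ = (π (upperHom F t))⁻¹ * _ * π (upperHom F t); group]
        rw [hU, hD]
      rw [h1] at hc
      rw [← hd, hc, smul_inv_smul]
    · refine ⟨s, fun y => ?_⟩
      rw [hmemQ]
      set w := π (rotSL : SL(2, F)) with hw
      have hW : ∀ z, w⁻¹ * z * w ∈ (pUpper F).range ↔ z ∈ (pLower F).range := by
        intro z
        constructor
        · rintro ⟨t, ht⟩
          exact ⟨t⁻¹, by rw [← pRot_conj, ← hw, ht]; group⟩
        · rintro ⟨t, rfl⟩
          refine ⟨t⁻¹, ?_⟩
          have := pRot_conj (F := F) t⁻¹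
          rw [inv_inv, ← hw] at this
          rw [← this]; group
      have hDL : ∀ z, (π (diagHom b))⁻¹ * z * π (diagHom b) ∈ (pLower F).range ↔
          z ∈ (pLower F).range := by
        intro z
        rw [← hW, ← hW z]
        have hwd : π (diagHom b) * w = w * π (diagHom b⁻¹) := by
          rw [hw, ← map_mul, ← map_mul]
          congr 1
          apply Subtype.ext
          show !![(b : F), 0; 0, ((b⁻¹ : Fˣ) : F)] * !![0, -1; 1, 0] =
            !![0, -1; 1, 0] * !![((b⁻¹ : Fˣ) : F), 0; 0, (((b⁻¹)⁻¹ : Fˣ) : F)]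
          ext i j; fin_cases i <;> fin_cases j <;> simp [Matrix.mul_apply, Fin.sum_univ_two]
        rw [show w⁻¹ * ((π (diagHom b))⁻¹ * z * π (diagHom b)) * w =
            (π (diagHom b) * w)⁻¹ * z * (π (diagHom b) * w) by group, hwd,
          show (w * π (diagHom b⁻¹))⁻¹ * z * (w * π (diagHom b⁻¹)) =
            (π (diagHom b⁻¹))⁻¹ * (w⁻¹ * z * w) * π (diagHom b⁻¹) by group, hD]
      have e1 : (π (upperHom F s * diagHom b * rotSL * upperHom F t))⁻¹ * y *
          π (upperHom F s * diagHom b * rotSL * upperHom F t) = (pUpper F t)⁻¹ *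
          (w⁻¹ * ((π (diagHom b))⁻¹ * ((pUpper F s)⁻¹ * y * pUpper F s) * π (diagHom b)) * w) *
            pUpper F t := by
        show _ = (π (upperHom F t))⁻¹ * (w⁻¹ * ((π (diagHom b))⁻¹ * ((π (upperHom F s))⁻¹ * y *
          π (upperHom F s)) * π (diagHom b)) * w) * π (upperHom F t)
        simp only [map_mul, ← hw]
        group
      rw [e1, hU, hW, hDL]
  set v := (d * pUpper F s)⁻¹ with hv
  set φ := (MulAut.conj v).toMonoidHom.comp φ₀ with hφdef
  have hφ : Function.Surjective φ := (MulAut.conj v).surjective.comp hφ₀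
  have hUimg : (cj a (S : Subgroup G)).map φ = (pUpper F).range := by
    ext y
    rw [hφdef, ← Subgroup.map_map, ← hP1, ← hd]
    show y ∈ cj v _ ↔ _
    rw [mem_cj, hmemQ]
    have hsU : pUpper F s ∈ (pUpper F).range := ⟨s, rfl⟩
    rw [show d⁻¹ * (v⁻¹ * y * v) * d = pUpper F s * y * (pUpper F s)⁻¹ by rw [hv]; group,
      Subgroup.mul_mem_cancel_right _ (inv_mem hsU), Subgroup.mul_mem_cancel_left _ hsU]
  have hLimg : (S : Subgroup G).map φ = (pLower F).range := by
    ext y
    rw [hφdef, ← Subgroup.map_map, ← hP0, ← smul_inv_smul d P0, ← hc]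
    show y ∈ cj v _ ↔ _
    rw [mem_cj, Sylow.coe_subgroup_smul, Subgroup.mem_pointwise_smul_iff_inv_smul_mem, hs]
    simp only [MulAut.smul_def, map_inv, MulAut.inv_apply, MulAut.conj_symm_apply]
    rw [show (pUpper F s)⁻¹ * (d⁻¹ * (v⁻¹ * y * v) * d) * pUpper F s = y by rw [hv]; group]
  have hker : φ.ker = K := by
    ext x
    rw [MonoidHom.mem_ker, hφdef, MonoidHom.comp_apply]
    show MulAut.conj v (e (QuotientGroup.mk' K x)) = 1 ↔ _
    rw [MulEquiv.map_eq_one_iff, MulEquiv.map_eq_one_iff, QuotientGroup.mk'_apply,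
      QuotientGroup.eq_one_iff]
  have hKM : K ≤ M := by
    by_contra hKM
    have h1 : K ⊔ (S : Subgroup G) = ⊤ := by
      by_contra hne'
      exact hKM (le_sup_left.trans (B.data.unique _ hne' le_sup_right))
    have h2 := congrArg (Subgroup.map φ) h1
    rw [Subgroup.map_sup, map_top_of_surjective φ hφ,
      (Subgroup.map_eq_bot_iff (f := φ) (H := K)).mpr hker.ge, bot_sup_eq, hLimg] at h2
    obtain ⟨t, ht⟩ := h2.ge (mem_top (pUpper F (.ofAdd 1)))
    exact one_ne_zero (congrArg Multiplicative.toAdd (eq_one_of_pUpper_eq_pLower ht.symm).1)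
  have hRK : pCore p G ≤ K := by
    intro r hr
    rw [← hker, MonoidHom.mem_ker]
    have hrU : φ r ∈ (pUpper F).range := hUimg ▸ mem_map_of_mem φ (mem_cj.mpr
      (B.core_le (by simpa using Normal.conj_mem inferInstance r hr a⁻¹)))
    have hrL : φ r ∈ (pLower F).range := hLimg ▸ mem_map_of_mem φ (B.core_le hr)
    obtain ⟨u, hu⟩ := hrU
    obtain ⟨l, hl⟩ := hrL
    rw [← hu, (eq_one_of_pUpper_eq_pLower (hu.trans hl.symm)).1, map_one]
  have hinf : φ.ker ⊓ (S : Subgroup G) = pCore p G :=
    le_antisymm (hker ▸ B.data.normal_inf K inferInstance hKM) (le_inf (hker ▸ hRK) B.core_le)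
  refine ⟨φ, hφ, hinf, hUimg, hLimg, ?_⟩
  rw [← B.data.index_core, ← hinf, inf_relIndex_right, relIndex_ker, hLimg,
    Nat.card_congr (MonoidHom.ofInjective pLower_injective).toEquiv.symm,
    ← Nat.card_eq_fintype_card]
  exact (Nat.card_congr Multiplicative.toAdd).symm

end CfsgLib.LocalEven50
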