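import Mathlib.Algebra.Module.Equiv.Basic
import Cfsg.Agent.LocalEven50.PushingUpPSL
import Cfsg.Agent.Coprime.Generation

/-!
# A section with quadratic `S` is the natural `SL₂(q)`-module

Given a surjection of `G` onto `PSL₂(F)` in standard position and a section `X/Y` that is the sum
of `C(S)` and its conjugate, each of order `q`, the action of `G` on `X/Y` lifts the surjection to
`SL₂(F)`, and the lift is determined by it.
-/

set_option linter.style.haveILetI false
set_option linter.unusedSectionVars false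

namespace CfsgLib.LocalEven50

open Subgroup Cfsg
open scoped MatrixGroups commutatorElement

variable {G : Type*} [Group G] [Finite G] {p : ℕ} [Fact p.Prime] {q : ℕ} {a : G}

/-- A section `X/Y` that is the direct sum of `D/Y`, the fixed points of `S`, and its conjugate. -/
structure IsNatSection (p : ℕ) (S : Subgroup G) (a : G) (q : ℕ) (X Y D : Subgroup G) : Prop where
  normX : X.Normal
  normY : Y.Normal
  le_D : Y ≤ D
  D_le : D ≤ X
  sup : D ⊔ cj a D = X
  inf : D ⊓ cj a D = Y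
  card : Nat.card D = q * Nat.card Y
  comm : ⁅X, X⁆ ≤ Y
  pow : ∀ x ∈ X, x ^ p ∈ Y
  core : ⁅X, pCore p G⁆ ≤ Y
  quad : ⁅X, S⁆ ≤ D
  triv : ⁅D, S⁆ ≤ Y
  fix : ∀ s ∈ S, s ∉ pCore p G → ∀ x ∈ X, ⁅x, s⁆ ∈ Y → x ∈ D

/-- `ρ` sends elements of `S^a` and `S` to the transvections prescribed by `φ`. -/
def Standard {F : Type*} [Field F] (S : Subgroup G) (a : G)
    (φ : G →* Matrix.ProjectiveSpecialLinearGroup (Fin 2) F) (ρ : G →* SL(2, F)) : Prop :=
  (∀ g ∈ cj a S, ∀ t, φ g = pUpper F t → ρ g = upperHom F t) ∧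
    ∀ g ∈ S, ∀ t, φ g = pLower F t → ρ g = lowerHom F t

theorem Standard.eq {F : Type*} [Field F] {S M : Subgroup G} (B : PUCore p S M q a)
    {φ : G →* Matrix.ProjectiveSpecialLinearGroup (Fin 2) F}
    (hU : (cj a S).map φ = (pUpper F).range) (hL : S.map φ = (pLower F).range)
    {ρ₁ ρ₂ : G →* SL(2, F)} (h₁ : Standard S a φ ρ₁) (h₂ : Standard S a φ ρ₂) : ρ₁ = ρ₂ := by
  obtain ⟨x, hx, hxR⟩ := B.exists_not_core_cj
  have h : zpowers x ⊔ S ≤ ρ₁.eqLocus ρ₂ := by
    refine sup_le (zpowers_le.mpr ?_) fun s hs => ?_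
    · obtain ⟨t, ht⟩ := hU.le (mem_map_of_mem φ hx)
      exact (h₁.1 x hx t ht.symm).trans (h₂.1 x hx t ht.symm).symm
    · obtain ⟨t, ht⟩ := hL.le (mem_map_of_mem φ hs)
      exact (h₁.2 s hs t ht.symm).trans (h₂.2 s hs t ht.symm).symm
  exact MonoidHom.ext fun g => h ((B.gen hx hxR).ge (mem_top g))

section Module

variable {A : Type*} [AddCommGroup A]

/-- Setwise stabiliser of an additive subgroup. -/
def addStab (D : AddSubgroup A) : Subgroup (A ≃ₗ[ℤ] A) where
  carrier := {h | ∀ y, h y ∈ D ↔ y ∈ D}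
  one_mem' := fun _ => Iff.rfl
  mul_mem' := fun {g h} hg hh y => (hg (h y)).trans (hh y)
  inv_mem' := fun {g} hg y => by
    have := hg (g⁻¹ y)
    rw [LinearEquiv.coe_inv, LinearEquiv.apply_symm_apply] at this
    exact this.symm

/-- A `p'`-group stabilising the fixed subgroup commutes with a quadratic group. -/
theorem commute_of_stab [Finite A] {p : ℕ} [Fact p.Prime] (hexp : ∀ y : A, p • y = 0)
    {U K : Subgroup (A ≃ₗ[ℤ] A)} (hUK : U ≤ normalizer (K : Set (A ≃ₗ[ℤ] A)))
    (hK : ¬ p ∣ Nat.card K) (D : AddSubgroup A) (hKD : K ≤ addStab D)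
    (hUD : ∀ u ∈ U, ∀ y ∈ D, u y = y) (hquad : ∀ u ∈ U, ∀ y, u y - y ∈ D) :
    ∀ k ∈ K, ∀ u ∈ U, k * u = u * k := by
  intro k hk u hu
  set c := k * u * k⁻¹ * u⁻¹ with hc
  have hcK : c ∈ K := by
    rw [hc, mul_assoc k, mul_assoc k]
    exact K.mul_mem hk ((mem_normalizer_iff.mp (hUK hu) _).mp (K.inv_mem hk))
  have hcD : ∀ y ∈ D, c y = y := fun y hy => by
    have h1 : k⁻¹ y ∈ D := (hKD (K.inv_mem hk) y).mpr hy
    show k (u (k⁻¹ (u⁻¹ y))) = y
    rw [hUD _ (U.inv_mem hu) y hy, hUD u hu _ h1, LinearEquiv.coe_inv, LinearEquiv.apply_symm_apply]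
  have hcq : ∀ y, c y - y ∈ D := fun y => by
    have h1 := hquad u⁻¹ (U.inv_mem hu) y
    have h2 := (hKD hk _).mpr (hquad u hu (k⁻¹ (u⁻¹ y)))
    rw [map_sub, LinearEquiv.coe_inv, LinearEquiv.apply_symm_apply] at h2
    show k (u (k⁻¹ (u⁻¹ y))) - y ∈ D
    have := D.add_mem h2 h1
    rwa [LinearEquiv.coe_inv, sub_add_sub_cancel] at this
  have hpow : ∀ (i : ℕ) (y : A), (c ^ i) y = y + i • (c y - y) := by
    intro i
    induction i with
    | zero => intro y; simp
    | succ i ih =>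
      intro y
      rw [pow_succ', LinearEquiv.mul_apply, ih, map_add, map_nsmul, hcD _ (hcq y), succ_nsmul]
      abel
  have h1 : c ^ p = 1 := LinearEquiv.ext fun y => by rw [hpow, hexp, add_zero]; rfl
  have h2 : c ^ Nat.card K = 1 := orderOf_dvd_iff_pow_eq_one.mp
    ((Subgroup.orderOf_mk c hcK).symm.dvd.trans (orderOf_dvd_natCard _))
  have h3 : c = 1 := orderOf_eq_one_iff.mp (Nat.eq_one_of_dvd_coprimes
    ((Fact.out : p.Prime).coprime_iff_not_dvd.mpr hK) (orderOf_dvd_of_pow_eq_one h1)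
    (orderOf_dvd_of_pow_eq_one h2))
  rw [hc] at h3
  calc k * u = (k * u * k⁻¹ * u⁻¹) * (u * k) := by group
    _ = u * k := by rw [h3, one_mul]

/-- A `p'`-group normalised by a noncyclic quadratic group stabilises the fixed subgroup. -/
theorem le_addStab_of_noncyclic [Finite A] {p : ℕ} [Fact p.Prime]
    {U K : Subgroup (A ≃ₗ[ℤ] A)} [IsMulCommutative U] (hU : ¬ IsCyclic U) (hUp : IsPGroup p U)
    (hUK : U ≤ normalizer (K : Set (A ≃ₗ[ℤ] A))) (hK : ¬ p ∣ Nat.card K) (D : AddSubgroup A)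
    (hfix : ∀ u ∈ U, u ≠ 1 → ∀ y, u y = y ↔ y ∈ D) : K ≤ addStab D := by
  haveI : Finite (A ≃ₗ[ℤ] A) := Finite.of_injective (fun h : A ≃ₗ[ℤ] A => (h : A → A))
    fun _ _ h => LinearEquiv.ext (congrFun h)
  obtain ⟨n, hn⟩ := IsPGroup.iff_card.mp hUp
  have hcop : (Nat.card U).Coprime (Nat.card K) := by
    rw [hn]; exact ((Fact.out : p.Prime).coprime_iff_not_dvd.mpr hK).pow_left n
  refine Coprime.le_of_forall_inf_centralizer_le hU hUK hcop fun u hu hu1 k hk y => ?_
  have hc : u * k = k * u := (mem_centralizer_singleton_iff.mp hk.2).symm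
  rw [← hfix u hu hu1, ← hfix u hu hu1, ← LinearEquiv.mul_apply, hc, LinearEquiv.mul_apply,
    EmbeddingLike.apply_eq_iff_eq]

end Module

variable {S : Sylow p G} {M : Subgroup G} {F : Type*} [Field F] [Fintype F]

set_option maxHeartbeats 800000 in
/-- The representation on a natural section. -/
theorem IsNatSection.exists_rep (B : PUCore p (S : Subgroup G) M q a) {X Y D : Subgroup G}
    (N : IsNatSection p (S : Subgroup G) a q X Y D) {n : ℕ} (hn : Fintype.card F = p ^ n)
    {φ : G →* Matrix.ProjectiveSpecialLinearGroup (Fin 2) F}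
    (hker : φ.ker ⊓ (S : Subgroup G) = pCore p G)
    (hU : (cj a (S : Subgroup G)).map φ = (pUpper F).range)
    (hL : (S : Subgroup G).map φ = (pLower F).range) (hq : Fintype.card F = q) :
    ∃ ρ : G →* SL(2, F), ∃ ψ : ↥X →* Multiplicative (Fin 2 → F),
      Standard (S : Subgroup G) a φ ρ ∧ Function.Surjective ρ ∧ Function.Surjective ψ ∧
      (∀ x : ↥X, ψ x = 1 ↔ (x : G) ∈ Y) ∧
      (∀ (g : G) (x w : ↥X), (w : G) = g * x * g⁻¹ →
        (ψ w).toAdd = (ρ g : Matrix (Fin 2) (Fin 2) F).mulVec (ψ x).toAdd) ∧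
      (∀ g : G, ρ g = 1 ↔ ∀ x ∈ X, ⁅x, g⁆ ∈ Y) ∧
      (∀ x : ↥X, (x : G) ∈ D ↔ (ψ x).toAdd 0 = 0) ∧
      ∀ x : ↥X, (x : G) ∈ cj a D ↔ (ψ x).toAdd 1 = 0 := by
  classical
  haveI := N.normX
  haveI := N.normY
  haveI := pCore_normal p G
  set S₀ := (S : Subgroup G)
  set D' := cj a D with hD'
  have hD'X : D' ≤ X := le_sup_right.trans N.sup.le
  -- the module
  haveI hYn : (Y.subgroupOf X).Normal := inferInstance
  letI : CommGroup (↥X ⧸ Y.subgroupOf X) :=
    { (inferInstance : Group (↥X ⧸ Y.subgroupOf X)) with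
      mul_comm := by
        rintro ⟨x⟩ ⟨y⟩
        exact commutatorElement_eq_one_iff_mul_comm.mp ((QuotientGroup.eq_one_iff _).mpr
          (mem_subgroupOf.mpr (N.comm (commutator_mem_commutator x.2 y.2)))) }
  let pr : ↥X → Additive (↥X ⧸ Y.subgroupOf X) := fun x => Additive.ofMul (QuotientGroup.mk x)
  have prmul : ∀ x y, pr (x * y) = pr x + pr y := fun x y => rfl
  have prinv : ∀ x, pr x⁻¹ = -pr x := fun x => rfl
  have prker : ∀ x, pr x = 0 ↔ (x : G) ∈ Y := fun x =>
    (QuotientGroup.eq_one_iff x).trans mem_subgroupOf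
  have prsurj : Function.Surjective pr := fun y => by
    obtain ⟨x, hx⟩ := QuotientGroup.mk_surjective (Additive.toMul y)
    exact ⟨x, congrArg Additive.ofMul hx⟩
  have hconjle : ∀ g : G, Y.subgroupOf X ≤
      (Y.subgroupOf X).comap ((MulAut.conjNormal (H := X) g).toMonoidHom) := fun g x hx => by
    show ((MulAut.conjNormal g x : ↥X) : G) ∈ Y
    rw [MulAut.conjNormal_apply]
    exact N.normY.conj_mem _ hx g
  let T₀ : G → AddMonoid.End (Additive (↥X ⧸ Y.subgroupOf X)) := fun g =>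
    MonoidHom.toAdditive (QuotientGroup.map _ _ _ (hconjle g))
  have T₀apply : ∀ g x, T₀ g (pr x) = pr (MulAut.conjNormal g x) := fun g x => rfl
  let T : G →* (Additive (↥X ⧸ Y.subgroupOf X) ≃ₗ[ℤ] Additive (↥X ⧸ Y.subgroupOf X)) :=
    { toFun := fun g => AddEquiv.toIntLinearEquiv
        { toFun := T₀ g
          invFun := T₀ g⁻¹
          left_inv := fun y => by
            obtain ⟨x, rfl⟩ := prsurj y
            rw [T₀apply, T₀apply, map_inv, MulAut.inv_apply_self]
          right_inv := fun y => by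
            obtain ⟨x, rfl⟩ := prsurj y
            rw [T₀apply, T₀apply, map_inv, MulAut.apply_inv_self]
          map_add' := map_add (T₀ g) }
      map_one' := LinearEquiv.ext fun y => by
        obtain ⟨x, rfl⟩ := prsurj y
        show T₀ 1 (pr x) = pr x
        rw [T₀apply, map_one]; rfl
      map_mul' := fun g h => LinearEquiv.ext fun y => by
        obtain ⟨x, rfl⟩ := prsurj y
        show T₀ (g * h) (pr x) = T₀ g (T₀ h (pr x))
        rw [T₀apply, T₀apply, T₀apply, map_mul, MulAut.mul_apply] }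
  have Tapply : ∀ g x, T g (pr x) = pr (MulAut.conjNormal g x) := fun g x => rfl
  have Tdiff : ∀ (g : G) (x : ↥X) (h : ⁅(x : G), g⁆ ∈ X),
      T g (pr x) - pr x = - pr ⟨⁅(x : G), g⁆, h⟩ := fun g x h => by
    rw [Tapply, sub_eq_add_neg, ← prinv, ← prinv, ← prmul]
    congr 1
    apply Subtype.ext
    show g * (x : G) * g⁻¹ * (x : G)⁻¹ = ⁅(x : G), g⁆⁻¹
    rw [commutatorElement_inv, commutatorElement_def]
  have hXc : ∀ (g : G) (x : ↥X), ⁅(x : G), g⁆ ∈ X := fun g x => by
    rw [commutatorElement_def, mul_assoc (x : G), mul_assoc (x : G)]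
    exact X.mul_mem x.2 (N.normX.conj_mem _ (X.inv_mem x.2) g)
  let img : Subgroup G → AddSubgroup (Additive (↥X ⧸ Y.subgroupOf X)) := fun Z =>
    (MonoidHom.toAdditive (QuotientGroup.mk' (Y.subgroupOf X))).range ⊓
      AddSubgroup.closure (pr '' {x | (x : G) ∈ Z})
  have himg : ∀ Z : Subgroup G, Y ≤ Z → ∀ x, pr x ∈ img Z ↔ (x : G) ∈ Z := by
    intro Z hZ x
    constructor
    · intro h
      have key : ∀ y ∈ AddSubgroup.closure (pr '' {x | (x : G) ∈ Z}),
          ∃ z : ↥X, (z : G) ∈ Z ∧ pr z = y := by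
        intro y hy
        induction hy using AddSubgroup.closure_induction with
        | mem y hy => obtain ⟨z, hz, rfl⟩ := hy; exact ⟨z, hz, rfl⟩
        | zero => exact ⟨1, Z.one_mem, rfl⟩
        | add y y' _ _ hy hy' =>
          obtain ⟨z, hz, rfl⟩ := hy
          obtain ⟨z', hz', rfl⟩ := hy'
          exact ⟨z * z', Z.mul_mem hz hz', prmul z z'⟩
        | neg y _ hy =>
          obtain ⟨z, hz, rfl⟩ := hy
          exact ⟨z⁻¹, Z.inv_mem hz, prinv z⟩
      obtain ⟨z, hz, e⟩ := key _ h.2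
      have : ((z⁻¹ * x : ↥X) : G) ∈ Y := (prker _).mp (by rw [prmul, prinv, e, neg_add_cancel])
      simpa using Z.mul_mem hz (hZ this)
    · exact fun h => ⟨⟨Additive.ofMul x, rfl⟩, AddSubgroup.subset_closure ⟨x, h, rfl⟩⟩
  set D0 := img D
  set D1 := img D'
  have hYD' : Y ≤ D' := N.inf.ge.trans inf_le_right
  have mem0 := himg D N.le_D
  have mem1 := himg D' hYD'
  have hD'conj : ⁅X, cj a S₀⁆ ≤ D' ∧ ⁅D', cj a S₀⁆ ≤ Y := by
    constructor
    · conv_lhs => arg 1; rw [← cj_normal a X]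
      rw [← cj_commutator]
      exact cj_mono N.quad
    · rw [hD', ← cj_commutator]
      exact (cj_mono N.triv).trans (cj_normal a Y).le
  -- trivial action
  have Tone : ∀ g, T g = 1 ↔ ∀ x ∈ X, ⁅x, g⁆ ∈ Y := by
    intro g
    constructor
    · intro h x hx
      have := Tdiff g ⟨x, hx⟩ (hXc g ⟨x, hx⟩)
      rw [h, show ∀ y, (1 : Additive (↥X ⧸ Y.subgroupOf X) ≃ₗ[ℤ] Additive (↥X ⧸ Y.subgroupOf X)) y = y from fun _ => rfl, sub_self, eq_comm, neg_eq_zero] at this
      exact (prker _).mp this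
    · intro h
      refine LinearEquiv.ext fun y => ?_
      obtain ⟨x, rfl⟩ := prsurj y
      rw [show ∀ y, (1 : Additive (↥X ⧸ Y.subgroupOf X) ≃ₗ[ℤ] Additive (↥X ⧸ Y.subgroupOf X)) y = y from fun _ => rfl, ← sub_eq_zero, Tdiff g x (hXc g x), neg_eq_zero]
      exact (prker _).mpr (h x x.2)
  have hTR : ∀ r ∈ pCore p G, T r = 1 := fun r hr =>
    (Tone r).mpr fun x hx => N.core (commutator_mem_commutator hx hr)
  have quad0 : ∀ s ∈ S₀, ∀ y, T s y - y ∈ D0 := fun s hs y => by
    obtain ⟨x, rfl⟩ := prsurj y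
    rw [Tdiff s x (hXc s x)]
    exact neg_mem ((mem0 _).mpr (N.quad (commutator_mem_commutator x.2 hs)))
  have quad1 : ∀ s ∈ cj a S₀, ∀ y, T s y - y ∈ D1 := fun s hs y => by
    obtain ⟨x, rfl⟩ := prsurj y
    rw [Tdiff s x (hXc s x)]
    exact neg_mem ((mem1 _).mpr (hD'conj.1 (commutator_mem_commutator x.2 hs)))
  have triv0 : ∀ s ∈ S₀, ∀ y ∈ D0, T s y = y := fun s hs y hy => by
    obtain ⟨x, rfl⟩ := prsurj y
    rw [← sub_eq_zero, Tdiff s x (hXc s x), neg_eq_zero]
    exact (prker _).mpr (N.triv (commutator_mem_commutator ((mem0 x).mp hy) hs))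
  have triv1 : ∀ s ∈ cj a S₀, ∀ y ∈ D1, T s y = y := fun s hs y hy => by
    obtain ⟨x, rfl⟩ := prsurj y
    rw [← sub_eq_zero, Tdiff s x (hXc s x), neg_eq_zero]
    exact (prker _).mpr (hD'conj.2 (commutator_mem_commutator ((mem1 x).mp hy) hs))
  have fix0 : ∀ s ∈ S₀, s ∉ pCore p G → ∀ y, T s y = y → y ∈ D0 := fun s hs hsR y hy => by
    obtain ⟨x, rfl⟩ := prsurj y
    rw [← sub_eq_zero, Tdiff s x (hXc s x), neg_eq_zero] at hy
    exact (mem0 x).mpr (N.fix s hs hsR x x.2 ((prker _).mp hy))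
  have fix1 : ∀ s ∈ cj a S₀, s ∉ pCore p G → ∀ y, T s y = y → y ∈ D1 := fun s hs hsR y hy => by
    obtain ⟨x, rfl⟩ := prsurj y
    rw [← sub_eq_zero, Tdiff s x (hXc s x), neg_eq_zero] at hy
    refine (mem1 x).mpr (mem_cj.mpr (N.fix _ (mem_cj.mp hs) (fun h => hsR ?_) _
      (by simpa using N.normX.conj_mem _ x.2 a⁻¹) ?_))
    · simpa [mul_assoc] using Normal.conj_mem ‹(pCore p G).Normal› _ h a
    · rw [show ⁅a⁻¹ * (x : G) * a, a⁻¹ * s * a⁆ = a⁻¹ * ⁅(x : G), s⁆ * a by
        simp only [commutatorElement_def]; group]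
      simpa using N.normY.conj_mem _ ((prker _).mp hy) a⁻¹
  have disj : ∀ y, y ∈ D0 → y ∈ D1 → y = 0 := fun y h0 h1 => by
    obtain ⟨x, rfl⟩ := prsurj y
    exact (prker x).mpr (N.inf.le ⟨(mem0 x).mp h0, (mem1 x).mp h1⟩)
  have hexp : ∀ y : Additive (↥X ⧸ Y.subgroupOf X), p • y = 0 := fun y => by
    obtain ⟨x, rfl⟩ := prsurj y
    exact (prker (x ^ p)).mpr (by rw [SubmonoidClass.coe_pow]; exact N.pow x x.2)
  have decomp : ∀ y, ∃ y₀ ∈ D0, ∃ y₁ ∈ D1, y₀ + y₁ = y := fun y => by
    obtain ⟨x, rfl⟩ := prsurj y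
    have hle : D ≤ normalizer (D' : Set G) := by
      rw [le_normalizer_iff_commutator_le_left, commutator_comm]
      exact ((commutator_mono N.D_le hD'X).trans N.comm).trans hYD'
    have hx : (x : G) ∈ ((D ⊔ D' : Subgroup G) : Set G) := N.sup.ge x.2
    rw [coe_mul_of_left_le_normalizer_right _ _ hle] at hx
    obtain ⟨d, hd, d', hd', e⟩ := hx
    refine ⟨pr ⟨d, N.D_le hd⟩, (mem0 _).mpr hd, pr ⟨d', hD'X hd'⟩, (mem1 _).mpr hd', ?_⟩
    rw [← prmul]; exact congrArg pr (Subtype.ext e)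
  have cardimg : ∀ Z : Subgroup G, Y ≤ Z → Z ≤ X →
      Nat.card ↥(img Z) * Nat.card Y = Nat.card Z := by
    intro Z hYZ hZX
    have h := LocalEvenBasic.card_mul_relIndex_of_le Y Z hYZ
    rw [← h, mul_comm]
    congr 1
    let f : ↥Z →* ↥X ⧸ Y.subgroupOf X := (QuotientGroup.mk' _).comp (inclusion hZX)
    have hf : f.ker = Y.subgroupOf Z := by
      ext z
      rw [MonoidHom.mem_ker, mem_subgroupOf]
      exact (QuotientGroup.eq_one_iff _).trans mem_subgroupOf
    rw [relIndex, ← hf, index_ker]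
    refine Nat.card_congr ?_
    refine (Equiv.subtypeEquiv Additive.toMul fun y => ?_)
    obtain ⟨x, rfl⟩ := prsurj y
    rw [himg Z hYZ x]
    constructor
    · exact fun h => ⟨⟨x, h⟩, rfl⟩
    · rintro ⟨z, hz⟩
      have : ((x⁻¹ * inclusion hZX z : ↥X) : G) ∈ Y := (prker _).mp (by
        rw [prmul, prinv, show pr (inclusion hZX z) = pr x from congrArg Additive.ofMul hz,
          neg_add_cancel])
      have h2 := Z.mul_mem z.2 (Z.inv_mem (hYZ this))
      simpa using h2
  have card0 : Nat.card ↥D0 = q := Nat.eq_of_mul_eq_mul_right (Nat.card_pos (α := ↥Y))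
    ((cardimg D N.le_D N.D_le).trans N.card)
  have card1 : Nat.card ↥D1 = q := Nat.eq_of_mul_eq_mul_right (Nat.card_pos (α := ↥Y))
    ((cardimg D' hYD' hD'X).trans ((card_cj a D).trans N.card))
  -- representatives of the root elements
  have hkerU : ∀ g ∈ cj a S₀, φ g = 1 → g ∈ pCore p G := fun g hg h1 => by
    have h2 : a⁻¹ * g * a ∈ φ.ker ⊓ S₀ :=
      ⟨by simpa using (inferInstance : φ.ker.Normal).conj_mem g h1 a⁻¹, mem_cj.mp hg⟩
    rw [hker] at h2
    simpa [mul_assoc] using Normal.conj_mem ‹(pCore p G).Normal› _ h2 a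
  have hkerL : ∀ g ∈ S₀, φ g = 1 → g ∈ pCore p G := fun g hg h1 => hker.le ⟨h1, hg⟩
  have hexU : ∀ t : F, ∃ g ∈ cj a S₀, φ g = pUpper F (.ofAdd t) := fun t => hU.ge ⟨_, rfl⟩
  have hexL : ∀ t : F, ∃ g ∈ S₀, φ g = pLower F (.ofAdd t) := fun t => hL.ge ⟨_, rfl⟩
  choose ut hutS hutφ using hexU
  choose lt hltS hltφ using hexL
  have Tut : ∀ g ∈ cj a S₀, ∀ t, φ g = pUpper F (.ofAdd t) → T g = T (ut t) := fun g hg t h => by
    have h1 := hTR _ (hkerU (g * (ut t)⁻¹) ((cj a S₀).mul_mem hg (inv_mem (hutS t)))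
      (by rw [map_mul, map_inv, h, hutφ, mul_inv_cancel]))
    rwa [map_mul, map_inv, mul_inv_eq_one] at h1
  have Tlt : ∀ g ∈ S₀, ∀ t, φ g = pLower F (.ofAdd t) → T g = T (lt t) := fun g hg t h => by
    have h1 := hTR _ (hkerL (g * (lt t)⁻¹) (S₀.mul_mem hg (inv_mem (hltS t)))
      (by rw [map_mul, map_inv, h, hltφ, mul_inv_cancel]))
    rwa [map_mul, map_inv, mul_inv_eq_one] at h1
  have Tut_add : ∀ s t, T (ut (s + t)) = T (ut s) * T (ut t) := fun s t => by
    rw [← map_mul]
    refine (Tut _ ((cj a S₀).mul_mem (hutS s) (hutS t)) _ ?_).symm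
    rw [map_mul, hutφ, hutφ, ← map_mul, ← ofAdd_add]
  have Tlt_add : ∀ s t, T (lt (s + t)) = T (lt s) * T (lt t) := fun s t => by
    rw [← map_mul]
    refine (Tlt _ (S₀.mul_mem (hltS s) (hltS t)) _ ?_).symm
    rw [map_mul, hltφ, hltφ, ← map_mul, ← ofAdd_add]
  have utR : ∀ t, t ≠ 0 → ut t ∉ pCore p G := fun t ht h => ht (congrArg Multiplicative.toAdd
    (pUpper_injective (F := F) (a₁ := Multiplicative.ofAdd t) (a₂ := 1) (by
      rw [← hutφ, map_one]; exact (hker.ge h).1)))
  have ltR : ∀ t, t ≠ 0 → lt t ∉ pCore p G := fun t ht h => ht (congrArg Multiplicative.toAdd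
    (pLower_injective (F := F) (a₁ := Multiplicative.ofAdd t) (a₂ := 1) (by
      rw [← hltφ, map_one]; exact (hker.ge h).1)))
  -- the maps `D0 → D1` and `D1 → D0`
  let α : F → (↥D0 →+ ↥D1) := fun t =>
    AddMonoidHom.mk' (fun y => ⟨T (ut t) y - y, quad1 _ (hutS t) _⟩) fun y y' => by
      refine Subtype.ext ?_; simp only [AddSubgroup.coe_add, map_add]; abel
  let β : F → (↥D1 →+ ↥D0) := fun t =>
    AddMonoidHom.mk' (fun y => ⟨T (lt t) y - y, quad0 _ (hltS t) _⟩) fun y y' => by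
      refine Subtype.ext ?_; simp only [AddSubgroup.coe_add, map_add]; abel
  have αval : ∀ t (y : ↥D0), T (ut t) y = y + (α t y : _) := fun t y => by
    show _ = _ + (T (ut t) y - y); abel
  have βval : ∀ t (y : ↥D1), T (lt t) y = y + (β t y : _) := fun t y => by
    show _ = _ + (T (lt t) y - y); abel
  have αadd : ∀ s t, α (s + t) = α s + α t := fun s t => by
    ext y
    show T (ut (s + t)) y - y = (T (ut s) y - y) + (T (ut t) y - y)
    rw [Tut_add, LinearEquiv.mul_apply, αval t y, map_add, triv1 _ (hutS s) _ (α t y).2, αval s y]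
    abel
  have αinj : ∀ t, t ≠ 0 → Function.Injective (α t) := fun t ht => by
    rw [injective_iff_map_eq_zero]
    intro y hy
    have h1 : T (ut t) y = y := by rw [αval, hy]; simp
    exact Subtype.ext (disj _ y.2 (fix1 _ (hutS t) (utR t ht) _ h1))
  have αbij : Function.Bijective (α 1) :=
    (Nat.bijective_iff_injective_and_card _).mpr ⟨αinj 1 one_ne_zero, card0.trans card1.symm⟩
  let J : ↥D0 ≃+ ↥D1 := AddEquiv.ofBijective (α 1) αbij
  let AA : F →+ AddMonoid.End ↥D0 := AddMonoidHom.mk' (fun t => J.symm.toAddMonoidHom.comp (α t))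
    fun s t => by
      refine AddMonoidHom.ext fun y => ?_
      show J.symm (α (s + t) y) = J.symm (α s y) + J.symm (α t y)
      rw [αadd, AddMonoidHom.add_apply, map_add]
  let BB : F → AddMonoid.End ↥D0 := fun s => (β s).comp J.toAddMonoidHom
  have AAJ : ∀ t y, J (AA t y) = α t y := fun t y => J.apply_symm_apply _
  have AA1 : AA 1 = 1 := by
    refine AddMonoidHom.ext fun y => ?_
    show J.symm (α 1 y) = _
    rw [show α 1 y = J y from rfl, J.symm_apply_apply]; rfl
  -- more on the root elements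
  have βinj : ∀ t, t ≠ 0 → Function.Injective (β t) := fun t ht => by
    rw [injective_iff_map_eq_zero]
    intro y hy
    have h1 : T (lt t) y = y := by rw [βval, hy]; simp
    exact Subtype.ext (disj _ (fix0 _ (hltS t) (ltR t ht) _ h1) y.2)
  have βadd : ∀ s t, β (s + t) = β s + β t := fun s t => by
    refine AddMonoidHom.ext fun y => Subtype.ext ?_
    show T (lt (s + t)) y - y = (T (lt s) y - y) + (T (lt t) y - y)
    rw [Tlt_add, LinearEquiv.mul_apply, βval t y, map_add, triv0 _ (hltS s) _ (β t y).2, βval s y]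
    abel
  have βev : ∀ y : ↥D1, y ≠ 0 → Function.Bijective fun s => β s y := by
    intro y hy
    refine (Nat.bijective_iff_injective_and_card _).mpr
      ⟨fun s t h => ?_, by rw [card0, Nat.card_eq_fintype_card, hq]⟩
    by_contra hne
    refine hy (βinj (s - t) (sub_ne_zero.mpr hne) ?_)
    have h1 : β (s - t) + β t = β s := by rw [← βadd, sub_add_cancel]
    have h2 := DFunLike.congr_fun h1 y
    rw [AddMonoidHom.add_apply] at h2
    rw [map_zero]
    exact add_right_cancel (h2.trans (h.trans (zero_add _).symm))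
  have hKM : φ.ker ≤ M := by
    by_contra hKM
    have h1 : φ.ker ⊔ S₀ = ⊤ := by
      by_contra hne
      exact hKM (le_sup_left.trans (B.data.unique _ hne le_sup_right))
    have h2 : φ (ut 1) ∈ (φ.ker ⊔ S₀).map φ := mem_map_of_mem φ (h1.ge (mem_top _))
    rw [Subgroup.map_sup, (Subgroup.map_eq_bot_iff (f := φ) (H := φ.ker)).mpr le_rfl, bot_sup_eq,
      hL, hutφ] at h2
    obtain ⟨t, ht⟩ := h2
    exact one_ne_zero (congrArg Multiplicative.toAdd (eq_one_of_pUpper_eq_pLower ht.symm).1)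
  haveI : Finite (Additive (↥X ⧸ Y.subgroupOf X) ≃ₗ[ℤ] Additive (↥X ⧸ Y.subgroupOf X)) :=
    Finite.of_injective (fun h => (h : Additive (↥X ⧸ Y.subgroupOf X) → _))
      fun _ _ h => LinearEquiv.ext (congrFun h)
  set KT := φ.ker.map T with hKT
  have hKTp : ¬ p ∣ Nat.card KT := by
    obtain ⟨Q, hQ⟩ := Cfsg.Agent.S0542.result p φ.ker (inferInstance : φ.ker.Normal).isSubnormal S
    intro hd
    apply Q.not_dvd_index
    refine hd.trans ?_
    have h1 : (Q : Subgroup ↥φ.ker) = (pCore p G).subgroupOf φ.ker := by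
      rw [hQ, ← hker, inf_subgroupOf_left]
    rw [hKT, ← relIndex_ker, h1]
    exact relIndex_dvd_of_le_left _ (fun r hr => hTR r hr)
  have hnormT : ∀ P : Subgroup G, P.map T ≤ normalizer
      (KT : Set (Additive (↥X ⧸ Y.subgroupOf X) ≃ₗ[ℤ] Additive (↥X ⧸ Y.subgroupOf X))) :=
    fun P => (map_mono (by rw [normalizer_eq_top]; exact le_top)).trans (le_normalizer_map T)
  have hkerT : T.ker ≤ M := by
    by_contra hTM
    have h1 : T.ker ⊔ S₀ = ⊤ := by
      by_contra hne
      exact hTM (le_sup_left.trans (B.data.unique _ hne le_sup_right))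
    obtain ⟨s, hs, e⟩ : T (ut 1) ∈ S₀.map T := by
      have h2 := mem_map_of_mem T (h1.ge (mem_top (ut 1)))
      rwa [Subgroup.map_sup, (Subgroup.map_eq_bot_iff (f := T) (H := T.ker)).mpr le_rfl,
        bot_sup_eq] at h2
    haveI : Nontrivial ↥D0 := by
      rw [← Finite.one_lt_card_iff_nontrivial, card0]; exact B.data.one_lt
    obtain ⟨y, hy⟩ := exists_ne (0 : ↥D0)
    refine hy (αinj 1 one_ne_zero ?_)
    rw [map_zero]
    refine Subtype.ext ?_
    show T (ut 1) y - y = 0
    rw [← e, triv0 s hs y y.2, sub_self]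
  -- `φ.ker` stabilises both summands
  have stab0 : KT ≤ addStab D0 := by
    by_cases hqp : q = p
    · rintro _ ⟨k₀, hk₀, rfl⟩
      have hsub : ∀ k ∈ φ.ker, ∀ y ∈ D0, T k y ∈ D0 := by
        intro k hk y hy
        by_contra hout
        haveI : Fact (Nat.card ↥D0).Prime := ⟨by rw [card0, hqp]; exact Fact.out⟩
        obtain ⟨e0, he0, e1, he1, hz⟩ := decomp (T k y)
        have he1ne : (⟨e1, he1⟩ : ↥D1) ≠ 0 := fun h => hout (by
          rw [← hz, show e1 = 0 from congrArg Subtype.val h, add_zero]; exact he0)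
        obtain ⟨s, hs⟩ := (βev ⟨e1, he1⟩ he1ne).2 (-⟨e0, he0⟩)
        have hg : T (lt s * k) y = e1 := by
          rw [map_mul, LinearEquiv.mul_apply, ← hz, map_add, triv0 _ (hltS s) _ he0,
            βval s ⟨e1, he1⟩, show β s ⟨e1, he1⟩ = -⟨e0, he0⟩ from hs]
          show e0 + (e1 + -e0) = e1
          abel
        have hy0 : (⟨y, hy⟩ : ↥D0) ≠ 0 := fun h => hout (by
          rw [show y = 0 from congrArg Subtype.val h, map_zero]; exact zero_mem _)
        set g := lt s * k with hgdef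
        have hgen0 : ∀ z : ↥D0, ∃ i : ℤ, i • (⟨y, hy⟩ : ↥D0) = z := fun z => by
          refine AddSubgroup.mem_zmultiples_iff.mp ?_
          rw [zmultiples_eq_top_of_prime_card (p := p) (card0.trans hqp) hy0]
          exact AddSubgroup.mem_top z
        have hg01 : ∀ z : ↥D0, T g z ∈ D1 := fun z => by
          obtain ⟨i, rfl⟩ := hgen0 z
          rw [AddSubgroup.coe_zsmul, map_zsmul, hg]
          exact zsmul_mem he1 i
        have hgimg : ∀ z ∈ D1, ∃ w : ↥D0, T g w = z := fun z hz' => by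
          obtain ⟨w, hw⟩ := ((Nat.bijective_iff_injective_and_card
            (fun w : ↥D0 => (⟨T g w, hg01 w⟩ : ↥D1))).mpr ⟨fun u v h => Subtype.ext
              ((T g).injective (congrArg Subtype.val h)), card0.trans card1.symm⟩).2 ⟨z, hz'⟩
          exact ⟨w, congrArg Subtype.val hw⟩
        -- `S^a` lies in `M`
        obtain ⟨x, hx, hxR⟩ := B.exists_not_core_cj
        have hgM : g ∈ M := M.mul_mem (B.data.le_max (hltS s)) (hKM hk)
        obtain ⟨w₁, hw₁, hw₁ne⟩ : ∃ w₁ ∈ D1, w₁ ≠ 0 :=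
          ⟨e1, he1, fun h => he1ne (Subtype.ext h)⟩
        -- conjugate of `x` fixes `D0` and is quadratic
        have hcD : ∀ z ∈ D0, T (g⁻¹ * x * g) z = z := fun z hz' => by
          rw [map_mul, map_mul, LinearEquiv.mul_apply, LinearEquiv.mul_apply,
            triv1 x hx _ (hg01 ⟨z, hz'⟩), map_inv, LinearEquiv.coe_inv,
            LinearEquiv.symm_apply_apply]
        have hcq : ∀ z, T (g⁻¹ * x * g) z - z ∈ D0 := fun z => by
          obtain ⟨w, hw⟩ := hgimg _ (quad1 x hx (T g z))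
          have e : T (g⁻¹ * x * g) z - z = w := by
            apply (T g).injective
            rw [map_sub, hw, ← LinearEquiv.mul_apply, ← map_mul,
              show g * (g⁻¹ * x * g) = x * g by group, map_mul, LinearEquiv.mul_apply]
          rw [e]; exact w.2
        obtain ⟨s', hs'⟩ := (βev ⟨w₁, hw₁⟩ fun h => hw₁ne (congrArg Subtype.val h)).2
          ⟨_, hcq w₁⟩
        haveI : Fact (Nat.card ↥D1).Prime := ⟨by rw [card1, hqp]; exact Fact.out⟩
        have heq : T (g⁻¹ * x * g) = T (lt s') := by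
          refine LinearEquiv.ext fun z => ?_
          obtain ⟨z0, hz0, z1, hz1, rfl⟩ := decomp z
          rw [map_add, map_add, hcD z0 hz0, triv0 _ (hltS s') z0 hz0]
          congr 1
          obtain ⟨i, hi⟩ := AddSubgroup.mem_zmultiples_iff.mp (show (⟨z1, hz1⟩ : ↥D1) ∈
              AddSubgroup.zmultiples (⟨w₁, hw₁⟩ : ↥D1) by
            rw [zmultiples_eq_top_of_prime_card (p := p) (card1.trans hqp)
              fun h => hw₁ne (congrArg Subtype.val h)]
            exact AddSubgroup.mem_top _)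
          rw [show z1 = i • w₁ from (congrArg Subtype.val hi).symm, map_zsmul, map_zsmul,
            βval s' ⟨w₁, hw₁⟩, show β s' ⟨w₁, hw₁⟩ = _ from hs']
          show i • T (g⁻¹ * x * g) w₁ = i • (w₁ + (T (g⁻¹ * x * g) w₁ - w₁))
          rw [add_sub_cancel]
        have hxM : x ∈ M := by
          have h1 : (lt s')⁻¹ * (g⁻¹ * x * g) ∈ T.ker := by
            rw [MonoidHom.mem_ker, map_mul, map_inv, heq, inv_mul_cancel]
          have h2 := M.mul_mem (M.mul_mem hgM
            (M.mul_mem (B.data.le_max (hltS s')) (hkerT h1))) (M.inv_mem hgM)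
          simpa [mul_assoc] using h2
        exact B.data.coatom.1 (top_le_iff.mp ((B.gen hx hxR).ge.trans
          (sup_le (zpowers_le.mpr hxM) B.data.le_max)))
      intro y
      refine ⟨fun h => ?_, hsub k₀ hk₀ y⟩
      have := hsub k₀⁻¹ (inv_mem hk₀) _ h
      rwa [map_inv, LinearEquiv.coe_inv, LinearEquiv.symm_apply_apply] at this
    · have hne : ∀ s ∈ S₀, s ∉ pCore p G → T s ≠ 1 := fun s hs hsR h => by
        haveI : Nontrivial ↥D1 := by
          rw [← Finite.one_lt_card_iff_nontrivial, card1]; exact B.data.one_lt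
        obtain ⟨y, hy⟩ := exists_ne (0 : ↥D1)
        exact hy (Subtype.ext (disj _ (fix0 s hs hsR y (by rw [h]; rfl)) y.2))
      haveI : IsMulCommutative ↥(S₀.map T) := ⟨⟨by
        rintro ⟨_, u, hu, rfl⟩ ⟨_, v, hv, rfl⟩
        refine Subtype.ext (commutatorElement_eq_one_iff_mul_comm.mp ?_)
        rw [← map_commutatorElement]
        refine hTR _ (hkerL _ ?_ ?_)
        · rw [commutatorElement_def]
          exact S₀.mul_mem (S₀.mul_mem (S₀.mul_mem hu hv) (S₀.inv_mem hu)) (S₀.inv_mem hv)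
        · obtain ⟨t, ht⟩ := hL.le (mem_map_of_mem φ hu)
          obtain ⟨t', ht'⟩ := hL.le (mem_map_of_mem φ hv)
          rw [map_commutatorElement, ← ht, ← ht', ← map_commutatorElement,
            commutatorElement_eq_one_iff_mul_comm.mpr (mul_comm t t'), map_one]⟩⟩
      have hexpU : ∀ u : ↥(S₀.map T), u ^ p = 1 := by
        rintro ⟨_, u, hu, rfl⟩
        refine Subtype.ext ?_
        show T u ^ p = 1
        rw [← map_pow]
        refine hTR _ (hkerL _ (S₀.pow_mem hu p) ?_)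
        obtain ⟨t, ht⟩ := hL.le (mem_map_of_mem φ hu)
        rw [map_pow, ← ht, ← map_pow]
        have : t ^ p = 1 := by
          apply Multiplicative.toAdd.injective
          haveI : CharP F p := charP_of_card_eq_prime_pow (f := n) hn
          rw [toAdd_pow, toAdd_one, nsmul_eq_mul, CharP.cast_eq_zero, zero_mul]
        rw [this, map_one]
      have hcardU : Nat.card ↥(S₀.map T) = q := by
        rw [← relIndex_ker, ← B.data.index_core, ← inf_relIndex_right T.ker S₀]
        congr 1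
        refine le_antisymm (fun s hs => ?_) (le_inf (fun r hr => hTR r hr) B.core_le)
        by_contra hsR
        exact hne s hs.2 hsR hs.1
      refine le_addStab_of_noncyclic (p := p) (U := S₀.map T) (fun hc => hqp ?_) (S.2.map T)
        (hnormT S₀) hKTp D0 ?_
      · have h1 : Monoid.exponent ↥(S₀.map T) ∣ p := Monoid.exponent_dvd_of_forall_pow_eq_one hexpU
        rw [hc.exponent_eq_card, hcardU] at h1
        rcases (Nat.dvd_prime (Fact.out : p.Prime)).mp h1 with h2 | h2
        · exact absurd h2 B.data.one_lt.ne'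
        · exact h2
      · rintro _ ⟨s, hs, rfl⟩ hs1 y
        refine ⟨fix0 s hs (fun h => hs1 (hTR s h)) y, triv0 s hs y⟩
  have Tcj : ∀ (k : G) (y : Additive (↥X ⧸ Y.subgroupOf X)), T (a⁻¹ * k * a) y =
      (T a)⁻¹ (T k (T a y)) := fun k y => by
    rw [map_mul, map_mul, map_inv]; rfl
  have hD01 : ∀ y, y ∈ D0 ↔ T a y ∈ D1 := fun y => by
    obtain ⟨x, rfl⟩ := prsurj y
    rw [mem0, Tapply, mem1, MulAut.conjNormal_apply, hD', mem_cj]
    simp [mul_assoc]
  have stab1 : KT ≤ addStab D1 := by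
    rintro _ ⟨k, hk, rfl⟩ y
    have h := stab0 ⟨a⁻¹ * k * a, by
      simpa using (inferInstance : φ.ker.Normal).conj_mem k hk a⁻¹, rfl⟩ ((T a)⁻¹ y)
    rw [hD01, hD01, Tcj] at h
    simpa [LinearEquiv.coe_inv] using h
  -- `φ.ker` acts centrally
  have central : ∀ k ∈ φ.ker, ∀ g, T k * T g = T g * T k := by
    intro k hk g
    obtain ⟨x, hx, hxR⟩ := B.exists_not_core_cj
    let Z : Subgroup G := (centralizer
      ({T k} : Set (Additive (↥X ⧸ Y.subgroupOf X) ≃ₗ[ℤ] Additive (↥X ⧸ Y.subgroupOf X)))).comap T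
    suffices h : zpowers x ⊔ S₀ ≤ Z from
      (mem_centralizer_singleton_iff.mp (h ((B.gen hx hxR).ge (mem_top g)))).symm
    refine sup_le (zpowers_le.mpr ?_) fun s hs => ?_
    · exact mem_centralizer_singleton_iff.mpr (commute_of_stab hexp
        (hnormT (cj a S₀)) hKTp D1 stab1 (by rintro _ ⟨u, hu, rfl⟩ y hy; exact triv1 u hu y hy)
        (by rintro _ ⟨u, hu, rfl⟩ y; exact quad1 u hu y) _ ⟨k, hk, rfl⟩ _ ⟨x, hx, rfl⟩).symm
    · exact mem_centralizer_singleton_iff.mpr (commute_of_stab hexp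
        (hnormT S₀) hKTp D0 stab0 (by rintro _ ⟨u, hu, rfl⟩ y hy; exact triv0 u hu y hy)
        (by rintro _ ⟨u, hu, rfl⟩ y; exact quad0 u hu y) _ ⟨k, hk, rfl⟩ _ ⟨s, hs, rfl⟩).symm
  have exact_eq : ∀ g h, φ g = φ h → T g ^ p = 1 → T h ^ p = 1 → T g = T h := by
    intro g h hgh hg hh
    have hk : g * h⁻¹ ∈ φ.ker := by rw [MonoidHom.mem_ker, map_mul, map_inv, hgh, mul_inv_cancel]
    have hc : Commute (T (g * h⁻¹)) (T h) := central _ hk h
    have h1 : T (g * h⁻¹) ^ p = 1 := by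
      have := hc.mul_pow p
      rw [← map_mul, inv_mul_cancel_right, hg, hh, mul_one] at this
      exact this.symm
    have h2 : T (g * h⁻¹) ^ Nat.card KT = 1 := orderOf_dvd_iff_pow_eq_one.mp
      ((Subgroup.orderOf_mk (T (g * h⁻¹)) (show T (g * h⁻¹) ∈ KT from ⟨_, hk, rfl⟩)).symm.dvd.trans
        (orderOf_dvd_natCard _))
    have h3 : T (g * h⁻¹) = 1 := orderOf_eq_one_iff.mp (Nat.eq_one_of_dvd_coprimes
      ((Fact.out : p.Prime).coprime_iff_not_dvd.mpr hKTp) (orderOf_dvd_of_pow_eq_one h1)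
      (orderOf_dvd_of_pow_eq_one h2))
    rwa [map_mul, map_inv, mul_inv_eq_one] at h3
  haveI : CharP F p := charP_of_card_eq_prime_pow (f := n) hn
  have hTutp : ∀ t, T (ut t) ^ p = 1 := fun t => by
    rw [← map_pow]
    refine hTR _ (hkerU _ ((cj a S₀).pow_mem (hutS t) p) ?_)
    rw [map_pow, hutφ, ← map_pow, ← ofAdd_nsmul, nsmul_eq_mul, CharP.cast_eq_zero, zero_mul,
      ofAdd_zero, map_one]
  have hTltp : ∀ t, T (lt t) ^ p = 1 := fun t => by
    rw [← map_pow]
    refine hTR _ (hkerL _ (S₀.pow_mem (hltS t) p) ?_)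
    rw [map_pow, hltφ, ← map_pow, ← ofAdd_nsmul, nsmul_eq_mul, CharP.cast_eq_zero, zero_mul,
      ofAdd_zero, map_one]
  have rel : ∀ b : F, b ≠ 0 → ∀ s, α (-(b * b * s)) = -((α b).comp ((β s).comp (α b))) := by
    intro b hb
    set π := QuotientGroup.mk' (center (Matrix.SpecialLinearGroup (Fin 2) F))
    set nn := ut b * lt (-b⁻¹) * ut b with hnn
    obtain ⟨w, hwdef⟩ : ∃ w : SL(2, F), w =
        upperHom F (.ofAdd b) * lowerHom F (.ofAdd (-b⁻¹)) * upperHom F (.ofAdd b) := ⟨_, rfl⟩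
    have hw : φ nn = π w := by
      rw [hnn, map_mul, map_mul, hutφ, hltφ, hwdef, map_mul, map_mul]; rfl
    have hcoe : (w : Matrix (Fin 2) (Fin 2) F) = !![0, b; -b⁻¹, 0] := by
      rw [hwdef]
      show !![1, b; 0, 1] * !![1, 0; -b⁻¹, 1] * !![1, b; 0, 1] = _
      ext i j
      fin_cases i <;> fin_cases j <;> simp [Matrix.mul_apply, Fin.sum_univ_two, hb]
    have wu : ∀ t, w * upperHom F (.ofAdd t) = lowerHom F (.ofAdd (-(t / (b * b)))) * w := by
      intro t
      apply Subtype.ext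
      rw [Matrix.SpecialLinearGroup.coe_mul, Matrix.SpecialLinearGroup.coe_mul, hcoe, coe_upper,
        coe_lower]
      ext i j
      fin_cases i <;> fin_cases j <;> simp [Matrix.mul_apply, Fin.sum_univ_two]
      field_simp
    have wl : ∀ s, w * lowerHom F (.ofAdd s) = upperHom F (.ofAdd (-(b * b * s))) * w := by
      intro s
      apply Subtype.ext
      rw [Matrix.SpecialLinearGroup.coe_mul, Matrix.SpecialLinearGroup.coe_mul, hcoe, coe_upper,
        coe_lower]
      ext i j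
      fin_cases i <;> fin_cases j <;> simp [Matrix.mul_apply, Fin.sum_univ_two]
      field_simp
    have nu : ∀ t, T nn * T (ut t) = T (lt (-(t / (b * b)))) * T nn := by
      intro t
      have h1 : T (nn * ut t * nn⁻¹) = T (lt (-(t / (b * b)))) := by
        refine exact_eq _ _ ?_ ?_ (hTltp _)
        · rw [map_mul, map_mul, map_inv, hw, hutφ, hltφ, mul_inv_eq_iff_eq_mul]
          show π w * π _ = π _ * π w
          rw [← map_mul, wu, map_mul]
        · rw [map_mul, map_mul, map_inv, conj_pow, hTutp, mul_one, mul_inv_cancel]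
      rw [← h1, ← map_mul, ← map_mul, inv_mul_cancel_right]
    have nl : ∀ s, T nn * T (lt s) = T (ut (-(b * b * s))) * T nn := by
      intro s
      have h1 : T (nn * lt s * nn⁻¹) = T (ut (-(b * b * s))) := by
        refine exact_eq _ _ ?_ ?_ (hTutp _)
        · rw [map_mul, map_mul, map_inv, hw, hutφ, hltφ, mul_inv_eq_iff_eq_mul]
          show π w * π _ = π _ * π w
          rw [← map_mul, wl, map_mul]
        · rw [map_mul, map_mul, map_inv, conj_pow, hTltp, mul_one, mul_inv_cancel]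
      rw [← h1, ← map_mul, ← map_mul, inv_mul_cancel_right]
    have n0 : ∀ y ∈ D0, T nn y ∈ D1 := fun y hy => by
      refine fix1 _ (hutS (-(b * b * 1))) (utR _ (by simp [hb])) _ ?_
      have := congrArg (fun f => f y) (nl 1)
      simp only [LinearEquiv.mul_apply] at this
      rw [← this, triv0 _ (hltS 1) y hy]
    have ny : ∀ y : ↥D0, T nn y = (α b y : Additive (↥X ⧸ Y.subgroupOf X)) ∧
        β (-b⁻¹) (α b y) = -y := by
      intro y
      have e : T nn y = ((y + β (-b⁻¹) (α b y) : ↥D0) : Additive (↥X ⧸ Y.subgroupOf X)) +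
          ((α b (y + β (-b⁻¹) (α b y)) + α b y : ↥D1) : Additive (↥X ⧸ Y.subgroupOf X)) := by
        rw [hnn, map_mul, map_mul, LinearEquiv.mul_apply, LinearEquiv.mul_apply, αval b y,
          map_add, triv0 _ (hltS _) _ y.2, βval, map_add, map_add, αval b y,
          triv1 _ (hutS b) _ (α b y).2, αval b (β _ _)]
        simp only [AddSubgroup.coe_add, map_add]
        abel
      have h2 : ((y + β (-b⁻¹) (α b y) : ↥D0) : Additive (↥X ⧸ Y.subgroupOf X)) ∈ D1 := by
        have h1 := D1.sub_mem (n0 y y.2) (α b (y + β (-b⁻¹) (α b y)) + α b y).2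
        rwa [e, add_sub_cancel_right] at h1
      have h3 : y + β (-b⁻¹) (α b y) = 0 := Subtype.ext (disj _ (SetLike.coe_mem _) h2)
      refine ⟨?_, eq_neg_of_add_eq_zero_right h3⟩
      rw [e, h3, map_zero, zero_add, AddSubgroup.coe_zero, zero_add]
    have nx : ∀ y : ↥D0, T nn (α b y : Additive (↥X ⧸ Y.subgroupOf X)) =
        -(y : Additive (↥X ⧸ Y.subgroupOf X)) := by
      intro y
      rw [hnn, map_mul, map_mul, LinearEquiv.mul_apply, LinearEquiv.mul_apply,
        triv1 _ (hutS b) _ (α b y).2, βval, map_add, triv1 _ (hutS b) _ (α b y).2, (ny y).2,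
        AddSubgroup.coe_neg, map_neg, αval b y]
      abel
    intro s
    refine AddMonoidHom.ext fun y => Subtype.ext ?_
    have h := congrArg
      (fun f => f (α b y : Additive (↥X ⧸ Y.subgroupOf X))) (nl s)
    simp only [LinearEquiv.mul_apply] at h
    rw [βval, map_add, nx, (ny _).1, map_neg, αval _ y] at h
    rw [AddMonoidHom.neg_apply, AddMonoidHom.comp_apply, AddMonoidHom.comp_apply,
      AddSubgroup.coe_neg, eq_neg_iff_add_eq_zero]
    rw [neg_add] at h
    rw [add_left_cancel h, add_neg_cancel]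
  have rel' : ∀ b, b ≠ 0 → ∀ s, AA (b * b * s) = AA b * BB s * AA b := by
    intro b hb s
    have h := rel b hb s
    have hneg : α (-(b * b * s)) = -α (b * b * s) := by
      refine eq_neg_of_add_eq_zero_left ?_
      rw [← αadd, neg_add_cancel]
      exact add_eq_left.mp (show α 0 + α 0 = α 0 by rw [← αadd, add_zero])
    rw [hneg, neg_inj] at h
    refine AddMonoidHom.ext fun y => J.injective ?_
    show J (AA (b * b * s) y) = J (AA b (β s (J (AA b y))))
    rw [AAJ, AAJ, AAJ, h]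
    rfl
  have key : (∀ s, BB s = AA s) ∧ ∀ x y, AA (x * y) = AA x * AA y := by
    have hB : ∀ s, BB s = AA s := fun s => by
      have h := rel' 1 one_ne_zero s
      rw [one_mul, one_mul, AA1, one_mul, mul_one] at h
      exact h.symm
    refine ⟨hB, ?_⟩
    obtain ⟨g, hg⟩ := IsCyclic.exists_generator (α := Fˣ)
    have hpow : ∀ i : ℕ, AA ((g : F) ^ i) = AA (g : F) ^ i ∧
        AA ((g : F) ^ (i + 1)) = AA (g : F) ^ (i + 1) := by
      intro i
      induction i with
      | zero => exact ⟨by rw [pow_zero, pow_zero, AA1], by rw [zero_add, pow_one, pow_one]⟩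
      | succ i ih =>
        refine ⟨ih.2, ?_⟩
        rw [show (g : F) ^ (i + 1 + 1) = (g : F) * g * (g : F) ^ i by ring, rel' _ g.ne_zero, hB,
          ih.1]
        rw [← pow_succ', ← pow_succ]
    intro x y
    rcases eq_or_ne x 0 with rfl | hx
    · rw [zero_mul, map_zero, zero_mul]
    rcases eq_or_ne y 0 with rfl | hy
    · rw [mul_zero, map_zero, mul_zero]
    haveI : Finite Fˣ := inferInstance
    obtain ⟨i, hi⟩ := (mem_powers_iff_mem_zpowers.mpr (hg (Units.mk0 x hx)) :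
      Units.mk0 x hx ∈ Submonoid.powers g)
    obtain ⟨j, hj⟩ := (mem_powers_iff_mem_zpowers.mpr (hg (Units.mk0 y hy)) :
      Units.mk0 y hy ∈ Submonoid.powers g)
    have ex : (g : F) ^ i = x := by simpa using congrArg (fun u : Fˣ => (u : F)) hi
    have ey : (g : F) ^ j = y := by simpa using congrArg (fun u : Fˣ => (u : F)) hj
    rw [← ex, ← ey, ← pow_add, (hpow _).1, (hpow _).1, (hpow _).1, pow_add]
  obtain ⟨hBA, hmul⟩ := key
  -- coordinates
  obtain ⟨d, hd⟩ : ∃ d : ↥D0, d ≠ 0 := by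
    haveI : Nontrivial ↥D0 := by
      rw [← Finite.one_lt_card_iff_nontrivial, card0]; exact B.data.one_lt
    exact exists_ne 0
  let ι : F →+ ↥D0 := AddMonoidHom.mk' (fun t => AA t d) fun s t => by
    rw [map_add]; rfl
  have ιbij : Function.Bijective ι := by
    refine (Nat.bijective_iff_injective_and_card _).mpr ⟨?_, by
      rw [card0, Nat.card_eq_fintype_card, hq]⟩
    rw [injective_iff_map_eq_zero]
    intro t ht
    by_contra hne
    refine hd (αinj t hne ?_)
    rw [map_zero, ← AAJ, show AA t d = ι t from rfl, ht, map_zero]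
  let m : (Fin 2 → F) →+ Additive (↥X ⧸ Y.subgroupOf X) :=
    AddMonoidHom.mk' (fun v => (J (ι (v 0)) : Additive (↥X ⧸ Y.subgroupOf X)) + (ι (v 1) : Additive (↥X ⧸ Y.subgroupOf X))) fun v w => by
      simp only [Pi.add_apply, map_add, AddSubgroup.coe_add]; abel
  have mbij : Function.Bijective m := by
    constructor
    · rw [injective_iff_map_eq_zero]
      intro v hv
      have hv' : ((J (ι (v 0)) : ↥D1) : Additive (↥X ⧸ Y.subgroupOf X)) + (ι (v 1) : _) = 0 := hv
      have e1 : (J (ι (v 0)) : Additive (↥X ⧸ Y.subgroupOf X)) = 0 := disj _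
        (by rw [eq_neg_of_add_eq_zero_left hv']; exact neg_mem (ι (v 1)).2) (J (ι (v 0))).2
      rw [e1, zero_add] at hv'
      have e0 : v 0 = 0 := (injective_iff_map_eq_zero _).mp ιbij.1 _
        ((injective_iff_map_eq_zero _).mp J.injective _ (Subtype.ext e1))
      have e2 : v 1 = 0 := (injective_iff_map_eq_zero _).mp ιbij.1 _ (Subtype.ext hv')
      funext i; fin_cases i <;> assumption
    · intro y
      obtain ⟨y₀, h0, y₁, h1, rfl⟩ := decomp y
      obtain ⟨u, hu⟩ := ιbij.2 ⟨y₀, h0⟩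
      obtain ⟨w, hw⟩ := ιbij.2 (J.symm ⟨y₁, h1⟩)
      refine ⟨![w, u], ?_⟩
      show ((J (ι w) : ↥D1) : Additive (↥X ⧸ Y.subgroupOf X)) + (ι u : _) = y₀ + y₁
      rw [hu, hw, J.apply_symm_apply, add_comm]
  have hup : ∀ t v, T (ut t) (m v) = m ((upperHom F (.ofAdd t) : SL(2, F)).1.mulVec v) := by
    intro t v
    show T (ut t) ((J (ι (v 0)) : Additive (↥X ⧸ Y.subgroupOf X)) + (ι (v 1) : Additive (↥X ⧸ Y.subgroupOf X))) = _
    rw [map_add, triv1 _ (hutS t) _ (J (ι (v 0))).2, αval, ← AAJ]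
    have e : AA t (ι (v 1)) = ι (t * v 1) := by
      show AA t (AA (v 1) d) = AA (t * v 1) d
      rw [hmul]; rfl
    rw [e]
    show _ = (J (ι _) : Additive (↥X ⧸ Y.subgroupOf X)) + (ι _ : Additive (↥X ⧸ Y.subgroupOf X))
    rw [coe_upper]
    simp only [Matrix.mulVec, dotProduct, Fin.sum_univ_two, Matrix.of_apply, Matrix.cons_val',
      Matrix.cons_val_zero, Matrix.cons_val_one, Matrix.empty_val', Matrix.cons_val_fin_one,
      toAdd_ofAdd, one_mul, zero_mul, zero_add, map_add, AddSubgroup.coe_add]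
    abel
  have hlo : ∀ t v, T (lt t) (m v) = m ((lowerHom F (.ofAdd t) : SL(2, F)).1.mulVec v) := by
    intro t v
    show T (lt t) ((J (ι (v 0)) : Additive (↥X ⧸ Y.subgroupOf X)) + (ι (v 1) : Additive (↥X ⧸ Y.subgroupOf X))) = _
    rw [map_add, triv0 _ (hltS t) _ (ι (v 1)).2, βval]
    have e : β t (J (ι (v 0))) = ι (t * v 0) := by
      show BB t (AA (v 0) d) = AA (t * v 0) d
      rw [hBA, hmul]; rfl
    rw [e]
    show _ = (J (ι _) : Additive (↥X ⧸ Y.subgroupOf X)) + (ι _ : Additive (↥X ⧸ Y.subgroupOf X))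
    rw [coe_lower]
    simp only [Matrix.mulVec, dotProduct, Fin.sum_univ_two, Matrix.of_apply, Matrix.cons_val',
      Matrix.cons_val_zero, Matrix.cons_val_one, Matrix.empty_val', Matrix.cons_val_fin_one,
      toAdd_ofAdd, one_mul, zero_mul, add_zero, map_add, AddSubgroup.coe_add]
    abel
  let G₀ : Subgroup G :=
    { carrier := {g | ∃ h : SL(2, F), ∀ v, T g (m v) = m (h.1.mulVec v)}
      one_mem' := ⟨1, fun v => by simp⟩
      mul_mem' := by
        rintro g g' ⟨h, hh⟩ ⟨h', hh'⟩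
        refine ⟨h * h', fun v => ?_⟩
        rw [map_mul, LinearEquiv.mul_apply, hh', hh, Matrix.SpecialLinearGroup.coe_mul,
          Matrix.mulVec_mulVec]
      inv_mem' := by
        rintro g ⟨h, hh⟩
        refine ⟨h⁻¹, fun v => (T g).injective ?_⟩
        rw [map_inv, LinearEquiv.coe_inv, LinearEquiv.apply_symm_apply, hh, Matrix.mulVec_mulVec,
          ← Matrix.SpecialLinearGroup.coe_mul, mul_inv_cancel,
          Matrix.SpecialLinearGroup.coe_one, Matrix.one_mulVec] }
  have hupG : ∀ g ∈ cj a S₀, ∀ t, φ g = pUpper F t →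
      ∀ v, T g (m v) = m ((upperHom F t : SL(2, F)).1.mulVec v) := fun g hg t ht v => by
    rw [Tut g hg t.toAdd ht]; exact hup t.toAdd v
  have hloG : ∀ g ∈ S₀, ∀ t, φ g = pLower F t →
      ∀ v, T g (m v) = m ((lowerHom F t : SL(2, F)).1.mulVec v) := fun g hg t ht v => by
    rw [Tlt g hg t.toAdd ht]; exact hlo t.toAdd v
  have hall : ∀ g, ∃ h : SL(2, F), ∀ v, T g (m v) = m (h.1.mulVec v) := by
    intro g
    obtain ⟨x, hx, hxR⟩ := B.exists_not_core_cj
    refine (show g ∈ G₀ from ((B.gen hx hxR).ge.trans (sup_le (zpowers_le.mpr ?_) ?_)) (mem_top g))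
    · obtain ⟨t, ht⟩ := hU.le (mem_map_of_mem φ hx)
      exact ⟨_, hupG x hx t ht.symm⟩
    · intro s hs
      obtain ⟨t, ht⟩ := hL.le (mem_map_of_mem φ hs)
      exact ⟨_, hloG s hs t ht.symm⟩
  have huniq : ∀ h h' : SL(2, F), (∀ v, m (h.1.mulVec v) = m (h'.1.mulVec v)) → h = h' := by
    intro h h' e
    apply Subtype.ext
    ext i j
    have := congrFun (mbij.1 (e (Pi.single j 1))) i
    simpa [Matrix.mulVec_single_one] using this
  choose r hr using hall
  let ρ : G →* SL(2, F) :=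
    { toFun := r
      map_one' := huniq _ _ fun v => by rw [← hr]; simp
      map_mul' := fun g g' => huniq _ _ fun v => by
        rw [← hr, map_mul, LinearEquiv.mul_apply, hr, hr, Matrix.SpecialLinearGroup.coe_mul,
          Matrix.mulVec_mulVec] }
  have hρU : ∀ g ∈ cj a S₀, ∀ t, φ g = pUpper F t → ρ g = upperHom F t := fun g hg t ht =>
    huniq _ _ fun v => by rw [← hupG g hg t ht v]; exact (hr g v).symm
  have hρL : ∀ g ∈ S₀, ∀ t, φ g = pLower F t → ρ g = lowerHom F t := fun g hg t ht =>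
    huniq _ _ fun v => by rw [← hloG g hg t ht v]; exact (hr g v).symm
  let e := AddEquiv.ofBijective m mbij
  let ψ : ↥X →* Multiplicative (Fin 2 → F) :=
    { toFun := fun x => .ofAdd (e.symm (pr x))
      map_one' := by rw [(prker 1).mpr Y.one_mem, map_zero]; rfl
      map_mul' := fun x y => by rw [prmul, map_add]; rfl }
  have hψ : ∀ x, m (ψ x).toAdd = pr x := fun x => e.apply_symm_apply (pr x)
  refine ⟨ρ, ψ, ⟨hρU, hρL⟩, fun h => ?_, fun v => ?_, fun x => ?_, fun g x w hw => ?_, fun g => ?_,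
    fun x => ?_, fun x => ?_⟩
  · refine MonoidHom.mem_range.mp (closure_upper_lower F ρ.range (fun t => ?_) (fun t => ?_) h)
    · exact ⟨ut t.toAdd, hρU _ (hutS _) t (hutφ _)⟩
    · exact ⟨lt t.toAdd, hρL _ (hltS _) t (hltφ _)⟩
  · obtain ⟨x, hx⟩ := prsurj (m v.toAdd)
    refine ⟨x, ?_⟩
    show Multiplicative.ofAdd (e.symm (pr x)) = v
    rw [hx, show m v.toAdd = e v.toAdd from rfl, e.symm_apply_apply, ofAdd_toAdd]
  · show Multiplicative.ofAdd (e.symm (pr x)) = 1 ↔ _
    rw [ofAdd_eq_one, AddEquiv.map_eq_zero_iff, prker]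
  · apply mbij.1
    rw [hψ]
    refine Eq.trans ?_ (hr g _)
    rw [hψ, Tapply]
    exact congrArg pr (Subtype.ext (hw.trans (MulAut.conjNormal_apply g x).symm))
  · rw [← Tone]
    constructor
    · intro h
      refine LinearEquiv.ext fun y => ?_
      obtain ⟨v, rfl⟩ := mbij.2 y
      rw [hr g v, show r g = 1 from h, Matrix.SpecialLinearGroup.coe_one, Matrix.one_mulVec]
      rfl
    · intro h
      refine huniq _ _ fun v => ?_
      show m ((r g).1.mulVec v) = _
      rw [← hr g v, h, Matrix.SpecialLinearGroup.coe_one, Matrix.one_mulVec]; rfl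
  · rw [← mem0, ← hψ]
    set v := (ψ x).toAdd
    constructor
    · intro h
      have h1 : (J (ι (v 0)) : Additive (↥X ⧸ Y.subgroupOf X)) ∈ D0 := by
        have := D0.sub_mem h (ι (v 1)).2
        simpa [m] using this
      exact (injective_iff_map_eq_zero _).mp ιbij.1 _
        ((injective_iff_map_eq_zero _).mp J.injective _ (Subtype.ext (disj _ h1 (J (ι (v 0))).2)))
    · intro h
      show (J (ι (v 0)) : Additive (↥X ⧸ Y.subgroupOf X)) + (ι (v 1) : Additive (↥X ⧸ Y.subgroupOf X)) ∈ D0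
      rw [h, map_zero, map_zero, AddSubgroup.coe_zero, zero_add]
      exact (ι (v 1)).2
  · rw [← mem1, ← hψ]
    set v := (ψ x).toAdd
    constructor
    · intro h
      have h1 : (ι (v 1) : Additive (↥X ⧸ Y.subgroupOf X)) ∈ D1 := by
        have := D1.sub_mem h (J (ι (v 0))).2
        simpa [m] using this
      exact (injective_iff_map_eq_zero _).mp ιbij.1 _ (Subtype.ext (disj _ (ι (v 1)).2 h1))
    · intro h
      show (J (ι (v 0)) : Additive (↥X ⧸ Y.subgroupOf X)) + (ι (v 1) : Additive (↥X ⧸ Y.subgroupOf X)) ∈ D1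
      rw [h, map_zero, AddSubgroup.coe_zero, add_zero]
      exact (J (ι (v 0))).2

end CfsgLib.LocalEven50
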