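import Cfsg.Agent.LocalEven50.Twist
import Cfsg.Agent.PLocal.CommutatorFacts

/-! A quadratic offender generating a group with each conjugate outside a maximal subgroup: the
fixed point lines. -/

set_option autoImplicit false

namespace CfsgLib.LocalEven50

open Subgroup
open scoped commutatorElement

variable {G : Type*} [Group G]

/-- The fixed points in `V` of the conjugate of `A` by `g`. -/
def fixLine (V A : Subgroup G) (g : G) : Subgroup G := V ⊓ centralizer (cj g A : Set G)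

/-- The data: `A` acts quadratically on `V` and generates `P` with each conjugate from outside `M`. -/
structure QuadPair (V P M A : Subgroup G) : Prop where
  vcomm : IsMulCommutative V
  pv : P ≤ normalizer (V : Set G)
  ap : A ≤ P
  acomm : IsMulCommutative A
  am : A ≤ M
  mp : M ≤ P
  quad : ∀ v ∈ V, ∀ a ∈ A, ⁅a, v⁆ ∈ V ⊓ centralizer (A : Set G)
  gen : ∀ x ∈ P, x ∉ M → A ⊔ cj x A = P

theorem mem_fixLine {V A : Subgroup G} {g v : G} :
    v ∈ fixLine V A g ↔ v ∈ V ∧ ∀ a ∈ A, a * (g⁻¹ * v * g) = g⁻¹ * v * g * a := by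
  rw [fixLine, mem_inf, mem_centralizer_iff]
  refine and_congr_right fun _ => ⟨fun h a ha => ?_, fun h b hb => ?_⟩
  · have := h (g * a * g⁻¹) (mem_cj.mpr (by simpa [mul_assoc] using ha))
    calc a * (g⁻¹ * v * g) = g⁻¹ * (g * a * g⁻¹ * v) * g := by group
      _ = g⁻¹ * v * g * a := by rw [this]; group
  · have := h _ (mem_cj.mp hb)
    calc b * v = g * (g⁻¹ * b * g * (g⁻¹ * v * g)) * g⁻¹ := by group
      _ = v * b := by rw [this]; group

theorem fixLine_one (V A : Subgroup G) : fixLine V A 1 = V ⊓ centralizer (A : Set G) := by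
  rw [fixLine, cj_one]

theorem mem_fixLine_mul {V A : Subgroup G} {g h v : G} (hg : g ∈ normalizer (V : Set G)) :
    v ∈ fixLine V A (g * h) ↔ g⁻¹ * v * g ∈ fixLine V A h := by
  rw [mem_fixLine, mem_fixLine]
  have e : h⁻¹ * (g⁻¹ * v * g) * h = (g * h)⁻¹ * v * (g * h) := by group
  rw [e]
  exact and_congr_left fun _ => mem_normalizer_iff''.mp hg v

namespace QuadPair

variable {V P M A : Subgroup G} (d : QuadPair V P M A)
include d

/-- The fixed points of the whole group. -/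
theorem fixed_le {g : G} (hg : g ∈ P) : V ⊓ centralizer (P : Set G) ≤ fixLine V A g :=
  inf_le_inf_left _ (centralizer_le fun y hy => by
    have h := mem_cj.mp hy
    have := mul_mem (mul_mem hg (d.ap h)) (inv_mem hg)
    simpa [mul_assoc] using this)

theorem fixed_conj {g v : G} (hg : g ∈ P) (hv : v ∈ V ⊓ centralizer (P : Set G)) :
    g * v * g⁻¹ = v := by
  rw [mem_centralizer_iff.mp hv.2 g hg, mul_inv_cancel_right]

theorem fixed_iff {g v : G} (hg : g ∈ P) :
    g * v * g⁻¹ ∈ V ⊓ centralizer (P : Set G) ↔ v ∈ V ⊓ centralizer (P : Set G) := by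
  refine ⟨fun h => ?_, fun h => by rwa [d.fixed_conj hg h]⟩
  have := d.fixed_conj (inv_mem hg) h
  rw [show g⁻¹ * (g * v * g⁻¹) * g⁻¹⁻¹ = v by group] at this
  rw [this]; exact h

theorem comm {u v : G} (hu : u ∈ V) (hv : v ∈ V) : u * v = v * u :=
  le_centralizer_iff_isMulCommutative.mpr d.vcomm hv u hu

theorem card_fixLine {g : G} (hg : g ∈ P) :
    Nat.card ↥(fixLine V A g) = Nat.card ↥(fixLine V A 1) := by
  have : fixLine V A g = cj g (fixLine V A 1) := by
    ext v; rw [mem_cj, ← mem_fixLine_mul (d.pv hg), mul_one]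
  rw [this, card_cj]

/-- Two lines meet in the fixed points. -/
theorem meet {g h v : G} (hg : g ∈ P) (hh : h ∈ P) (hgh : g⁻¹ * h ∉ M) (h1 : v ∈ fixLine V A g)
    (h2 : v ∈ fixLine V A h) : v ∈ V ⊓ centralizer (P : Set G) := by
  have h1' : g⁻¹ * v * g ∈ fixLine V A 1 := (mem_fixLine_mul (d.pv hg)).mp (by rwa [mul_one])
  have h2' : g⁻¹ * v * g ∈ fixLine V A (g⁻¹ * h) :=
    (mem_fixLine_mul (d.pv hg)).mp (by rwa [mul_inv_cancel_left])
  have hw : g⁻¹ * v * g ∈ V ⊓ centralizer (P : Set G) := by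
    refine ⟨h1'.1, ?_⟩
    rw [← d.gen _ (mul_mem (inv_mem hg) hh) hgh, PLocal.centralizer_sup]
    exact ⟨(fixLine_one V A ▸ h1').2, h2'.2⟩
  have := (d.fixed_iff hg (v := g⁻¹ * v * g)).mpr hw
  rwa [show g * (g⁻¹ * v * g) * g⁻¹ = v by group] at this

theorem comm_mem_V {g v : G} (hg : g ∈ P) (hv : v ∈ V) : ⁅g, v⁆ ∈ V := by
  rw [commutatorElement_def]
  exact mul_mem ((mem_normalizer_iff.mp (d.pv hg) v).mp hv) (inv_mem hv)

theorem comm_mem {z a v : G} (hz : z ∈ P) (ha : z⁻¹ * a * z ∈ A) (hv : v ∈ V) :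
    ⁅a, v⁆ ∈ fixLine V A z := by
  have hv' : z⁻¹ * v * z ∈ V := (mem_normalizer_iff''.mp (d.pv hz) v).mp hv
  have h := d.quad _ hv' _ ha
  rw [← fixLine_one, commutatorElement_def] at h
  have := (mem_fixLine_mul (d.pv hz) (h := 1) (v := ⁅a, v⁆)).mpr (by
    rw [commutatorElement_def]; convert h using 1; group)
  rwa [mul_one] at this

theorem mem_P {z a : G} (hz : z ∈ P) (ha : z⁻¹ * a * z ∈ A) : a ∈ P := by
  have := mul_mem (mul_mem hz (d.ap ha)) (inv_mem hz)
  simpa [mul_assoc] using this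

theorem comm_fixed {z a u : G} (ha : z⁻¹ * a * z ∈ A) (hu : u ∈ fixLine V A z) : ⁅a, u⁆ = 1 := by
  rw [commutatorElement_eq_one_iff_mul_comm]
  exact mem_centralizer_iff.mp hu.2 a (mem_cj.mpr ha)

theorem comm_mul_left {z a b v : G} (hz : z ∈ P) (ha : z⁻¹ * a * z ∈ A) (hb : z⁻¹ * b * z ∈ A)
    (hv : v ∈ V) : ⁅a * b, v⁆ = ⁅a, v⁆ * ⁅b, v⁆ := by
  have h := mem_centralizer_iff.mp (d.comm_mem hz hb hv).2 a (mem_cj.mpr ha)
  have e : ⁅a * b, v⁆ = a * ⁅b, v⁆ * a⁻¹ * ⁅a, v⁆ := by simp [commutatorElement_def, mul_assoc]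
  rw [e, h, mul_inv_cancel_right]
  exact d.comm (d.comm_mem hz hb hv).1 (d.comm_mem hz ha hv).1

theorem comm_mul_right {g u v : G} (hg : g ∈ P) (hu : u ∈ V) (hv : v ∈ V) :
    ⁅g, u * v⁆ = ⁅g, u⁆ * ⁅g, v⁆ := by
  have e : ⁅g, u * v⁆ = ⁅g, u⁆ * (u * ⁅g, v⁆ * u⁻¹) := by simp [commutatorElement_def, mul_assoc]
  rw [e, d.comm hu (d.comm_mem_V hg hv), mul_inv_cancel_right]

/-- The commutator map is injective modulo the fixed points. -/
theorem inj_of_not_mem {y a u : G} (hy : y ∈ P) (ha : a ∈ A) (hay : y⁻¹ * a * y ∉ M)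
    (hu : u ∈ fixLine V A y) (hc : ⁅a, u⁆ ∈ V ⊓ centralizer (P : Set G)) :
    u ∈ V ⊓ centralizer (P : Set G) := by
  refine d.meet hy (mul_mem (inv_mem (d.ap ha)) hy) (g := y) (h := a⁻¹ * y) (fun h => hay ?_) hu ?_
  · have := inv_mem h
    simpa [mul_assoc] using this
  · rw [mem_fixLine_mul (d.pv (inv_mem (d.ap ha))), inv_inv]
    have e : a * u * a⁻¹ = ⁅a, u⁆ * u := by simp [commutatorElement_def]
    rw [e]
    exact mul_mem (d.fixed_le hy hc) hu

theorem normalize_sup {z : G} (hz : z ∈ P) {a : G} (ha : a ∈ A) :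
    ∀ w ∈ fixLine V A 1 ⊔ fixLine V A z, a * w * a⁻¹ ∈ fixLine V A 1 ⊔ fixLine V A z := by
  intro w hw
  have hwV : w ∈ V := (sup_le inf_le_left inf_le_left : fixLine V A 1 ⊔ fixLine V A z ≤ V) hw
  have e : a * w * a⁻¹ = ⁅a, w⁆ * w := by simp [commutatorElement_def]
  rw [e]
  exact mul_mem (le_sup_left (b := fixLine V A z)
    (d.comm_mem (one_mem P) (by simpa using ha) hwV)) hw

/-- The sum of two lines is invariant. -/
theorem sup_invariant {y : G} (hy : y ∈ P) (hyM : y ∉ M) :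
    P ≤ normalizer ((fixLine V A 1 ⊔ fixLine V A y : Subgroup G) : Set G) := by
  have hnorm : ∀ (X D : Subgroup G), (∀ a ∈ X, ∀ w ∈ D, a * w * a⁻¹ ∈ D) →
      X ≤ normalizer (D : Set G) := by
    intro X D h a ha
    rw [mem_normalizer_iff]
    refine fun w => ⟨h a ha w, fun hw => ?_⟩
    have := h a⁻¹ (inv_mem ha) _ hw
    simpa [mul_assoc] using this
  conv_lhs => rw [← d.gen y hy hyM]
  refine sup_le (hnorm _ _ fun a ha => d.normalize_sup hy ha) (hnorm _ _ fun b hb w hw => ?_)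
  have hz : y⁻¹ ∈ P := inv_mem hy
  have key : fixLine V A 1 ⊔ fixLine V A y =
      cj y (fixLine V A 1 ⊔ fixLine V A y⁻¹) := by
    have e : ∀ h, fixLine V A (y * h) = cj y (fixLine V A h) := fun h => by
      ext v; rw [mem_cj, mem_fixLine_mul (d.pv hy)]
    rw [cj_sup, ← e, ← e, mul_one, mul_inv_cancel, sup_comm]
  rw [key, mem_cj] at hw ⊢
  have := d.normalize_sup hz (mem_cj.mp hb) _ hw
  simpa [mul_assoc] using this

/-- All such sums coincide. -/
theorem sup_eq {y y' : G} (hy : y ∈ P) (hyM : y ∉ M) (hy' : y' ∈ P) (hyM' : y' ∉ M) :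
    fixLine V A 1 ⊔ fixLine V A y = fixLine V A 1 ⊔ fixLine V A y' := by
  have h : ∀ {y y' : G}, y ∈ P → y ∉ M → y' ∈ P →
      fixLine V A 1 ⊔ fixLine V A y' ≤ fixLine V A 1 ⊔ fixLine V A y := by
    intro y y' hy hyM hy'
    refine sup_le le_sup_left fun v hv => ?_
    have h1 : y'⁻¹ * v * y' ∈ fixLine V A 1 :=
      (mem_fixLine_mul (d.pv hy')).mp (by rwa [mul_one])
    exact (mem_normalizer_iff''.mp (d.sup_invariant hy hyM hy') v).mpr
      (le_sup_left (b := fixLine V A y) h1)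
  exact le_antisymm (h hy' hyM' hy) (h hy hyM hy')

/-- Elements of `A` moving some point act injectively on every line outside. -/
theorem inj_outside {y z a u : G} (hy : y ∈ P) (hyM : y ∉ M) (hz : z ∈ P) (hzM : z⁻¹ * a * z ∉ M)
    (hzM' : z ∉ M) (ha : a ∈ A) (hu : u ∈ fixLine V A y)
    (hc : ⁅a, u⁆ ∈ V ⊓ centralizer (P : Set G)) : u ∈ V ⊓ centralizer (P : Set G) := by
  have hu' : u ∈ fixLine V A 1 ⊔ fixLine V A z :=
    d.sup_eq hy hyM hz hzM' ▸ le_sup_right (a := fixLine V A 1) hu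
  have hn : fixLine V A 1 ≤ normalizer (fixLine V A z : Set G) :=
    inf_le_left.trans ((le_centralizer_iff_isMulCommutative.mpr d.vcomm).trans
      ((centralizer_le (inf_le_left : fixLine V A z ≤ V)).trans (centralizer_le_normalizer _)))
  obtain ⟨u1, hu1, w, hw, rfl⟩ : ∃ u1 ∈ fixLine V A 1, ∃ w ∈ fixLine V A z, u1 * w = u := by
    rw [← SetLike.mem_coe, coe_mul_of_left_le_normalizer_right _ _ hn] at hu'
    exact Set.mem_mul.mp hu'
  rw [d.comm_mul_right (d.ap ha) hu1.1 hw.1, d.comm_fixed (z := 1) (by simpa using ha) hu1,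
    one_mul] at hc
  have hwC := d.inj_of_not_mem hz ha hzM hw hc
  exact d.meet (one_mem P) hy (by simpa using hyM)
    (mul_mem hu1 (d.fixed_le (one_mem P) hwC)) hu

/-- Cardinality of the sum. -/
theorem card_sup [Finite G] {y : G} (hy : y ∈ P) (hyM : y ∉ M) :
    Nat.card ↥(fixLine V A 1 ⊔ fixLine V A y) * Nat.card ↥(V ⊓ centralizer (P : Set G)) =
      Nat.card ↥(fixLine V A 1) * Nat.card ↥(fixLine V A 1) := by
  have hn : fixLine V A 1 ≤ normalizer (fixLine V A y : Set G) :=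
    inf_le_left.trans ((le_centralizer_iff_isMulCommutative.mpr d.vcomm).trans
      ((centralizer_le (inf_le_left : fixLine V A y ≤ V)).trans (centralizer_le_normalizer _)))
  have e : fixLine V A 1 ⊓ fixLine V A y = V ⊓ centralizer (P : Set G) := by
    refine le_antisymm (fun v hv => d.meet (one_mem P) hy (by simpa using hyM) hv.1 hv.2) ?_
    exact le_inf (d.fixed_le (one_mem P)) (d.fixed_le hy)
  rw [← e, PLocal.card_sup_mul_card_inf hn, d.card_fixLine hy]

end QuadPair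

end CfsgLib.LocalEven50
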