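import Mathlib.GroupTheory.Nilpotent
import Cfsg.Agent.LocalEven50.PushingUp
import Cfsg.Agent.PLocal.Thompson
import Cfsg.Agent.PLocal.Stability

/-!
# `Ω₁` of the centre of `O_p(G)` in the basic pushing-up situation

If `Z(S)` is not central in `G` then `Z(O_p(G)) = Ω₁(Z(O_p(G))) Z(S)`.
-/

namespace CfsgLib.LocalEven50

open Subgroup Cfsg
open scoped commutatorElement

variable {G : Type*} [Group G] [Finite G] {p : ℕ} [Fact p.Prime]

omit [Finite G] in
/-- If `x v = c v x` with `c` of `p`-power order centralised by an element `x` of order prime to `p`,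
then `x` centralises `v`. -/
theorem commute_of_conj_mul {x v c : G} (hx : ¬ p ∣ orderOf x) (hc : Commute x c)
    {n : ℕ} (hn : c ^ p ^ n = 1) (e : x * v * x⁻¹ = c * v) : Commute x v := by
  have key : ∀ k : ℕ, x ^ k * v * (x ^ k)⁻¹ = c ^ k * v := by
    intro k
    induction k with
    | zero => simp
    | succ k ih =>
      rw [pow_succ' x, show x * x ^ k * v * (x * x ^ k)⁻¹ = x * (x ^ k * v * (x ^ k)⁻¹) * x⁻¹ by
        group, ih, show x * (c ^ k * v) * x⁻¹ = (x * c ^ k) * (v * x⁻¹) by group,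
        (hc.pow_right k).eq, show c ^ k * x * (v * x⁻¹) = c ^ k * (x * v * x⁻¹) by group, e,
        pow_succ, mul_assoc]
  have h1 := key (orderOf x)
  rw [pow_orderOf_eq_one, one_mul, inv_one, mul_one, right_eq_mul] at h1
  have hc1 : c = 1 := orderOf_eq_one_iff.mp (Nat.eq_one_of_dvd_coprimes
    (((Fact.out : p.Prime).coprime_iff_not_dvd.mpr hx).pow_left n)
    (orderOf_dvd_of_pow_eq_one hn) (orderOf_dvd_of_pow_eq_one h1))
  show x * v = v * x
  rw [← mul_inv_eq_iff_eq_mul]
  rw [e, hc1, one_mul]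

/-- Elements of order prime to `p` centralise a normal `p`-subgroup `V` if they centralise a normal
subgroup `C` of index at most `q` in it. -/
theorem PushUpData.commute_of_small_index {S M : Subgroup G} {q : ℕ} {g : G}
    (h : PushUpData p S M q g) {V C : Subgroup G} [V.Normal] (hVS : V ≤ S) (hCV : C ≤ V)
    (hC : ∀ x : G, ¬ p ∣ orderOf x → ∀ c ∈ C, Commute x c) (hidx : C.relIndex V ≤ q)
    {x : G} (hx : ¬ p ∣ orderOf x) {v : G} (hv : v ∈ V) : Commute x v := by
  classical
  by_contra hne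
  set V' := V ⊓ centralizer {y : G | ¬ p ∣ orderOf y} with hV'
  have hV'n : V'.Normal := by
    refine ⟨fun w hw y => mem_inf.mpr ⟨Normal.conj_mem ‹V.Normal› w hw.1 y,
      mem_centralizer_iff.mpr fun z hz => ?_⟩⟩
    have hord : orderOf (y⁻¹ * z * y) = orderOf z :=
      orderOf_injective (MulAut.conj y⁻¹).toMonoidHom (MulAut.conj y⁻¹).injective z ▸ by simp
    have h1 := mem_centralizer_iff.mp hw.2 (y⁻¹ * z * y) (by
      show ¬ p ∣ _
      rw [hord]; exact hz)
    calc z * (y * w * y⁻¹) = y * ((y⁻¹ * z * y) * w) * y⁻¹ := by group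
      _ = _ := by rw [h1]; group
  have hCV' : C ≤ V' := le_inf hCV fun c hc =>
    mem_centralizer_iff.mpr fun y hy => hC y hy c hc
  obtain ⟨n, hn⟩ := (h.isPGroup.isNilpotent).nilpotent
  have hbad : ∃ j, ∃ w : ↥S, (w : G) ∈ V ∧ (w : G) ∉ V' ∧ w ∈ Subgroup.upperCentralSeries ↥S j := by
    refine ⟨n, ⟨v, hVS hv⟩, hv, fun h' => hne (mem_centralizer_iff.mp h'.2 x hx), ?_⟩
    rw [hn]; exact mem_top _
  obtain ⟨w, hwV, hwV', hwj⟩ := Nat.find_spec hbad
  -- `w` is fixed by `S` modulo `V'`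
  have hfix : ∀ s ∈ S, s * (w : G) * s⁻¹ * (w : G)⁻¹ ∈ V' := by
    intro s hs
    by_contra hmem
    rcases hj : Nat.find hbad with _ | j
    · rw [hj, Subgroup.upperCentralSeries_zero] at hwj
      exact hwV' (by rw [show w = 1 from hwj]; exact V'.one_mem)
    · rw [hj] at hwj
      refine Nat.find_min hbad (show j < Nat.find hbad by omega)
        ⟨⁅(⟨s, hs⟩ : ↥S), w⁆, ?_, hmem, ?_⟩
      · show s * (w : G) * s⁻¹ * (w : G)⁻¹ ∈ V
        exact V.mul_mem (Normal.conj_mem ‹V.Normal› _ hwV s) (V.inv_mem hwV)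
      · rw [← commutatorElement_inv]
        exact inv_mem (Subgroup.mem_upperCentralSeries_succ_iff.mp hwj ⟨s, hs⟩)
  let H : Subgroup G :=
    { carrier := {a | a * (w : G) * a⁻¹ * (w : G)⁻¹ ∈ V'}
      one_mem' := by simp [V'.one_mem]
      mul_mem' := fun {a b} ha hb => by
        show a * b * (w : G) * (a * b)⁻¹ * (w : G)⁻¹ ∈ V'
        rw [show a * b * (w : G) * (a * b)⁻¹ * (w : G)⁻¹ =
          (a * (b * (w : G) * b⁻¹ * (w : G)⁻¹) * a⁻¹) * (a * (w : G) * a⁻¹ * (w : G)⁻¹) by group]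
        exact V'.mul_mem (hV'n.conj_mem _ hb a) ha
      inv_mem' := fun {a} ha => by
        show a⁻¹ * (w : G) * a⁻¹⁻¹ * (w : G)⁻¹ ∈ V'
        rw [show a⁻¹ * (w : G) * a⁻¹⁻¹ * (w : G)⁻¹ =
          a⁻¹ * (a * (w : G) * a⁻¹ * (w : G)⁻¹)⁻¹ * a⁻¹⁻¹ by group]
        exact hV'n.conj_mem _ (V'.inv_mem ha) a⁻¹ }
  have hH : H = ⊤ := by
    by_contra hH
    have hle : H ≤ M := h.unique H hH hfix
    have h1 : H.index < V'.relIndex V := by
      let f : G ⧸ H → ↥V ⧸ V'.subgroupOf V := fun a =>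
        QuotientGroup.mk ⟨a.out * (w : G) * a.out⁻¹, Normal.conj_mem ‹V.Normal› _ hwV _⟩
      have hf : Function.Injective f := by
        intro a b e
        rw [QuotientGroup.eq, mem_subgroupOf] at e
        rw [← QuotientGroup.out_eq' a, ← QuotientGroup.out_eq' b, QuotientGroup.eq]
        show a.out⁻¹ * b.out * (w : G) * (a.out⁻¹ * b.out)⁻¹ * (w : G)⁻¹ ∈ V'
        have e1 := hV'n.conj_mem _ e a.out⁻¹
        have e2 := hV'n.conj_mem _ e1 (w : G)
        simp only [coe_mul, coe_inv] at e2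
        convert e2 using 1
        group
      have hns : ¬ Function.Surjective f := fun hs => by
        obtain ⟨a, ha⟩ := hs 1
        rw [← QuotientGroup.mk_one, eq_comm, QuotientGroup.eq, mem_subgroupOf] at ha
        simp only [inv_one, one_mul] at ha
        exact hwV' (by simpa [mul_assoc] using hV'n.conj_mem _ ha a.out⁻¹)
      have : Nat.card (G ⧸ H) < Nat.card (↥V ⧸ V'.subgroupOf V) := by
        haveI := Fintype.ofFinite (G ⧸ H)
        haveI := Fintype.ofFinite (↥V ⧸ V'.subgroupOf V)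
        rw [Nat.card_eq_fintype_card, Nat.card_eq_fintype_card]
        exact Fintype.card_lt_of_injective_not_surjective f hf hns
      rwa [← index_eq_card, ← index_eq_card] at this
    have h2 : V'.relIndex V ≤ C.relIndex V :=
      Nat.le_of_dvd (Nat.pos_of_ne_zero index_ne_zero_of_finite) (relIndex_dvd_of_le_left V hCV')
    have h3 : M.index ≤ H.index :=
      Nat.le_of_dvd (Nat.pos_of_ne_zero index_ne_zero_of_finite) (index_dvd_of_le hle)
    have h4 := h.index_lt
    omega
  apply hwV'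
  refine mem_inf.mpr ⟨hwV, mem_centralizer_iff.mpr fun y hy => ?_⟩
  have h5 : y * (w : G) * y⁻¹ * (w : G)⁻¹ ∈ V' := hH.ge (mem_top y)
  obtain ⟨m, hm⟩ := IsPGroup.iff_orderOf.mp h.isPGroup ⟨_, hVS h5.1⟩
  rw [orderOf_mk] at hm
  exact commute_of_conj_mul hy (mem_centralizer_iff.mp h5.2 y hy) (hm ▸ pow_orderOf_eq_one _)
    (by group)

/-- If `Z(S)` is not central in `G`, then `Z(O_p(G)) = Ω₁(Z(O_p(G))) Z(S)`. -/
theorem center_core_eq_omega_sup {S : Subgroup G} (hE : IsPushingUpSituation p S)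
    (hJ : S ≤ centralizer (centerThompsonAOf S : Set G))
    (hnc : ¬ S ⊓ centralizer (S : Set G) ≤ centralizer ((⊤ : Subgroup G) : Set G)) :
    pCore p G ⊓ centralizer (pCore p G : Set G) =
      omegaOne p (pCore p G ⊓ centralizer (pCore p G : Set G)) ⊔
        (S ⊓ centralizer (S : Set G)) := by
  have hP : ∃ P : Sylow p G, (P : Subgroup G) = S := hE.2.1
  have hRcl := (center_central_or_core_centrallyLarge hE hJ).resolve_left hnc
  obtain ⟨M, q, g, h⟩ := pushUpData hE
  haveI := pCore_normal p G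
  set R := pCore p G
  set V := R ⊓ centralizer (R : Set G) with hVdef
  haveI : V.Normal := Subgroup.normal_inf_normal R _
  set C := S ⊓ centralizer (S : Set G) with hCdef
  set V₁ := omegaOne p V with hV₁
  haveI : V₁.Normal := PLocal.omegaOne_normal V
  have hCV : C ≤ V := le_inf ((inf_le_right.trans (centralizer_le h.core_le)).trans h.cpSelf)
    (inf_le_right.trans (centralizer_le h.core_le))
  have hVS : V ≤ S := inf_le_left.trans h.core_le
  have hV₁V : V₁ ≤ V := PLocal.omegaOne_le p V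
  have hVV : V ≤ centralizer (V : Set G) :=
    inf_le_right.trans (centralizer_le (inf_le_left (a := R) (b := centralizer (R : Set G))))
  -- `|V : Z(S)| = q`
  have hidx : C.relIndex V = q := by
    have hqR := LocalEvenBasic.card_mul_relIndex_of_le R S h.core_le
    rw [h.index_core] at hqR
    have htop := isCentrallyLarge_top hJ
    rw [← subgroupOf_self S, isCentrallyLarge_subgroupOf_iff le_rfl,
      ← (isCentrallyLarge_subgroupOf_iff h.core_le).mp hRcl, ← hqR, ← hVdef, ← hCdef, mul_assoc]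
      at htop
    have e := Nat.eq_of_mul_eq_mul_left Nat.card_pos htop
    rw [← LocalEvenBasic.card_mul_relIndex_of_le C V hCV, mul_comm] at e
    exact (Nat.eq_of_mul_eq_mul_left Nat.card_pos e).symm
  set C₁ := V₁ ⊓ centralizer (S : Set G) with hC₁
  have hC₁C : C₁ = V₁ ⊓ C :=
    le_antisymm (le_inf inf_le_left (le_inf ((inf_le_left.trans hV₁V).trans hVS) inf_le_right))
      (le_inf inf_le_left (inf_le_right.trans inf_le_right))
  have hC₁q : C₁.relIndex V₁ ≤ q := by
    rw [← hidx, hC₁C, inf_relIndex_left]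
    exact relIndex_le_of_le_right hV₁V index_ne_zero_of_finite
  have hnc₁ : ¬ C₁ ≤ centralizer ((⊤ : Subgroup G) : Set G) := by
    intro hc
    have hx₁ : ∀ x : G, ¬ p ∣ orderOf x → ∀ v ∈ V₁, Commute x v := fun x hx v hv =>
      h.commute_of_small_index (hV₁V.trans hVS) (inf_le_left : C₁ ≤ V₁)
        (fun y _ c hc' => mem_centralizer_iff.mp (hc hc') y (mem_top y)) hC₁q hx hv
    have hx' : ∀ k, ∀ v ∈ V, v ^ p ^ k = 1 → ∀ x : G, ¬ p ∣ orderOf x → Commute x v := by
      intro k
      induction k with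
      | zero => intro v _ hv x _; rw [pow_zero, pow_one] at hv; subst hv; exact Commute.one_right x
      | succ k ih =>
        intro v hv hpow x hx
        have hvp : Commute x (v ^ p) :=
          ih _ (V.pow_mem hv p) (by rw [← pow_mul, ← pow_succ']; exact hpow) x hx
        set c := x * v * x⁻¹ * v⁻¹ with hcdef
        have hcv : x * v * x⁻¹ ∈ V := Normal.conj_mem inferInstance v hv x
        have hc1 : c ^ p = 1 := by
          have hcm : Commute (x * v * x⁻¹) v⁻¹ :=
            (mem_centralizer_iff.mp (hVV hcv) _ (V.inv_mem hv)).symm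
          rw [hcdef, hcm.mul_pow, conj_pow, hvp.eq, mul_inv_cancel_right, inv_pow, mul_inv_cancel]
        have hcm : c ∈ V₁ := PLocal.mem_omegaOne (V.mul_mem hcv (V.inv_mem hv)) hc1
        exact commute_of_conj_mul (n := 1) hx (hx₁ x hx c hcm) (by rw [pow_one]; exact hc1)
          (by rw [hcdef]; group)
    apply hnc
    intro z hz
    obtain ⟨m, hm⟩ := IsPGroup.iff_orderOf.mp h.isPGroup ⟨z, hz.1⟩
    rw [orderOf_mk] at hm
    have hall : centralizer ({z} : Set G) = ⊤ := by
      obtain ⟨P, rfl⟩ := hP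
      rw [← index_eq_one, Nat.eq_one_iff_not_exists_prime_dvd]
      intro r hr hd
      by_cases hrp : r = p
      · subst hrp
        exact P.not_dvd_index (hd.trans (index_dvd_of_le fun s hs =>
          mem_centralizer_singleton_iff.mpr (mem_centralizer_iff.mp hz.2 s hs)))
      · haveI := Fact.mk hr
        obtain ⟨Q⟩ := (inferInstance : Nonempty (Sylow r G))
        refine Q.not_dvd_index (hd.trans (index_dvd_of_le fun s hs => ?_))
        obtain ⟨j, hj⟩ := IsPGroup.iff_orderOf.mp Q.2 ⟨s, hs⟩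
        rw [orderOf_mk] at hj
        refine mem_centralizer_singleton_iff.mpr (hx' m z (hCV hz) (hm ▸ pow_orderOf_eq_one z) s ?_)
        rw [hj]
        exact fun hd' => hrp ((Nat.prime_dvd_prime_iff_eq (Fact.out : p.Prime) hr).mp
          ((Fact.out : p.Prime).dvd_of_dvd_pow hd')).symm
    refine mem_centralizer_iff.mpr fun y _ => ?_
    exact mem_centralizer_singleton_iff.mp (hall.ge (mem_top y))
  have hge := h.le_relIndex V₁ (h.isPGroup.to_le (hV₁V.trans hVS)) hnc₁
  rw [← hC₁, hC₁C, inf_relIndex_left] at hge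
  refine le_antisymm ?_ (sup_le hV₁V hCV)
  have hle : V₁ ⊔ C ≤ V := sup_le hV₁V hCV
  refine (eq_of_le_of_card_ge hle ?_).ge
  have h1 := card_sup_mul_card_inf_of_coe V₁ C
    (coe_sup_eq_mul_of_le_centralizer (hV₁V.trans (hVV.trans (centralizer_le hCV))))
  have h2 := LocalEvenBasic.card_mul_relIndex_of_le (V₁ ⊓ C) V₁ inf_le_left
  rw [inf_relIndex_left] at h2
  refine Nat.le_of_mul_le_mul_right ?_ (Nat.card_pos (α := ↥(V₁ ⊓ C)))
  calc Nat.card V * Nat.card ↥(V₁ ⊓ C) = Nat.card C * q * Nat.card ↥(V₁ ⊓ C) := by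
        rw [← LocalEvenBasic.card_mul_relIndex_of_le C V hCV, hidx]
    _ ≤ Nat.card C * C.relIndex V₁ * Nat.card ↥(V₁ ⊓ C) := by gcongr
    _ = Nat.card ↥(V₁ ⊔ C) * Nat.card ↥(V₁ ⊓ C) := by rw [h1, ← h2]; ring

end CfsgLib.LocalEven50
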