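import Mathlib.GroupTheory.Commutator.Basic
import Mathlib.GroupTheory.Index
import Mathlib.GroupTheory.QuotientGroup.Basic
import Mathlib.Tactic.Group
import Cfsg.Agent.LocalEven50.PushingUp

/-!
# Automorphisms of a subgroup acting on subgroups, and words in them

`tw φ X` is the image of `X ∩ S` under `φ ∈ Aut S`, `cj a X` the conjugate of `X`. A word is a list
of pairs `(a, φ)`; `push` applies `cj a ∘ tw φ` letter by letter from the right, `pull` undoes it.
-/

namespace CfsgLib.LocalEven50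

open Subgroup
open scoped commutatorElement

variable {G : Type*} [Group G] {S : Subgroup G}

/-- Conjugate subgroup. -/
def cj (a : G) (X : Subgroup G) : Subgroup G := X.map (MulAut.conj a).toMonoidHom

theorem mem_cj {a : G} {X : Subgroup G} {y : G} : y ∈ cj a X ↔ a⁻¹ * y * a ∈ X := by
  constructor
  · rintro ⟨x, hx, rfl⟩; simpa [mul_assoc] using hx
  · intro h; exact ⟨_, h, by simp [mul_assoc]⟩

theorem cj_mono {a : G} {X Y : Subgroup G} (h : X ≤ Y) : cj a X ≤ cj a Y := map_mono h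

theorem cj_one (X : Subgroup G) : cj 1 X = X := by ext y; simp [mem_cj]

theorem cj_mul (a b : G) (X : Subgroup G) : cj (a * b) X = cj a (cj b X) := by
  ext y; simp [mem_cj, mul_assoc]

theorem cj_inv_cj (a : G) (X : Subgroup G) : cj a⁻¹ (cj a X) = X := by
  rw [← cj_mul, inv_mul_cancel, cj_one]

theorem cj_cj_inv (a : G) (X : Subgroup G) : cj a (cj a⁻¹ X) = X := by
  rw [← cj_mul, mul_inv_cancel, cj_one]

theorem cj_bot (a : G) : cj a (⊥ : Subgroup G) = ⊥ := Subgroup.map_bot _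

theorem cj_commutator (a : G) (X Y : Subgroup G) : cj a ⁅X, Y⁆ = ⁅cj a X, cj a Y⁆ :=
  map_commutator _ _ _

theorem cj_inf (a : G) (X Y : Subgroup G) : cj a (X ⊓ Y) = cj a X ⊓ cj a Y :=
  Subgroup.map_inf _ _ _ (MulAut.conj a).injective

theorem cj_sup (a : G) (X Y : Subgroup G) : cj a (X ⊔ Y) = cj a X ⊔ cj a Y :=
  Subgroup.map_sup _ _ _

theorem card_cj (a : G) (X : Subgroup G) : Nat.card ↥(cj a X) = Nat.card X :=
  card_map_of_injective (MulAut.conj a).injective

theorem cj_normal (a : G) (X : Subgroup G) [hX : X.Normal] : cj a X = X := by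
  ext y
  rw [mem_cj]
  exact ⟨fun h => by simpa [mul_assoc] using hX.conj_mem _ h a,
    fun h => by simpa [mul_assoc] using hX.conj_mem _ h a⁻¹⟩

theorem cj_centralizer (a : G) (X : Subgroup G) :
    cj a (centralizer (X : Set G)) = centralizer (cj a X : Set G) :=
  map_centralizer_mulEquiv (MulAut.conj a) X

theorem cj_centralizer_singleton (a x : G) :
    cj a (centralizer ({x} : Set G)) = centralizer ({a * x * a⁻¹} : Set G) := by
  ext y
  rw [mem_cj, mem_centralizer_singleton_iff, mem_centralizer_singleton_iff]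
  constructor
  · intro h
    calc y * (a * x * a⁻¹) = a * (a⁻¹ * y * a * x) * a⁻¹ := by group
      _ = a * x * a⁻¹ * y := by rw [h]; group
  · intro h
    calc a⁻¹ * y * a * x = a⁻¹ * (y * (a * x * a⁻¹)) * a := by group
      _ = x * (a⁻¹ * y * a) := by rw [h]; group

/-- Image of `X ∩ S` under an automorphism of `S`. -/
def tw (φ : MulAut ↥S) (X : Subgroup G) : Subgroup G :=
  (X.subgroupOf S).map (S.subtype.comp φ.toMonoidHom)

theorem mem_tw {φ : MulAut ↥S} {X : Subgroup G} {y : G} :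
    y ∈ tw φ X ↔ ∃ x : ↥S, (x : G) ∈ X ∧ (φ x : G) = y := Iff.rfl

theorem tw_le (φ : MulAut ↥S) (X : Subgroup G) : tw φ X ≤ S := by
  rintro _ ⟨x, -, rfl⟩; exact (φ x).2

theorem tw_mono {φ : MulAut ↥S} {X Y : Subgroup G} (h : X ≤ Y) : tw φ X ≤ tw φ Y :=
  map_mono (fun _ hx => h hx)

theorem tw_one (X : Subgroup G) : tw (1 : MulAut ↥S) X = X ⊓ S := by
  ext y
  rw [mem_tw]
  exact ⟨fun ⟨x, hx, e⟩ => by rw [← e]; exact ⟨hx, x.2⟩, fun h => ⟨⟨y, h.2⟩, h.1, rfl⟩⟩

theorem tw_tw (φ ψ : MulAut ↥S) (X : Subgroup G) : tw φ (tw ψ X) = tw (φ * ψ) X := by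
  ext y
  simp only [mem_tw]
  constructor
  · rintro ⟨x, ⟨z, hz, e⟩, rfl⟩
    exact ⟨z, hz, by rw [MulAut.mul_apply, Subtype.ext e]⟩
  · rintro ⟨z, hz, rfl⟩
    exact ⟨ψ z, ⟨z, hz, rfl⟩, rfl⟩

theorem tw_tw_inv {φ : MulAut ↥S} {X : Subgroup G} (hX : X ≤ S) : tw φ (tw φ⁻¹ X) = X := by
  rw [tw_tw, mul_inv_cancel, tw_one, inf_eq_left.mpr hX]

theorem tw_inv_tw {φ : MulAut ↥S} {X : Subgroup G} (hX : X ≤ S) : tw φ⁻¹ (tw φ X) = X := by
  rw [tw_tw, inv_mul_cancel, tw_one, inf_eq_left.mpr hX]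

theorem tw_injective (φ : MulAut ↥S) :
    Function.Injective (S.subtype.comp φ.toMonoidHom) :=
  S.subtype_injective.comp φ.injective

theorem tw_inf (φ : MulAut ↥S) (X Y : Subgroup G) : tw φ (X ⊓ Y) = tw φ X ⊓ tw φ Y :=
  (congrArg _ (comap_inf X Y S.subtype)).trans (Subgroup.map_inf _ _ _ (tw_injective φ))

theorem tw_bot (φ : MulAut ↥S) : tw φ (⊥ : Subgroup G) = ⊥ := by
  rw [tw, bot_subgroupOf, Subgroup.map_bot]

theorem card_tw {φ : MulAut ↥S} {X : Subgroup G} (hX : X ≤ S) :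
    Nat.card ↥(tw φ X) = Nat.card X := by
  rw [tw, card_map_of_injective (tw_injective φ)]
  exact Nat.card_congr (subgroupOfEquivOfLe hX).toEquiv

theorem tw_self (φ : MulAut ↥S) : tw φ S = S := by
  refine le_antisymm (tw_le _ _) fun y hy => ?_
  exact ⟨φ.symm ⟨y, hy⟩, (φ.symm ⟨y, hy⟩).2, by simp⟩

theorem tw_commutator {φ : MulAut ↥S} {X Y : Subgroup G} (hX : X ≤ S) (hY : Y ≤ S) :
    tw φ ⁅X, Y⁆ = ⁅tw φ X, tw φ Y⁆ := by
  unfold tw
  rw [← map_commutator]
  congr 1
  apply map_injective S.subtype_injective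
  rw [map_commutator, map_subgroupOf_eq_of_le hX, map_subgroupOf_eq_of_le hY,
    map_subgroupOf_eq_of_le ((commutator_mono hX hY).trans ?_)]
  exact commutator_le.mpr fun a ha b hb => by
    rw [commutatorElement_def]
    exact S.mul_mem (S.mul_mem (S.mul_mem ha hb) (S.inv_mem ha)) (S.inv_mem hb)

theorem tw_comm_bot {φ : MulAut ↥S} {X Y : Subgroup G} (h : ⁅X, Y⁆ = ⊥) :
    ⁅tw φ X, tw φ Y⁆ = ⊥ := by
  rw [commutator_eq_bot_iff_le_centralizer]
  intro u hu
  obtain ⟨x, hx, rfl⟩ := hu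
  refine mem_centralizer_iff.mpr ?_
  rintro _ ⟨y, hy, rfl⟩
  rw [← map_mul, ← map_mul]
  congr 1
  exact Subtype.ext (mem_centralizer_iff.mp
    (commutator_eq_bot_iff_le_centralizer.mp h hx) _ hy)

theorem cj_comm_bot {a : G} {X Y : Subgroup G} (h : ⁅X, Y⁆ = ⊥) : ⁅cj a X, cj a Y⁆ = ⊥ := by
  rw [← cj_commutator, h, cj_bot]

theorem tw_inf_centralizer {φ : MulAut ↥S} {X : Subgroup G} (hX : X ≤ S) :
    tw φ (S ⊓ centralizer (X : Set G)) = S ⊓ centralizer (tw φ X : Set G) := by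
  ext y
  constructor
  · rintro ⟨z, hz, rfl⟩
    refine ⟨(φ z).2, mem_centralizer_iff.mpr ?_⟩
    rintro _ ⟨x, hx, rfl⟩
    rw [← map_mul, ← map_mul]
    congr 1
    exact Subtype.ext (mem_centralizer_iff.mp hz.2 _ hx)
  · rintro ⟨hy, hc⟩
    refine ⟨φ.symm ⟨y, hy⟩, ⟨(φ.symm _).2, mem_centralizer_iff.mpr fun x hx => ?_⟩, by simp⟩
    have h : φ ⟨x, hX hx⟩ * ⟨y, hy⟩ = ⟨y, hy⟩ * φ ⟨x, hX hx⟩ :=
      Subtype.ext (mem_centralizer_iff.mp hc _ ⟨⟨x, hX hx⟩, hx, rfl⟩)
    have h2 := congrArg φ.symm h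
    simpa using congrArg Subtype.val h2

/-- `S` normalises the image of a subgroup it normalises. -/
theorem le_normalizer_tw {φ : MulAut ↥S} {X : Subgroup G} (hX : S ≤ normalizer (X : Set G)) :
    S ≤ normalizer (tw φ X : Set G) := by
  haveI : (X.subgroupOf S).Normal := ⟨fun n hn g => (mem_normalizer_iff.mp (hX g.2) _).mp hn⟩
  haveI : ((X.subgroupOf S).map φ.toMonoidHom).Normal :=
    Normal.map inferInstance _ φ.surjective
  rw [tw, ← Subgroup.map_map]
  intro s hs
  refine mem_normalizer_iff.mpr fun y => ⟨?_, ?_⟩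
  · rintro ⟨z, hz, rfl⟩
    exact ⟨⟨s, hs⟩ * z * (⟨s, hs⟩ : ↥S)⁻¹, Normal.conj_mem inferInstance z hz _, rfl⟩
  · rintro ⟨z, hz, e⟩
    refine ⟨(⟨s, hs⟩ : ↥S)⁻¹ * z * ⟨s, hs⟩, ?_, ?_⟩
    · simpa using Normal.conj_mem inferInstance z hz (⟨s, hs⟩ : ↥S)⁻¹
    · show s⁻¹ * (z : G) * s = y
      rw [show (z : G) = s * y * s⁻¹ from e]; group

/-- Invariant under all automorphisms of `S`. -/
def CharIn (S T : Subgroup G) : Prop := ∀ φ : MulAut ↥S, tw φ T ≤ T

theorem CharIn.eq {T : Subgroup G} (h : CharIn S T) (hT : T ≤ S) (φ : MulAut ↥S) : tw φ T = T :=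
  le_antisymm (h φ) (by conv_lhs => rw [← tw_tw_inv (φ := φ) hT]
                        exact tw_mono (h φ⁻¹))

theorem CharIn.characteristic {T : Subgroup G} (h : CharIn S T) :
    (T.subgroupOf S).Characteristic :=
  characteristic_iff_map_le.mpr fun φ _ hy => by
    obtain ⟨x, hx, rfl⟩ := hy
    exact h φ ⟨x, hx, rfl⟩

theorem charIn_self : CharIn S S := fun φ => (tw_self φ).le

theorem CharIn.inf_centralizer {T : Subgroup G} (h : CharIn S T) (hT : T ≤ S) :
    CharIn S (S ⊓ centralizer (T : Set G)) := fun φ => by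
  rw [tw_inf_centralizer hT, h.eq hT]

theorem CharIn.commutator {A B : Subgroup G} (hA : CharIn S A) (hB : CharIn S B) (hA' : A ≤ S)
    (hB' : B ≤ S) : CharIn S ⁅A, B⁆ := fun φ => by
  rw [tw_commutator hA' hB']; exact commutator_mono (hA φ) (hB φ)

theorem charIn_closure {P : ↥S → Prop} (hP : ∀ (φ : MulAut ↥S) x, P x → P (φ x)) :
    CharIn S ((closure {x | P x}).map S.subtype) := fun φ => by
  unfold tw
  rw [subgroupOf, comap_map_eq_self_of_injective S.subtype_injective, ← Subgroup.map_map]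
  refine map_mono ?_
  rw [MonoidHom.map_closure]
  exact closure_mono (by rintro _ ⟨x, hx, rfl⟩; exact hP φ x hx)

theorem charIn_iSup {ι : Sort*} {f : ι → Subgroup G} (hf : ∀ i, f i ≤ S)
    (h : ∀ (φ : MulAut ↥S) i, tw φ (f i) ≤ ⨆ j, f j) : CharIn S (⨆ i, f i) := fun φ => by
  have e : (⨆ i, f i).subgroupOf S = ⨆ i, (f i).subgroupOf S := by
    apply map_injective S.subtype_injective
    rw [map_subgroupOf_eq_of_le (iSup_le hf), Subgroup.map_iSup]
    exact iSup_congr fun i => (map_subgroupOf_eq_of_le (hf i)).symm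
  rw [tw, e, Subgroup.map_iSup]
  exact iSup_le fun i => h φ i

/-! ### Words -/

variable (S) in
/-- Apply a word. -/
def push : List (G × MulAut ↥S) → Subgroup G → Subgroup G
  | [], X => X
  | (a, φ) :: w, X => cj a (tw φ (push w X))

variable (S) in
/-- Undo a word. -/
def pull : List (G × MulAut ↥S) → Subgroup G → Subgroup G
  | [], X => X
  | (a, φ) :: w, X => pull w (tw φ⁻¹ (cj a⁻¹ X))

/-- All intermediate images lie in `S`. -/
def Good : List (G × MulAut ↥S) → Subgroup G → Prop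
  | [], _ => True
  | (_, _) :: w, X => push S w X ≤ S ∧ Good w X

@[simp] theorem push_nil (X : Subgroup G) : push S [] X = X := rfl

@[simp] theorem push_cons (c : G × MulAut ↥S) (w : List (G × MulAut ↥S)) (X : Subgroup G) :
    push S (c :: w) X = cj c.1 (tw c.2 (push S w X)) := rfl

@[simp] theorem pull_nil (X : Subgroup G) : pull S [] X = X := rfl

@[simp] theorem pull_cons (c : G × MulAut ↥S) (w : List (G × MulAut ↥S)) (X : Subgroup G) :
    pull S (c :: w) X = pull S w (tw c.2⁻¹ (cj c.1⁻¹ X)) := rfl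

theorem push_append (u w : List (G × MulAut ↥S)) (X : Subgroup G) :
    push S (u ++ w) X = push S u (push S w X) := by
  induction u with
  | nil => rfl
  | cons c u ih => simp [ih]

theorem push_mono (w : List (G × MulAut ↥S)) {X Y : Subgroup G} (h : X ≤ Y) :
    push S w X ≤ push S w Y := by
  induction w with
  | nil => exact h
  | cons c w ih => exact cj_mono (tw_mono ih)

theorem pull_mono (w : List (G × MulAut ↥S)) {X Y : Subgroup G} (h : X ≤ Y) :
    pull S w X ≤ pull S w Y := by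
  induction w generalizing X Y with
  | nil => exact h
  | cons c w ih => exact ih (tw_mono (cj_mono h))

theorem Good.mono {w : List (G × MulAut ↥S)} {X Y : Subgroup G} (h : Good w Y) (hle : X ≤ Y) :
    Good w X := by
  induction w with
  | nil => trivial
  | cons c w ih => exact ⟨(push_mono w hle).trans h.1, ih h.2⟩

theorem push_bot (w : List (G × MulAut ↥S)) : push S w (⊥ : Subgroup G) = ⊥ := by
  induction w with
  | nil => rfl
  | cons c w ih => rw [push_cons, ih, tw_bot, cj_bot]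

theorem push_inf (w : List (G × MulAut ↥S)) (X Y : Subgroup G) :
    push S w (X ⊓ Y) = push S w X ⊓ push S w Y := by
  induction w with
  | nil => rfl
  | cons c w ih => simp only [push_cons, ih, tw_inf, cj_inf]

theorem card_push {w : List (G × MulAut ↥S)} {X : Subgroup G} (h : Good w X) :
    Nat.card ↥(push S w X) = Nat.card X := by
  induction w with
  | nil => rfl
  | cons c w ih => rw [push_cons, card_cj, card_tw h.1, ih h.2]

theorem commutator_push {w : List (G × MulAut ↥S)} {X Y : Subgroup G} (hX : Good w X)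
    (hY : Good w Y) : ⁅push S w X, push S w Y⁆ = push S w ⁅X, Y⁆ := by
  induction w with
  | nil => rfl
  | cons c w ih =>
    rw [push_cons, push_cons, push_cons, ← cj_commutator, ← tw_commutator hX.1 hY.1,
      ih hX.2 hY.2]

theorem push_comm_bot (w : List (G × MulAut ↥S)) {X Y : Subgroup G} (h : ⁅X, Y⁆ = ⊥) :
    ⁅push S w X, push S w Y⁆ = ⊥ := by
  induction w with
  | nil => exact h
  | cons c w ih => exact cj_comm_bot (tw_comm_bot ih)

theorem pull_comm_bot (w : List (G × MulAut ↥S)) {X Y : Subgroup G} (h : ⁅X, Y⁆ = ⊥) :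
    ⁅pull S w X, pull S w Y⁆ = ⊥ := by
  induction w generalizing X Y with
  | nil => exact h
  | cons c w ih => exact ih (tw_comm_bot (cj_comm_bot h))

end CfsgLib.LocalEven50
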