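import Cfsg.Agent.LocalEven50.PushingUpThompson
import Cfsg.Agent.LocalEven50.PushingUpOmega
import Cfsg.Agent.LocalEven50.Twist

/-!
# Pushing up: the basic configuration

If no nontrivial characteristic subgroup of `S` is normal in `G`, then `V = Z(O_p(G))` is elementary
abelian, `V = C C^a` for `C = Z(S)`, `V/C_V(G)` is irreducible and `S` is quadratic on `V`.
-/

namespace CfsgLib.LocalEven50

open Subgroup Cfsg
open scoped commutatorElement

set_option linter.style.haveILetI false
set_option linter.unusedSectionVars false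

variable {G : Type*} [Group G]

/-- `Z(O_p(G))`. -/
def zR (p : ℕ) (G : Type*) [Group G] : Subgroup G :=
  pCore p G ⊓ centralizer (pCore p G : Set G)

/-- `Z(S)`, inside `G`. -/
def zS (S : Subgroup G) : Subgroup G := S ⊓ centralizer (S : Set G)

/-- The `G`-fixed part of `Z(O_p(G))`. -/
def zG (p : ℕ) (G : Type*) [Group G] : Subgroup G :=
  zR p G ⊓ centralizer ((⊤ : Subgroup G) : Set G)

instance zR_normal (p : ℕ) : (zR p G).Normal :=
  haveI := pCore_normal p G
  Subgroup.normal_inf_normal (pCore p G) _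

theorem normal_of_central {T : Subgroup G} (h : T ≤ centralizer ((⊤ : Subgroup G) : Set G)) :
    T.Normal :=
  ⟨fun y hy x => by rwa [mem_centralizer_iff.mp (h hy) x (mem_top x), mul_inv_cancel_right]⟩

instance zG_normal (p : ℕ) : (zG p G).Normal := normal_of_central inf_le_right

variable {p : ℕ} [Fact p.Prime] {S M : Subgroup G} {q : ℕ} {a : G}

/-- The configuration forced by noncentral elementary abelian `Z(S)` and `J(S) ≰ O_p(G)`. -/
structure PUCore (p : ℕ) (S M : Subgroup G) (q : ℕ) (a : G) : Prop where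
  data : PushUpData p S M q a⁻¹
  zS_le : zS S ≤ zR p G
  zR_inf : zR p G ⊓ centralizer (S : Set G) = zS S
  elem : IsElementaryAbelian p (zR p G)
  sup_eq : zS S ⊔ cj a (zS S) = zR p G
  inf_eq : zS S ⊓ cj a (zS S) = zG p G
  card_zS : Nat.card ↥(zS S) = q * Nat.card ↥(zG p G)
  fix : ∀ s ∈ S, s ∉ pCore p G → zR p G ⊓ centralizer ({s} : Set G) = zS S
  quad : ⁅zR p G, S⁆ ≤ zS S

/-- The configuration forced by the absence of normal characteristic subgroups of `S`. -/
structure PUBase (p : ℕ) (S M : Subgroup G) (q : ℕ) (a : G) : Prop extends PUCore p S M q a where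
  hd : ∀ T : Subgroup G, T ≤ S → CharIn S T → T.Normal → T = ⊥

theorem charIn_zS (S : Subgroup G) : CharIn S (zS S) := charIn_self.inf_centralizer le_rfl

theorem charIn_thompson (S : Subgroup G) : CharIn S (thompsonSubgroupAOf S) := by
  have key : ∀ (φ : MulAut ↥S) A, IsLargeAbelianIn S A → IsLargeAbelianIn S (tw φ A) := by
    intro φ A hA
    refine ⟨tw_le _ _, commutator_eq_bot_iff_le_centralizer.mp (tw_comm_bot
      (commutator_eq_bot_iff_le_centralizer.mpr hA.2.1)), fun B h1 h2 => ?_⟩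
    rw [card_tw hA.1]
    exact hA.2.2 B h1 h2
  intro φ
  refine (tw_mono (φ := φ) (thompsonSubgroupAOf_le_iff.mpr fun A hA => ?_)).trans
    (tw_tw_inv (φ := φ) (thompsonSubgroupAOf_le S)).le
  exact (tw_inv_tw hA.1).ge.trans (tw_mono (key φ A hA).le_thompson)

theorem charIn_centerThompson (S : Subgroup G) :
    CharIn S (S ⊓ centralizer (centerThompsonAOf S : Set G)) := by
  have hJ := thompsonSubgroupAOf_le S
  refine CharIn.inf_centralizer (fun φ => ?_) (inf_le_left.trans hJ)
  have h1 := (charIn_thompson S)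
  have h2 : centerThompsonAOf S =
      thompsonSubgroupAOf S ⊓ (S ⊓ centralizer (thompsonSubgroupAOf S : Set G)) := by
    rw [centerThompsonAOf, ← inf_assoc, inf_eq_left.mpr hJ]
  rw [h2, tw_inf]
  exact inf_le_inf (h1 φ) (h1.inf_centralizer hJ φ)

theorem exists_puCore [Finite G] {S : Subgroup G} (hE : IsPushingUpSituation p S)
    (hnc : ¬ zS S ≤ centralizer ((⊤ : Subgroup G) : Set G))
    (hJ : ¬ thompsonSubgroupAOf S ≤ pCore p G) :
    (∀ c ∈ zS S, c ^ p ∈ centralizer ((⊤ : Subgroup G) : Set G)) ∧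
      ((∀ c ∈ zS S, c ^ p = 1) → ∃ M q a, PUCore p S M q a) := by
  obtain ⟨M, q, g, h⟩ := pushUpData hE
  haveI := pCore_normal p G
  set R := pCore p G with hR
  set V := zR p G with hV
  obtain ⟨W₀, D⟩ := exists_thompsonData hE h hnc hJ
  have hC : V ⊓ centralizer (S : Set G) = zS S := h.center_eq
  have hVS : V ≤ S := inf_le_left.trans h.core_le
  have hVc : V ≤ centralizer (V : Set G) :=
    inf_le_right.trans (centralizer_le (inf_le_left (a := R) (b := centralizer (R : Set G))))
  have hRV : R ≤ centralizer (V : Set G) := le_centralizer_iff.mp inf_le_right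
  have hVab : IsMulCommutative ↥V := le_centralizer_iff_isMulCommutative.mp hVc
  obtain ⟨hquad, -, -⟩ :=
    quadratic_of_offender hE h V hVS hVab hRV (hC ▸ hnc) D.hasOffender
  obtain ⟨hCCg, hinf, hcard, hfix⟩ :=
    structure_of_offender hE h V hVS hVab hRV (hC ▸ hnc) D.hasOffender
  rw [hC] at hCCg hinf hcard hfix
  set b := g⁻¹ with hb
  have hg : g = b⁻¹ := (inv_inv g).symm
  have hCV : zS S ≤ V := hC ▸ inf_le_left
  have hsup : zS S ⊔ cj b (zS S) = V := by
    have := congrArg (cj b) hCCg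
    rwa [cj_sup, cj_normal b V, show (zS S).map (MulAut.conj g).toMonoidHom = cj g (zS S) from rfl,
      hg, cj_cj_inv, sup_comm] at this
  have hinf' : zS S ⊓ cj b (zS S) = zG p G := by
    have := congrArg (cj b) hinf
    rw [cj_inf, show (zS S).map (MulAut.conj g).toMonoidHom = cj g (zS S) from rfl, hg, cj_cj_inv,
      inf_comm] at this
    exact this.trans (cj_normal b (zG p G))
  have hquad' : ⁅V, S⁆ ≤ zS S := hC ▸ le_inf
    (Coprime.commutator_le_of_le_normalizer (((normalizer_eq_top (H := V)).ge).trans' le_top)) hquad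
  -- `p`-th powers of `V` lie in `Z(S)`
  have hpow : ∀ v ∈ V, v ^ p ∈ zS S := by
    intro v hv
    refine hC ▸ ⟨V.pow_mem hv p, mem_centralizer_iff.mpr fun s hs => ?_⟩
    obtain ⟨-, -, hexp⟩ := pushUp_torus hE
    set c := s * v * s⁻¹ * v⁻¹ with hc
    have hcC : c ∈ zS S := by
      have := inv_mem (hquad' (commutator_mem_commutator hv hs))
      rwa [commutatorElement_inv, commutatorElement_def] at this
    have hsv : Commute (s ^ p) v :=
      mem_centralizer_iff.mp (inf_le_right (a := R) hv) _ (hexp s hs)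
    have hcs : Commute s c := mem_centralizer_iff.mp hcC.2 s hs
    have hcv : Commute c v := (mem_centralizer_iff.mp (hVc (hCV hcC)) v hv).symm
    have key : ∀ k : ℕ, s ^ k * v * (s ^ k)⁻¹ = c ^ k * v := by
      intro k
      induction k with
      | zero => simp
      | succ k ih =>
        rw [pow_succ' s, show s * s ^ k * v * (s * s ^ k)⁻¹ = s * (s ^ k * v * (s ^ k)⁻¹) * s⁻¹ by
          group, ih, show s * (c ^ k * v) * s⁻¹ = s * c ^ k * (v * s⁻¹) by group,
          (hcs.pow_right k).eq, show c ^ k * s * (v * s⁻¹) = c ^ k * (s * v * s⁻¹ * v⁻¹) * v by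
          group, ← hc, pow_succ]
    have hcp : c ^ p = 1 := by
      have := key p
      rwa [hsv.eq, mul_inv_cancel_right, right_eq_mul] at this
    show s * v ^ p = v ^ p * s
    rw [← mul_inv_eq_iff_eq_mul, ← conj_pow, show s * v * s⁻¹ = c * v by rw [hc]; group,
      hcv.mul_pow, hcp, one_mul]
  have hcen : ∀ c ∈ zS S, c ^ p ∈ centralizer ((⊤ : Subgroup G) : Set G) := by
    intro c hc
    have h1 : b * c * b⁻¹ ∈ cj b (zS S) := mem_cj.mpr (by simpa [mul_assoc] using hc)
    have h3 : (b * c * b⁻¹) ^ p ∈ zG p G := hinf' ▸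
      ⟨hpow _ ((le_sup_right.trans hsup.le) h1), pow_mem h1 p⟩
    rw [conj_pow] at h3
    have h4 := Normal.conj_mem (zG_normal (G := G) p) _ h3 b⁻¹
    simp [mul_assoc] at h4
    exact h4.2
  refine ⟨hcen, fun hzp => ?_⟩
  refine ⟨M, q, b, hg ▸ h, hCV, hC, ⟨hVab, ?_⟩, hsup, hinf', hcard, hfix, hquad'⟩
  intro v hv
  have hle : zS S ⊔ cj b (zS S) ≤ omegaOne p V := by
    refine sup_le (fun c hc => PLocal.mem_omegaOne (hCV hc) (hzp c hc)) fun c hc => ?_
    refine PLocal.mem_omegaOne (hsup.le (mem_sup_right hc)) ?_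
    have := hzp _ (mem_cj.mp hc)
    calc c ^ p = b * (b⁻¹ * c * b) ^ p * b⁻¹ := by rw [← conj_pow]; group
      _ = 1 := by rw [this]; group
  rw [hsup] at hle
  exact (PLocal.isElementaryAbelian_omegaOne hVab).2 v (hle hv)


theorem exists_puBase [Finite G] {S : Subgroup G} (hE : IsPushingUpSituation p S)
    (hd : ∀ T : Subgroup ↥S, T ≠ ⊥ → T.Characteristic → ¬ (T.map S.subtype).Normal) :
    ∃ M q a, PUBase p S M q a := by
  obtain ⟨M, q, g, h⟩ := pushUpData hE
  haveI := pCore_normal p G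
  have hd' : ∀ T : Subgroup G, T ≤ S → CharIn S T → T.Normal → T = ⊥ := by
    intro T hT hc hn
    by_contra hne
    refine hd (T.subgroupOf S) (fun hb => hne ?_) hc.characteristic
      (by rwa [map_subgroupOf_eq_of_le hT])
    rw [← map_subgroupOf_eq_of_le hT, hb, Subgroup.map_bot]
  set R := pCore p G with hR
  have hSne : S ≠ ⊥ := by
    intro hb
    have := h.index_core
    rw [hb, relIndex_bot_right] at this
    exact h.one_lt.ne this
  have hzne : zS S ≠ ⊥ := by
    intro hb
    haveI : Nontrivial ↥S := (nontrivial_iff_ne_bot _).mpr hSne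
    haveI : Nontrivial (center ↥S) := h.isPGroup.center_nontrivial
    obtain ⟨z, hz⟩ := exists_ne (1 : ↥(center ↥S))
    refine hz (Subtype.ext (Subtype.ext (mem_bot.mp (hb.le ⟨(z : ↥S).2, ?_⟩))))
    exact mem_centralizer_iff.mpr fun y hy =>
      congrArg Subtype.val (mem_center_iff.mp z.2 ⟨y, hy⟩)
  have hnc : ¬ zS S ≤ centralizer ((⊤ : Subgroup G) : Set G) := fun hc =>
    hzne (hd' _ inf_le_left (charIn_zS S) (normal_of_central hc))
  have hJ : ¬ thompsonSubgroupAOf S ≤ R := by
    intro hJ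
    have h1 := hd' _ inf_le_left (charIn_centerThompson S) (normal_of_thompson_le h hnc hJ)
    refine hzne (le_bot_iff.mp (le_trans ?_ h1.le))
    exact inf_le_inf_left _ (centralizer_le (inf_le_left.trans (thompsonSubgroupAOf_le S)))
  obtain ⟨hcen, hcore⟩ := exists_puCore hE hnc hJ
  -- `Z(S)` is elementary abelian
  have hzp : ∀ c ∈ zS S, c ^ p = 1 := by
    intro c hc
    set T := (closure {x : ↥S | ∃ z, (∀ y, y * z = z * y) ∧ x = z ^ p}).map S.subtype with hT
    have hTc : T ≤ centralizer ((⊤ : Subgroup G) : Set G) := by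
      rw [hT, map_le_iff_le_comap, closure_le]
      rintro x ⟨z, hz, rfl⟩
      show ((z ^ p : ↥S) : G) ∈ centralizer ((⊤ : Subgroup G) : Set G)
      rw [SubmonoidClass.coe_pow]
      exact hcen _ ⟨z.2, mem_centralizer_iff.mpr fun y hy => congrArg Subtype.val (hz ⟨y, hy⟩)⟩
    have hTS : T ≤ S := map_subtype_le _
    have hTchar : CharIn S T := charIn_closure (P := fun x => ∃ z, (∀ y, y * z = z * y) ∧ x = z ^ p)
      fun φ x ⟨z, hz, e⟩ => ⟨φ z, fun y => by
        have := congrArg φ (hz (φ.symm y)); simpa using this, by rw [e, map_pow]⟩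
    have h1 := hd' T hTS hTchar (normal_of_central hTc)
    refine mem_bot.mp (h1.le ⟨⟨c, hc.1⟩ ^ p, subset_closure ⟨⟨c, hc.1⟩, fun y => ?_, rfl⟩, rfl⟩)
    exact Subtype.ext (mem_centralizer_iff.mp hc.2 _ y.2)
  obtain ⟨M', q', a, hB⟩ := hcore hzp
  exact ⟨M', q', a, hB, hd'⟩

namespace PUCore

variable (B : PUCore p S M q a)
include B

theorem core_le : pCore p G ≤ S := B.data.core_le

theorem zR_le : zR p G ≤ S := inf_le_left.trans B.core_le

theorem zG_le_zS : zG p G ≤ zS S := B.inf_eq ▸ inf_le_left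

theorem cj_zS_le : cj a (zS S) ≤ zR p G := le_sup_right.trans B.sup_eq.le

theorem zR_comm : zR p G ≤ centralizer (zR p G : Set G) :=
  le_centralizer_iff_isMulCommutative.mpr B.elem.1

theorem gen {x : G} (hx : x ∈ cj a S) (hxR : x ∉ pCore p G) : zpowers x ⊔ S = ⊤ := by
  haveI := pCore_normal p G
  have h1 := congrArg (cj a) (B.data.gen _ (mem_cj.mp hx) (fun h => hxR
    (by simpa [mul_assoc] using Normal.conj_mem inferInstance _ h a)))
  rw [cj_sup, show S.map (MulAut.conj a⁻¹).toMonoidHom = cj a⁻¹ S from rfl, cj_cj_inv,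
    show cj a (⊤ : Subgroup G) = ⊤ from cj_normal a ⊤] at h1
  rw [← h1]
  congr 1
  rw [cj, MonoidHom.map_zpowers]
  simp [mul_assoc]

theorem exists_not_core : ∃ s ∈ S, s ∉ pCore p G := by
  by_contra hne
  push Not at hne
  have := B.data.index_core
  rw [relIndex_eq_one.mpr hne] at this
  exact B.data.one_lt.ne this

theorem exists_not_core_cj : ∃ x ∈ cj a S, x ∉ pCore p G := by
  obtain ⟨s, hs, hsR⟩ := B.exists_not_core
  haveI := pCore_normal p G
  exact ⟨a * s * a⁻¹, mem_cj.mpr (by simpa [mul_assoc] using hs),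
    fun h => hsR (by simpa [mul_assoc] using Normal.conj_mem inferInstance _ h a⁻¹)⟩

theorem fix_cj {x : G} (hx : x ∈ cj a S) (hxR : x ∉ pCore p G) :
    zR p G ⊓ centralizer ({x} : Set G) = cj a (zS S) := by
  haveI := pCore_normal p G
  rw [← B.fix _ (mem_cj.mp hx) (fun h => hxR
    (by simpa [mul_assoc] using Normal.conj_mem inferInstance _ h a)), cj_inf, cj_normal a,
    cj_centralizer_singleton]
  simp [mul_assoc]

theorem sup_eq_top {N : Subgroup G} [hN : N.Normal] {x : G} (hx : x ∈ N) (hxS : x ∈ S)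
    (hxR : x ∉ pCore p G) : N ⊔ S = ⊤ := by
  haveI := pCore_normal p G
  rw [eq_top_iff, ← B.gen (x := a * x * a⁻¹) (mem_cj.mpr (by simpa [mul_assoc] using hxS))
    (fun h => hxR (by simpa [mul_assoc] using Normal.conj_mem inferInstance _ h a⁻¹))]
  exact sup_le_sup_right (zpowers_le.mpr (hN.conj_mem x hx a)) _

/-- A normal subgroup containing `S` is everything. -/
theorem eq_top {N : Subgroup G} [N.Normal] (h : S ≤ N) : N = ⊤ := by
  obtain ⟨s, hs, hsR⟩ := B.exists_not_core
  rw [← B.sup_eq_top (h hs) hs hsR, sup_eq_left.mpr h]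

theorem sup_eq' : zS S ⊔ cj a⁻¹ (zS S) = zR p G := by
  have := congrArg (cj a⁻¹) B.sup_eq
  rwa [cj_sup, cj_inv_cj, cj_normal a⁻¹ (zR p G), sup_comm] at this

/-- A commutator landing in the fixed part is trivial. -/
theorem commutator_eq_one {v s : G} (hv : v ∈ zR p G) (hs : s ∈ S) (h : ⁅v, s⁆ ∈ zG p G) :
    ⁅v, s⁆ = 1 := by
  by_cases hsR : s ∈ pCore p G
  · rw [commutatorElement_eq_one_iff_mul_comm]
    exact (mem_centralizer_iff.mp hv.2 s hsR).symm
  have hv1 : v ∈ ((zS S ⊔ cj a⁻¹ (zS S) : Subgroup G) : Set G) := B.sup_eq'.ge hv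
  rw [coe_mul_of_left_le_normalizer_right _ _ (((B.zS_le.trans B.zR_comm).trans
    (centralizer_le (SetLike.coe_subset_coe.mpr (le_sup_right.trans B.sup_eq'.le)))).trans (centralizer_le_normalizer _))] at hv1
  obtain ⟨c, hc, c', hc', rfl⟩ := hv1
  have hcs : Commute c s := (mem_centralizer_iff.mp hc.2 s hs).symm
  have e : ∀ y, ⁅c * c', y⁆ = c * ⁅c', y⁆ * c⁻¹ * ⁅c, y⁆ := fun y => by
    simp only [commutatorElement_def]; group
  rw [e s, commutatorElement_eq_one_iff_mul_comm.mpr hcs.eq, mul_one] at h ⊢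
  -- the subgroup of those `x` with `⁅c', x⁆` central
  set U := (zpowers c').map (QuotientGroup.mk' (zG p G)) with hU
  set N := (centralizer (U : Set (G ⧸ zG p G))).comap (QuotientGroup.mk' (zG p G)) with hNdef
  have memN : ∀ y : G, ⁅c', y⁆ ∈ zG p G → y ∈ N := fun y hy => by
    refine mem_centralizer_iff.mpr ?_
    rintro _ ⟨_, ⟨i, rfl⟩, rfl⟩
    have h1 : Commute (QuotientGroup.mk' (zG p G) c') (QuotientGroup.mk' (zG p G) y) :=
      commutatorElement_eq_one_iff_mul_comm.mp (by
        rw [← map_commutatorElement]; exact (QuotientGroup.eq_one_iff _).mpr hy)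
    simpa [map_zpow] using (h1.zpow_left i).eq
  have hNmem : ∀ y ∈ N, ⁅c', y⁆ ∈ zG p G := fun y hy => by
    refine (QuotientGroup.eq_one_iff _).mp ?_
    show QuotientGroup.mk' (zG p G) ⁅c', y⁆ = 1
    rw [map_commutatorElement, commutatorElement_eq_one_iff_mul_comm]
    exact mem_centralizer_iff.mp hy _ ⟨c', mem_zpowers c', rfl⟩
  have hcs' : ⁅c', s⁆ ∈ zG p G := by
    have := Normal.conj_mem (zG_normal (G := G) p) _ h c⁻¹
    simpa [mul_assoc] using this
  have hcj : ∀ x ∈ cj a⁻¹ S, ⁅c', x⁆ = 1 := fun x hx => by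
    rw [commutatorElement_eq_one_iff_mul_comm]
    have hc'' : a * c' * a⁻¹ ∈ zS S := by simpa using mem_cj.mp hc'
    have := mem_centralizer_iff.mp hc''.2 (a * x * a⁻¹) (by simpa using mem_cj.mp hx)
    calc c' * x = a⁻¹ * ((a * c' * a⁻¹) * (a * x * a⁻¹)) * a := by group
      _ = a⁻¹ * ((a * x * a⁻¹) * (a * c' * a⁻¹)) * a := by rw [this]
      _ = x * c' := by group
  have hNtop : ∀ y, ⁅c', y⁆ ∈ zG p G := by
    intro y
    refine hNmem y ?_
    refine ((B.data.gen s hs hsR).ge.trans (sup_le (zpowers_le.mpr (memN s hcs')) ?_)) (mem_top y)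
    exact fun x hx => memN x (by rw [hcj x hx]; exact one_mem _)
  let f : G →* ↥(zG p G) :=
    { toFun := fun y => ⟨⁅c', y⁆, hNtop y⟩
      map_one' := Subtype.ext (commutatorElement_one_right _)
      map_mul' := fun x y => Subtype.ext (by
        show ⁅c', x * y⁆ = ⁅c', x⁆ * ⁅c', y⁆
        have hc1 := mem_centralizer_iff.mp (hNtop y).2 x (mem_top x)
        calc ⁅c', x * y⁆ = ⁅c', x⁆ * (x * ⁅c', y⁆ * x⁻¹) := by
              simp only [commutatorElement_def]; group
          _ = _ := by rw [hc1, mul_inv_cancel_right]) }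
  have hker : S ≤ f.ker := fun t ht => by
    have h1 : a⁻¹ * t * a ∈ f.ker := Subtype.ext (hcj _ (mem_cj.mpr (by simpa [mul_assoc] using ht)))
    simpa [mul_assoc] using (inferInstance : f.ker.Normal).conj_mem _ h1 a
  have : ⁅c', s⁆ = 1 := congrArg Subtype.val (show f s = 1 from hker hs)
  rw [this]; group

end PUCore

end CfsgLib.LocalEven50
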