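import Mathlib.FieldTheory.Finite.Basic
import Cfsg.Agent.LocalEven50.PushingUp
import Cfsg.Agent.LocalEven50.SL2Natural

/-!
# `S / O_p(G)` in the basic pushing-up situation

It is elementary abelian and irreducible for `N_G(S)`.
-/

namespace CfsgLib.LocalEven50

open Subgroup Cfsg
open scoped MatrixGroups commutatorElement

variable {G : Type*} [Group G] [Finite G] {p : ℕ} [Fact p.Prime]

/-- A nonzero additive subgroup of a finite field stable under the squares is everything. -/
theorem addSubgroup_eq_top_of_sq {F : Type*} [Field F] [Finite F] (X : AddSubgroup F)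
    (hX : ∀ (a : Fˣ) (t : F), t ∈ X → (a : F) * a * t ∈ X) {t₀ : F} (ht₀ : t₀ ∈ X) (hne : t₀ ≠ 0) :
    X = ⊤ := by
  have hsq : ∀ a t : F, t ∈ X → a * a * t ∈ X := by
    intro a t ht
    rcases eq_or_ne a 0 with rfl | ha
    · simp [X.zero_mem]
    · exact hX (Units.mk0 a ha) t ht
  have hall : ∀ c t : F, t ∈ X → c * t ∈ X := by
    intro c t ht
    by_cases h2 : ringChar F = 2
    · haveI := Fintype.ofFinite F
      obtain ⟨r, rfl⟩ := FiniteField.isSquare_of_char_two h2 c
      exact hsq r t ht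
    · have h2' : (2 : F) ≠ 0 := Ring.two_ne_zero h2
      have e : c * t = (c + 1) / 2 * ((c + 1) / 2) * t - (c - 1) / 2 * ((c - 1) / 2) * t := by
        field_simp
        ring
      rw [e]
      exact X.sub_mem (hsq _ t ht) (hsq _ t ht)
  refine eq_top_iff.mpr fun x _ => ?_
  have h := hall (x / t₀) t₀ ht₀
  rwa [div_mul_cancel₀ x hne] at h

theorem pushUp_torus {S : Subgroup G} (hE : IsPushingUpSituation p S) :
    (∀ x ∈ S, ∀ y ∈ S, ⁅x, y⁆ ∈ pCore p G) ∧
      (∀ X : Subgroup G, pCore p G ≤ X → X ≤ S → normalizer (S : Set G) ≤ normalizer (X : Set G) →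
        X = pCore p G ∨ X = S) ∧ ∀ x ∈ S, x ^ p ∈ pCore p G := by
  classical
  obtain ⟨M, q, g, h⟩ := pushUpData hE
  obtain ⟨-, ⟨P, hP⟩, -, -, K, hK, F, _, _, n, hF, ⟨e⟩⟩ := hE
  set φ := e.toMonoidHom.comp (QuotientGroup.mk' K) with hφdef
  have hφ : Function.Surjective φ := e.surjective.comp (QuotientGroup.mk'_surjective K)
  have hker : ∀ x, φ x = 1 ↔ x ∈ K := by
    intro x
    show e (QuotientGroup.mk' K x) = 1 ↔ _
    rw [e.map_eq_one_iff, QuotientGroup.mk'_apply, QuotientGroup.eq_one_iff]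
  set π : SL(2, F) →* Matrix.ProjectiveSpecialLinearGroup (Fin 2) F :=
    QuotientGroup.mk' (center (Matrix.SpecialLinearGroup (Fin 2) F)) with hπ
  set f := π.comp (upperHom F) with hf
  have hinj : Function.Injective f := by
    rw [injective_iff_map_eq_one]
    intro t ht
    have hc : upperHom F t ∈ center (Matrix.SpecialLinearGroup (Fin 2) F) :=
      (QuotientGroup.eq_one_iff _).mp ht
    have h0 : (!![1, 0; 1, 1] : Matrix (Fin 2) (Fin 2) F) * !![1, t.toAdd; 0, 1] =
        !![1, t.toAdd; 0, 1] * !![1, 0; 1, 1] :=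
      congrArg Subtype.val (mem_center_iff.mp hc (lowerHom F (.ofAdd 1)))
    have h := congrFun (congrFun h0 0) 0
    simp [Matrix.mul_apply, Fin.sum_univ_two] at h
    exact h
  have hcard : Nat.card f.range = Fintype.card F := by
    rw [Nat.card_congr (MonoidHom.ofInjective hinj).toEquiv.symm, ← Nat.card_eq_fintype_card]
    exact Nat.card_congr Multiplicative.toAdd
  have hp : IsPGroup p f.range := IsPGroup.of_card (n := n) (hcard.trans hF)
  obtain ⟨Q, hQ⟩ := hp.exists_le_sylow
  obtain ⟨d, hd⟩ := MulAction.exists_smul_eq (Matrix.ProjectiveSpecialLinearGroup (Fin 2) F) Q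
    (P.mapSurjective hφ)
  have hQU : (f.range).map (MulAut.conj d).toMonoidHom ≤ S.map φ := by
    rw [← hP, ← Sylow.coe_mapSurjective hφ, ← hd, Sylow.coe_subgroup_smul]
    exact map_mono hQ
  -- `K ≤ M`
  have hKM : K ≤ M := by
    by_contra hKM
    have h1 : K ⊔ S = ⊤ := by
      by_contra hne
      exact hKM (le_sup_left.trans (h.unique _ hne le_sup_right))
    have h2 := congrArg (Subgroup.map φ) h1
    rw [Subgroup.map_sup, map_top_of_surjective φ hφ,
      (Subgroup.map_eq_bot_iff (f := φ) (H := K)).mpr (fun x hx => (hker x).mpr hx),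
      bot_sup_eq] at h2
    have hp2 : IsPGroup p (Matrix.ProjectiveSpecialLinearGroup (Fin 2) F) := by
      have h3 := h.isPGroup.map φ
      rw [h2] at h3
      exact h3.of_equiv topEquiv
    obtain ⟨U, c, hUc, -⟩ := psl2_sylow_generation (p := p) F hF
    have hU : (U : Subgroup (Matrix.ProjectiveSpecialLinearGroup (Fin 2) F)) = ⊤ := by
      have h5 : IsPGroup p (⊤ : Subgroup (Matrix.ProjectiveSpecialLinearGroup (Fin 2) F)) :=
        hp2.to_subgroup ⊤
      exact (U.3 h5 le_top).symm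
    have h6 := Linear.card_PSL_two_mul (F := F)
    rw [← card_top, ← hU, hUc] at h6
    have h7 : Nat.gcd 2 (Fintype.card F - 1) = Fintype.card F ^ 2 - 1 :=
      Nat.eq_of_mul_eq_mul_left Fintype.card_pos ((mul_comm _ _).trans h6)
    have h8 : Nat.gcd 2 (Fintype.card F - 1) ≤ 2 := Nat.gcd_le_left _ two_pos
    have h9 : 2 ^ 2 ≤ Fintype.card F ^ 2 := Nat.pow_le_pow_left Fintype.one_lt_card 2
    omega
  have hKS : ∀ x ∈ S, φ x = 1 → x ∈ pCore p G := fun x hx hφx =>
    h.normal_inf K hK hKM ⟨(hker x).mp hφx, hx⟩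
  -- the image of `S` is the conjugated root group
  obtain ⟨U, c, hUc, -⟩ := psl2_sylow_generation (p := p) F hF
  have hSimg : S.map φ = (f.range).map (MulAut.conj d).toMonoidHom := by
    refine (eq_of_le_of_card_ge hQU ?_).symm
    rw [card_map_of_injective (f := (MulAut.conj d).toMonoidHom) (MulAut.conj d).injective, hcard,
      ← hUc, ← hP, ← Sylow.coe_mapSurjective hφ]
    exact (Nat.card_congr ((P.mapSurjective hφ).equiv U).toEquiv).le
  refine ⟨fun x hx y hy => hKS _ ?_ ?_, fun X hRX hXS hXN => ?_, fun x hx => hKS _ (S.pow_mem hx p) ?_⟩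
  · rw [commutatorElement_def]
    exact S.mul_mem (S.mul_mem (S.mul_mem hx hy) (S.inv_mem hx)) (S.inv_mem hy)
  · rw [map_commutatorElement, commutatorElement_eq_one_iff_mul_comm]
    obtain ⟨_, ⟨a, rfl⟩, ea⟩ := hSimg.le (mem_map_of_mem φ hx)
    obtain ⟨_, ⟨b, rfl⟩, eb⟩ := hSimg.le (mem_map_of_mem φ hy)
    rw [← ea, ← eb, ← map_mul, ← map_mul, ← map_mul, ← map_mul, mul_comm a b]
  · -- the additive subgroup of `X`
    let X₀ : AddSubgroup F :=
      { carrier := {t | (MulAut.conj d) (f (.ofAdd t)) ∈ X.map φ}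
        zero_mem' := by simpa using ⟨1, X.one_mem, map_one φ⟩
        add_mem' := fun {a b} ha hb => by
          show (MulAut.conj d) (f (.ofAdd (a + b))) ∈ X.map φ
          rw [ofAdd_add, map_mul, map_mul]
          exact mul_mem ha hb
        neg_mem' := fun {a} ha => by
          show (MulAut.conj d) (f (.ofAdd (-a))) ∈ X.map φ
          rw [ofAdd_neg, map_inv, map_inv]
          exact inv_mem ha }
    have hinv : ∀ (a : Fˣ) (t : F), t ∈ X₀ → (a : F) * a * t ∈ X₀ := by
      intro a t ht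
      set τ := MulAut.conj d (π (diagHom a)) with hτ
      have hτU : ∀ u ∈ S.map φ, τ * u * τ⁻¹ ∈ S.map φ := by
        rw [hSimg]
        rintro _ ⟨_, ⟨b, rfl⟩, rfl⟩
        refine ⟨f (.ofAdd ((a : F) * a * b.toAdd)), ⟨_, rfl⟩, ?_⟩
        show MulAut.conj d (π (upperHom F (.ofAdd ((a : F) * a * b.toAdd)))) =
          MulAut.conj d (π (diagHom a)) * MulAut.conj d (π (upperHom F b)) * _
        rw [hτ, ← map_inv, ← map_mul, ← map_mul, ← map_inv π, ← map_mul π, ← map_mul π,
          show diagHom a * upperHom F b = _ from diag_mul_upper a b.toAdd, mul_inv_cancel_right]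
      obtain ⟨g₀, hg₀⟩ := hφ τ
      -- adjust `g₀` by `SK` to normalise `S`
      set L := S ⊔ K with hL
      have hLimg : ∀ x, x ∈ L ↔ φ x ∈ S.map φ := by
        intro x
        rw [← Subgroup.mem_comap, comap_map_eq]
        have : φ.ker = K := by ext z; exact hker z
        rw [this]
      have hSg : ((g₀ • P : Sylow p G) : Subgroup G) ≤ L := by
        intro z hz
        rw [Sylow.coe_subgroup_smul] at hz
        obtain ⟨s, hs, rfl⟩ := hz
        rw [hLimg]
        show φ (g₀ * s * g₀⁻¹) ∈ _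
        rw [map_mul, map_mul, map_inv, hg₀]
        exact hτU _ (mem_map_of_mem φ (hP ▸ hs))
      obtain ⟨l, hl⟩ := MulAction.exists_smul_eq L ((g₀ • P).subtype hSg)
        (P.subtype (hP ▸ (le_sup_left : S ≤ L)))
      rw [Sylow.smul_subtype] at hl
      have hl' : (l : G) • (g₀ • P) = P := Sylow.subtype_injective hl
      rw [smul_smul, Sylow.smul_eq_iff_mem_normalizer] at hl'
      replace hl' : (l : G) * g₀ ∈ normalizer (S : Set G) := by rw [← hP]; exact hl'
      obtain ⟨s, hs, hse⟩ := (hLimg _).mp l.2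
      obtain ⟨x, hx, hxe⟩ := ht
      have hconj := mem_map_of_mem φ ((mem_normalizer_iff.mp (hXN hl') x).mp hx)
      show (MulAut.conj d) (f (.ofAdd ((a : F) * a * t))) ∈ X.map φ
      convert hconj using 1
      rw [show φ ((l : G) * g₀ * x * ((l : G) * g₀)⁻¹) =
        φ (l : G) * τ * (MulAut.conj d) (f (.ofAdd t)) * (τ⁻¹ * (φ (l : G))⁻¹) by
          rw [map_mul φ ((l : G) * g₀ * x), map_mul φ ((l : G) * g₀), map_inv φ, map_mul φ (l : G),
            hg₀, hxe, mul_inv_rev]]
      have e1 : τ * (MulAut.conj d) (f (.ofAdd t)) * τ⁻¹ =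
          (MulAut.conj d) (f (.ofAdd ((a : F) * a * t))) := by
        rw [hτ, ← map_inv, ← map_mul, ← map_mul]
        show MulAut.conj d (π (diagHom a) * π (upperHom F (.ofAdd t)) * _) = _
        rw [← map_inv π, ← map_mul π, ← map_mul π, diag_mul_upper, mul_inv_cancel_right]
        rfl
      obtain ⟨_, ⟨b, rfl⟩, hb⟩ := hSimg.le (mem_map_of_mem φ hs)
      have e2 : ∀ w : F, φ (l : G) * (MulAut.conj d) (f (.ofAdd w)) * (φ (l : G))⁻¹ =
          (MulAut.conj d) (f (.ofAdd w)) := by
        intro w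
        rw [← hse, ← hb]
        show (MulAut.conj d) (f b) * _ * ((MulAut.conj d) (f b))⁻¹ = _
        rw [← map_inv, ← map_mul, ← map_mul, ← map_inv f, ← map_mul f, ← map_mul f,
          mul_comm b, mul_inv_cancel_right]
      rw [mul_assoc (φ (l : G)) τ, mul_assoc (φ (l : G)), ← mul_assoc (τ * _), e1,
        ← mul_assoc, e2]
    by_cases h0 : ∀ t ∈ X₀, t = 0
    · refine Or.inl (le_antisymm (fun x hx => ?_) hRX)
      obtain ⟨_, ⟨b, rfl⟩, hb⟩ := hSimg.le (mem_map_of_mem φ (hXS hx))
      have hb0 : b.toAdd = 0 := h0 _ ⟨x, hx, hb.symm⟩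
      refine hKS x (hXS hx) ?_
      rw [← hb, show b = 1 from Multiplicative.toAdd.injective hb0, map_one, map_one]
    · push Not at h0
      obtain ⟨t₀, ht₀, hne⟩ := h0
      have htop := addSubgroup_eq_top_of_sq X₀ hinv ht₀ hne
      refine Or.inr (le_antisymm hXS fun s hs => ?_)
      obtain ⟨_, ⟨b, rfl⟩, hb⟩ := hSimg.le (mem_map_of_mem φ hs)
      obtain ⟨x, hx, hxe⟩ := (htop.ge (AddSubgroup.mem_top b.toAdd) : b.toAdd ∈ X₀)
      have hr : x⁻¹ * s ∈ pCore p G := hKS _ (S.mul_mem (S.inv_mem (hXS hx)) hs)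
        (by rw [map_mul, map_inv, ← hb, hxe]; exact inv_mul_cancel _)
      have := X.mul_mem hx (hRX hr)
      rwa [mul_inv_cancel_left] at this
  · obtain ⟨_, ⟨b, rfl⟩, hb⟩ := hSimg.le (mem_map_of_mem φ hx)
    have hn0 : n ≠ 0 := by
      rintro rfl
      have := Fintype.one_lt_card (α := F)
      rw [hF, pow_zero] at this
      exact lt_irrefl 1 this
    have hchar : (p : F) = 0 := by
      have h1 : ((Fintype.card F : ℕ) : F) = 0 := Nat.cast_card_eq_zero F
      rw [hF, Nat.cast_pow] at h1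
      exact (pow_eq_zero_iff hn0).mp h1
    have hbp : b ^ p = 1 := by
      apply Multiplicative.toAdd.injective
      simp [toAdd_pow, hchar]
    rw [map_pow, ← hb, ← map_pow, ← map_pow, hbp, map_one, map_one]

end CfsgLib.LocalEven50
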