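import Mathlib.GroupTheory.Nilpotent
import Cfsg.Agent.LocalEven50.PushingUpTorus
import Cfsg.Agent.PLocal.Replacement
import Cfsg.Agent.Coprime.Action

/-!
# `Z(O_p(G))` when `S` contains an offender on it

`S` is quadratic, `Z(O_p(G)) = Z(S) Z(S^g)` and `|Z(S) : C_{Z(S)}(G)| = q`.
-/

namespace CfsgLib.LocalEven50

open Subgroup Cfsg
open scoped commutatorElement

variable {G : Type*} [Group G] [Finite G] {p : ℕ} [Fact p.Prime]

omit [Finite G] in
/-- `⁅V, Y⁆` is contained in an invariant subgroup containing the commutators of a generating set. -/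
theorem commutator_le_of_sup {V V₁ V₂ Y N : Subgroup G} (hV : V ≤ V₁ ⊔ V₂)
    (hV₁ : V₁ ≤ normalizer (N : Set G)) (hV₂ : V₂ ≤ normalizer (N : Set G))
    (h₁ : ⁅V₁, Y⁆ ≤ N) (h₂ : ⁅V₂, Y⁆ ≤ N) : ⁅V, Y⁆ ≤ N := by
  rw [commutator_le]
  intro v hv y hy
  have key : ∀ w ∈ V₁ ⊔ V₂, w ∈ normalizer (N : Set G) ∧ ⁅w, y⁆ ∈ N := by
    intro w hw
    rw [sup_eq_closure] at hw
    induction hw using closure_induction with
    | mem z hz =>
      rcases hz with hz | hz
      · exact ⟨hV₁ hz, h₁ (commutator_mem_commutator hz hy)⟩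
      · exact ⟨hV₂ hz, h₂ (commutator_mem_commutator hz hy)⟩
    | one => exact ⟨one_mem _, by simp [N.one_mem]⟩
    | mul a b _ _ ha hb =>
      refine ⟨mul_mem ha.1 hb.1, ?_⟩
      have e : ⁅a * b, y⁆ = a * ⁅b, y⁆ * a⁻¹ * ⁅a, y⁆ := by
        simp only [commutatorElement_def]; group
      rw [e]
      exact N.mul_mem ((mem_normalizer_iff.mp ha.1 _).mp hb.2) ha.2
    | inv a _ ha =>
      refine ⟨inv_mem ha.1, ?_⟩
      have e : ⁅a⁻¹, y⁆ = a⁻¹ * ⁅a, y⁆⁻¹ * a⁻¹⁻¹ := by
        simp only [commutatorElement_def]; group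
      rw [e]
      exact (mem_normalizer_iff.mp (inv_mem ha.1) _).mp (N.inv_mem ha.2)
  exact (key v (hV hv)).2

omit [Finite G] in
theorem eq_bot_of_le_commutator {S X Y : Subgroup G} (hS : Group.IsNilpotent ↥S) (hX : X ≤ S)
    (hY : Y ≤ S) (h : X ≤ ⁅X, Y⁆) : X = ⊥ := by
  obtain ⟨n, hn⟩ := Subgroup.nilpotent_iff_lowerCentralSeries.mp hS
  have key : ∀ i, X ≤ ((⊤ : Subgroup ↥S).lowerCentralSeries i).map S.subtype := by
    intro i
    induction i with
    | zero =>
      rw [Subgroup.lowerCentralSeries_zero, ← MonoidHom.range_eq_map, range_subtype]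
      exact hX
    | succ i ih =>
      refine h.trans ?_
      rw [commutator_le]
      intro x hx y hy
      obtain ⟨x', hx', rfl⟩ := ih hx
      refine ⟨⁅x', (⟨y, hY hy⟩ : ↥S)⁆, ?_, map_commutatorElement S.subtype _ _⟩
      exact commutator_mem_commutator hx' (mem_top _)
  have h1 := key n
  rw [hn, Subgroup.map_bot] at h1
  exact le_bot_iff.mp h1

variable {S M : Subgroup G} {q : ℕ} {g : G}

/-- The hypothesis: `S` contains an offender on `V ≤ O_p(G)` outside `O_p(G)`. -/
def HasOffender (p : ℕ) (S V : Subgroup G) : Prop :=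
  ∃ X : Subgroup G, pCore p G < X ∧ X ≤ S ∧
    PLocal.offenderWeight V (pCore p G) ≤ PLocal.offenderWeight V X

/-- With an offender on `V` outside `O_p(G)`, `S` is quadratic on `V`, no subgroup has larger weight
than `O_p(G)`, and `|V : C_V(S)| = q`. -/
theorem quadratic_of_offender (hE : IsPushingUpSituation p S) (h : PushUpData p S M q g)
    (V : Subgroup G) [V.Normal] (hVS : V ≤ S) (hVab : IsMulCommutative ↥V)
    (hRV : pCore p G ≤ centralizer (V : Set G))
    (hnc : ¬ V ⊓ centralizer (S : Set G) ≤ centralizer ((⊤ : Subgroup G) : Set G))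
    (hoff : HasOffender p S V) :
    ⁅V, S⁆ ≤ centralizer (S : Set G) ∧ (V ⊓ centralizer (S : Set G)).relIndex V = q ∧
      ∀ X : Subgroup G, pCore p G ≤ X → X ≤ S →
        PLocal.offenderWeight V X ≤ PLocal.offenderWeight V (pCore p G) := by
  classical
  haveI := pCore_normal p G
  obtain ⟨htorus, hirr, -⟩ := pushUp_torus hE
  set R := pCore p G
  set w := fun X : Subgroup G => PLocal.offenderWeight V X
  have hVC : V ≤ centralizer (V : Set G) := le_centralizer_iff_isMulCommutative.mpr hVab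
  have hRn : ∀ X : Subgroup G, X ≤ normalizer (R : Set G) := fun X => by
    rw [normalizer_eq_top]; exact le_top
  have hCR : V ⊓ centralizer (R : Set G) = V := inf_eq_left.mpr (le_centralizer_iff.mp hRV)
  have hwR : w R = Nat.card R * Nat.card V := by
    show Nat.card R * _ = _; rw [hCR]
  have hab : ∀ X : Subgroup G, X ≤ S → ⁅X, X⁆ ≤ R := fun X hX =>
    commutator_le.mpr fun a ha b hb => htorus a (hX ha) b (hX hb)
  have hnS : ∀ X : Subgroup G, R ≤ X → X ≤ S → S ≤ normalizer (X : Set G) := by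
    intro X hRX hXS
    rw [le_normalizer_iff_commutator_le_left]
    exact ((commutator_mono hXS le_rfl).trans (hab S le_rfl)).trans hRX
  have hw2 : ∀ X Y : Subgroup G, w X * w Y ≤ w (X ⊔ Y) * w (X ⊓ Y) := by
    intro X Y
    have h1 := LocalEvenBasic.card_mul_le_inf_mul_sup X Y
    have h2 := LocalEvenBasic.card_mul_le_inf_mul_sup (V ⊓ centralizer (X : Set G))
      (V ⊓ centralizer (Y : Set G))
    have h3 : (V ⊓ centralizer (X : Set G)) ⊓ (V ⊓ centralizer (Y : Set G)) =
        V ⊓ centralizer ((X ⊔ Y : Subgroup G) : Set G) := by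
      rw [PLocal.centralizer_sup]; exact (inf_inf_distrib_left _ _ _).symm
    have h4 : (V ⊓ centralizer (X : Set G)) ⊔ (V ⊓ centralizer (Y : Set G)) ≤
        V ⊓ centralizer ((X ⊓ Y : Subgroup G) : Set G) :=
      sup_le (inf_le_inf_left _ (centralizer_le (inf_le_left (a := X) (b := Y))))
        (inf_le_inf_left _ (centralizer_le (inf_le_right (a := X) (b := Y))))
    rw [h3] at h2
    calc w X * w Y = (Nat.card X * Nat.card Y) *
        (Nat.card ↥(V ⊓ centralizer (X : Set G)) * Nat.card ↥(V ⊓ centralizer (Y : Set G))) := by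
          simp only [w, PLocal.offenderWeight]; ring
      _ ≤ (Nat.card ↥(X ⊓ Y) * Nat.card ↥(X ⊔ Y)) *
          (Nat.card ↥(V ⊓ centralizer ((X ⊔ Y : Subgroup G) : Set G)) *
            Nat.card ↥(V ⊓ centralizer ((X ⊓ Y : Subgroup G) : Set G))) :=
          Nat.mul_le_mul h1 (h2.trans (Nat.mul_le_mul_left _ (card_le_of_le h4)))
      _ = w (X ⊔ Y) * w (X ⊓ Y) := by simp only [w, PLocal.offenderWeight]; ring
  have hwpos : ∀ X, 0 < w X := fun X => PLocal.offenderWeight_pos V X
  -- the largest weight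
  haveI : Nonempty {X : Subgroup G // R ≤ X ∧ X ≤ S} := ⟨⟨R, le_rfl, h.core_le⟩⟩
  obtain ⟨⟨X₀, hX₀R, hX₀S⟩, hmax₀⟩ :=
    Finite.exists_max (α := {X : Subgroup G // R ≤ X ∧ X ≤ S}) (fun X => w X.1)
  set m := w X₀ with hm
  have hmax : ∀ X, R ≤ X → X ≤ S → w X ≤ m := fun X h1 h2 => hmax₀ ⟨X, h1, h2⟩
  have hjoin : ∀ X Y, R ≤ X → X ≤ S → R ≤ Y → Y ≤ S → w X = m → w Y = m →
      w (X ⊔ Y) = m ∧ w (X ⊓ Y) = m := by
    intro X Y hX hX' hY hY' eX eY
    have h1 := hw2 X Y
    have h2 := hmax _ (hX.trans le_sup_left) (sup_le hX' hY')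
    have h3 := hmax _ (le_inf hX hY) (inf_le_left.trans hX')
    rw [eX, eY] at h1
    have hm0 : 0 < m := hwpos X₀
    constructor <;> nlinarith
  haveI : Nonempty {X : Subgroup G // R ≤ X ∧ X ≤ S ∧ w X = m} := ⟨⟨X₀, hX₀R, hX₀S, rfl⟩⟩
  obtain ⟨⟨Xs, hXsR, hXsS, hXsw⟩, hXsmax⟩ :=
    Finite.exists_max (α := {X : Subgroup G // R ≤ X ∧ X ≤ S ∧ w X = m}) (fun X => Nat.card X.1)
  have hXstop : ∀ Y, R ≤ Y → Y ≤ S → w Y = m → Y ≤ Xs := by
    intro Y hY hY' eY
    have hle := hXsmax ⟨Xs ⊔ Y, hXsR.trans le_sup_left, sup_le hXsS hY',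
      (hjoin Xs Y hXsR hXsS hY hY' hXsw eY).1⟩
    exact (eq_of_le_of_card_ge (le_sup_left : Xs ≤ Xs ⊔ Y) hle).symm ▸ le_sup_right
  have hconj : ∀ k : G, k ∈ normalizer (S : Set G) → ∀ X, R ≤ X → X ≤ S →
      R ≤ X.map (MulAut.conj k).toMonoidHom ∧ X.map (MulAut.conj k).toMonoidHom ≤ S ∧
        w (X.map (MulAut.conj k).toMonoidHom) = w X := by
    intro k hk X hX hX'
    have hinj : Function.Injective (MulAut.conj k).toMonoidHom := (MulAut.conj k).injective
    refine ⟨?_, ?_, ?_⟩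
    · intro r hr
      exact ⟨k⁻¹ * r * k, hX (by simpa using Normal.conj_mem ‹R.Normal› r hr k⁻¹),
        by simp [mul_assoc]⟩
    · rintro _ ⟨x, hx, rfl⟩
      exact (mem_normalizer_iff.mp hk x).mp (hX' hx)
    · have hVk : V.map (MulAut.conj k).toMonoidHom = V :=
        mem_normalizer_iff_map_conj_eq.mp ((normalizer_eq_top (H := V)).ge (mem_top k))
      show Nat.card _ * _ = Nat.card _ * _
      conv_lhs => rw [← hVk]
      rw [← map_centralizer_mulEquiv (MulAut.conj k) X, ← Subgroup.map_inf _ _ _ hinj,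
        card_map_of_injective hinj, card_map_of_injective hinj]
  have hXsn : normalizer (S : Set G) ≤ normalizer (Xs : Set G) := by
    intro k hk
    obtain ⟨h1, h2, h3⟩ := hconj k hk Xs hXsR hXsS
    exact mem_normalizer_iff_map_conj_eq.mpr (eq_of_le_of_card_ge
      (hXstop _ h1 h2 (h3.trans hXsw)) (card_map_of_injective (MulAut.conj k).injective).ge)
  have hqR := LocalEvenBasic.card_mul_relIndex_of_le R S h.core_le
  rw [h.index_core] at hqR
  have hcV := LocalEvenBasic.card_mul_relIndex_of_le (V ⊓ centralizer (S : Set G)) V inf_le_left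
  have hwS : w S * (V ⊓ centralizer (S : Set G)).relIndex V = Nat.card R * q * Nat.card V := by
    show Nat.card S * _ * _ = _
    rw [mul_assoc, hcV, hqR]
  have hqle : q ≤ (V ⊓ centralizer (S : Set G)).relIndex V :=
    h.le_relIndex V (h.isPGroup.to_le hVS) hnc
  obtain ⟨X₁, hX₁lt, hX₁S, hX₁w⟩ := hoff
  have hXsS' : Xs = S := by
    refine (hirr Xs hXsR hXsS hXsn).resolve_left fun he => ?_
    subst he
    have h1 : w X₁ = m := le_antisymm (hmax _ hX₁lt.le hX₁S) (hXsw ▸ hX₁w)
    exact hX₁lt.not_ge (hXstop _ hX₁lt.le hX₁S h1)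
  have hidx : (V ⊓ centralizer (S : Set G)).relIndex V = q := by
    refine le_antisymm ?_ hqle
    have h1 : Nat.card R * Nat.card V ≤ w S := by
      rw [← hwR, ← hXsS', hXsw]; exact hmax R le_rfl h.core_le
    refine Nat.le_of_mul_le_mul_left ?_ (Nat.mul_pos (Nat.card_pos (α := R)) (Nat.card_pos (α := V)))
    exact ((Nat.mul_le_mul_right _ h1).trans_eq hwS).trans_eq (mul_right_comm _ _ _)
  have hmR : w R = m := by
    rw [← hXsw, hXsS', hwR]
    rw [hidx] at hwS
    exact (Nat.eq_of_mul_eq_mul_right (zero_lt_one.trans h.one_lt)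
      (hwS.trans (mul_right_comm _ _ _))).symm
  -- the atoms
  haveI : Nonempty {X : Subgroup G // R < X ∧ X ≤ S ∧ w X = m} :=
    ⟨⟨X₁, hX₁lt, hX₁S, le_antisymm (hmax _ hX₁lt.le hX₁S) (hmR ▸ hX₁w)⟩⟩
  obtain ⟨⟨Y, hYR, hYS, hYw⟩, hYmin⟩ :=
    Finite.exists_min (α := {X : Subgroup G // R < X ∧ X ≤ S ∧ w X = m}) (fun X => Nat.card X.1)
  have hmaxY : ∀ B, B ≤ Y → w B ≤ w Y := by
    intro B hB
    have h1 := hw2 B R
    have h2 := hmax (B ⊔ R) le_sup_right (sup_le (hB.trans hYS) h.core_le)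
    have h3 : w (B ⊓ R) ≤ w R := by
      show Nat.card _ * _ ≤ Nat.card _ * _
      rw [hCR]
      exact Nat.mul_le_mul (card_le_of_le inf_le_right) (card_le_of_le inf_le_left)
    rw [hYw, ← hmR] at *
    exact Nat.le_of_mul_le_mul_right (h1.trans (Nat.mul_le_mul h2 h3)) (hwpos R)
  have hYn : Y ≤ normalizer (V : Set G) := by rw [normalizer_eq_top]; exact le_top
  obtain ⟨hrep, hrepC⟩ := PLocal.replacement hVab hYn ((hab Y hYS).trans hRV) hmaxY (le_refl V)
  set Y' := Y ⊓ centralizer ((⁅V, Y⁆ : Subgroup G) : Set G)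
  have hVY : ⁅V, Y⁆ ≤ V := Coprime.commutator_le_of_le_normalizer hYn
  have hRY' : R ≤ Y' := le_inf hYR.le (hRV.trans (centralizer_le hVY))
  have hY'Y : Y' = Y := by
    by_contra hne
    have hY'R : Y' = R := by
      by_contra hne'
      refine hne (eq_of_le_of_card_ge inf_le_left ?_)
      exact hYmin ⟨Y', lt_of_le_of_ne hRY' (Ne.symm hne'), inf_le_left.trans hYS,
        (show w Y' = w Y from hrep).trans hYw⟩
    rw [hY'R, hCR] at hrepC
    have hYc : ⁅V ⊓ centralizer (Y : Set G), Y⁆ = ⊥ :=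
      commutator_eq_bot_iff_le_centralizer.mpr inf_le_right
    have hab' : ∀ A : Subgroup G, A ≤ V → ∀ B : Subgroup G, B ≤ V → A ≤ normalizer (B : Set G) :=
      fun A hA B hB => ((hA.trans hVC).trans (centralizer_le hB)).trans (centralizer_le_normalizer _)
    have hle : ⁅V, Y⁆ ≤ ⁅⁅V, Y⁆, Y⁆ := by
      have hVV : ⁅⁅V, Y⁆, Y⁆ ≤ V :=
        (commutator_mono hVY le_rfl).trans hVY
      exact commutator_le_of_sup hrepC.le (hab' _ hVY _ hVV) (hab' _ inf_le_left _ hVV) le_rfl
        (hYc.le.trans bot_le)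
    have hbot : V ≤ centralizer (Y : Set G) := commutator_eq_bot_iff_le_centralizer.mp
      (eq_bot_of_le_commutator h.isPGroup.isNilpotent (hVY.trans hVS) hYS hle)
    have : w R < w Y := by
      show Nat.card R * _ < Nat.card Y * _
      rw [hCR, inf_eq_left.mpr hbot]
      refine Nat.mul_lt_mul_of_pos_right ?_ Nat.card_pos
      exact lt_of_le_of_ne (card_le_of_le hYR.le) fun e => hYR.ne (eq_of_le_of_card_ge hYR.le e.ge)
    rw [hmR, hYw] at this
    exact lt_irrefl _ this
  have hquadY : ⁅V, Y⁆ ≤ centralizer (Y : Set G) := le_centralizer_iff.mp (hY'Y.ge.trans inf_le_right)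
  -- the conjugates of the atom
  set 𝒴 := {Z : Subgroup G | ∃ k ∈ normalizer (S : Set G), Z = Y.map (MulAut.conj k).toMonoidHom}
  have h𝒴 : ∀ Z ∈ 𝒴, R ≤ Z ∧ Z ≤ S ∧ w Z = m ∧ Nat.card Z = Nat.card Y ∧
      ⁅V, Z⁆ ≤ centralizer (Z : Set G) := by
    rintro Z ⟨k, hk, rfl⟩
    obtain ⟨h1, h2, h3⟩ := hconj k hk Y hYR.le hYS
    refine ⟨h1, h2, h3.trans hYw, card_map_of_injective (MulAut.conj k).injective, ?_⟩
    have hVk : V.map (MulAut.conj k).toMonoidHom = V :=
      mem_normalizer_iff_map_conj_eq.mp ((normalizer_eq_top (H := V)).ge (mem_top k))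
    rw [← hVk, ← map_commutator, ← map_centralizer_mulEquiv (MulAut.conj k)]
    exact map_mono hquadY
  have hsup : sSup 𝒴 = S := by
    refine (hirr _ ?_ (sSup_le fun Z hZ => (h𝒴 Z hZ).2.1) ?_).resolve_left fun he => ?_
    · refine hYR.le.trans (le_sSup ⟨1, one_mem _, ?_⟩)
      rw [map_one, show ((1 : MulAut G)).toMonoidHom = MonoidHom.id G from rfl, Subgroup.map_id]
    · intro k hk
      refine mem_normalizer_iff_map_conj_eq.mpr (eq_of_le_of_card_ge ?_
        (card_map_of_injective (MulAut.conj k).injective).ge)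
      rw [(gc_map_comap _).l_sSup]
      refine iSup₂_le fun Z hZ => ?_
      obtain ⟨k', hk', rfl⟩ := hZ
      refine le_sSup ⟨k * k', mul_mem hk hk', ?_⟩
      rw [map_map]
      congr 1
      ext x
      simp [mul_assoc]
    · refine hYR.ne (le_antisymm hYR.le ?_)
      rw [← he]
      refine le_sSup ⟨1, one_mem _, ?_⟩
      rw [map_one, show ((1 : MulAut G)).toMonoidHom = MonoidHom.id G from rfl, Subgroup.map_id]
  refine ⟨?_, hidx, fun X hX hX' => (hmax X hX hX').trans hmR.ge⟩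
  -- each `⁅V, Z⁆` is centralised by `S`
  have hZS : ∀ Z ∈ 𝒴, ⁅V, Z⁆ ≤ centralizer (S : Set G) := by
    intro Z hZ
    obtain ⟨hRZ, hZS, hZw, hZc, hZq⟩ := h𝒴 Z hZ
    rw [le_centralizer_iff, ← hsup]
    refine sSup_le fun Z' hZ' => le_centralizer_iff.mp ?_
    obtain ⟨hRZ', hZ'S, hZ'w, hZ'c, -⟩ := h𝒴 Z' hZ'
    by_cases hee : Z = Z'
    · exact hee ▸ hZq
    have hinf : Z ⊓ Z' = R := by
      by_contra hne
      have := hYmin ⟨Z ⊓ Z', lt_of_le_of_ne (le_inf hRZ hRZ') (Ne.symm hne),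
        inf_le_left.trans hZS, (hjoin Z Z' hRZ hZS hRZ' hZ'S hZw hZ'w).2⟩
      apply hee
      have h1 : Z ⊓ Z' = Z := eq_of_le_of_card_ge inf_le_left (hZc ▸ this)
      exact eq_of_le_of_card_ge (h1 ▸ inf_le_right) (hZ'c.trans hZc.symm).le
    set C₁ := V ⊓ centralizer (Z : Set G)
    set C₂ := V ⊓ centralizer (Z' : Set G)
    have hC : V ≤ C₁ ⊔ C₂ := by
      refine (eq_of_le_of_card_ge (sup_le inf_le_left inf_le_left) ?_).ge
      have hj := (hjoin Z Z' hRZ hZS hRZ' hZ'S hZw hZ'w).1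
      have h1 := LocalEvenBasic.card_mul_le_inf_mul_sup Z Z'
      have h2 := LocalEvenBasic.card_mul_le_inf_mul_sup C₁ C₂
      have h3 : C₁ ⊓ C₂ = V ⊓ centralizer ((Z ⊔ Z' : Subgroup G) : Set G) := by
        rw [PLocal.centralizer_sup]; exact (inf_inf_distrib_left _ _ _).symm
      rw [hinf] at h1
      rw [h3] at h2
      have h4 : w Z * w Z' ≤ w (Z ⊔ Z') * (Nat.card R * Nat.card ↥(C₁ ⊔ C₂)) := by
        calc w Z * w Z' = (Nat.card Z * Nat.card Z') * (Nat.card C₁ * Nat.card C₂) := by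
              simp only [w, PLocal.offenderWeight, C₁, C₂]; ring
          _ ≤ _ := Nat.mul_le_mul h1 h2
          _ = _ := by simp only [w, PLocal.offenderWeight]; ring
      rw [hZw, hZ'w, hj] at h4
      have h5 : Nat.card R * Nat.card V ≤ Nat.card R * Nat.card ↥(C₁ ⊔ C₂) := by
        rw [← hwR, hmR]
        exact Nat.le_of_mul_le_mul_left h4 (hwpos X₀)
      exact Nat.le_of_mul_le_mul_left h5 Nat.card_pos
    have hZn : Z ≤ normalizer (C₂ : Set G) := by
      have h1 : Z ≤ normalizer (Z' : Set G) := hZS.trans (hnS Z' hRZ' hZ'S)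
      exact fun z hz => mem_normalizer_iff_map_conj_eq.mpr (by
        rw [Subgroup.map_inf _ _ _ (MulAut.conj z).injective,
          mem_normalizer_iff_map_conj_eq.mp ((normalizer_eq_top (H := V)).ge (mem_top z))]
        exact congrArg (V ⊓ ·) ((map_centralizer_mulEquiv (MulAut.conj z) Z').trans
          (congrArg (fun K : Subgroup G => centralizer (K : Set G))
            (mem_normalizer_iff_map_conj_eq.mp (h1 hz)))))
    have habV : ∀ A : Subgroup G, A ≤ V → ∀ B : Subgroup G, B ≤ V → A ≤ normalizer (B : Set G) :=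
      fun A hA B hB => ((hA.trans hVC).trans (centralizer_le hB)).trans (centralizer_le_normalizer _)
    refine (commutator_le_of_sup hC (habV _ inf_le_left _ inf_le_left)
      (habV _ inf_le_left _ inf_le_left) ?_ (Coprime.commutator_le_of_le_normalizer hZn)).trans
      inf_le_right
    exact (commutator_eq_bot_iff_le_centralizer.mpr inf_le_right).le.trans bot_le
  rw [commutator_le]
  intro v hv s hs
  let H : Subgroup G :=
    { carrier := {s | s ∈ normalizer ((V ⊓ centralizer (S : Set G) : Subgroup G) : Set G) ∧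
        ∀ v ∈ V, ⁅v, s⁆ ∈ V ⊓ centralizer (S : Set G)}
      one_mem' := ⟨one_mem _, fun v _ => by simp [one_mem]⟩
      mul_mem' := fun {a b} ha hb => ⟨mul_mem ha.1 hb.1, fun v hv => by
        have e : ⁅v, a * b⁆ = ⁅v, a⁆ * (a * ⁅v, b⁆ * a⁻¹) := by
          simp only [commutatorElement_def]; group
        rw [e]
        exact mul_mem (ha.2 v hv) ((mem_normalizer_iff.mp ha.1 _).mp (hb.2 v hv))⟩
      inv_mem' := fun {a} ha => ⟨inv_mem ha.1, fun v hv => by
        have e : ⁅v, a⁻¹⁆ = a⁻¹ * ⁅v, a⁆⁻¹ * a⁻¹⁻¹ := by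
          simp only [commutatorElement_def]; group
        rw [e]
        exact (mem_normalizer_iff.mp (inv_mem ha.1) _).mp (inv_mem (ha.2 v hv))⟩ }
  suffices hSH : S ≤ H from ((hSH hs).2 v hv).2
  conv_lhs => rw [← hsup]
  refine sSup_le fun Z hZ z hz => ⟨?_, fun u hu => ?_⟩
  · have hzS : z ∈ S := (h𝒴 Z hZ).2.1 hz
    refine mem_normalizer_iff.mpr fun u => ?_
    constructor
    · intro hu
      rw [mem_centralizer_iff.mp hu.2 z hzS, mul_inv_cancel_right]
      exact hu
    · intro hu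
      have h5 := mem_centralizer_iff.mp hu.2 z hzS
      have : u = z * u * z⁻¹ := by
        rw [inv_mul_cancel_right] at h5
        exact (mul_left_cancel h5).symm
      rw [this]; exact hu
  · have hm' := commutator_mem_commutator hu hz
    exact ⟨Coprime.commutator_le_of_le_normalizer (((normalizer_eq_top (H := V)).ge).trans' le_top)
      hm', hZS Z hZ hm'⟩

/-- The shape of `V`: `V = C C^g` with `C = C_V(S)`, `|C : C_V(G)| = q`, and `C_V(s) = C` for
`s ∈ S` outside `O_p(G)`. -/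
theorem structure_of_offender (hE : IsPushingUpSituation p S) (h : PushUpData p S M q g)
    (V : Subgroup G) [V.Normal] (hVS : V ≤ S) (hVab : IsMulCommutative ↥V)
    (hRV : pCore p G ≤ centralizer (V : Set G))
    (hnc : ¬ V ⊓ centralizer (S : Set G) ≤ centralizer ((⊤ : Subgroup G) : Set G))
    (hoff : HasOffender p S V) :
    (V ⊓ centralizer (S : Set G)) ⊔
        (V ⊓ centralizer (S : Set G)).map (MulAut.conj g).toMonoidHom = V ∧
      (V ⊓ centralizer (S : Set G)) ⊓
        (V ⊓ centralizer (S : Set G)).map (MulAut.conj g).toMonoidHom =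
          V ⊓ centralizer ((⊤ : Subgroup G) : Set G) ∧
      Nat.card ↥(V ⊓ centralizer (S : Set G)) =
        q * Nat.card ↥(V ⊓ centralizer ((⊤ : Subgroup G) : Set G)) ∧
      ∀ s ∈ S, s ∉ pCore p G → V ⊓ centralizer ({s} : Set G) = V ⊓ centralizer (S : Set G) := by
  obtain ⟨hquad, hidx, -⟩ := quadratic_of_offender hE h V hVS hVab hRV hnc hoff
  haveI := pCore_normal p G
  set C := V ⊓ centralizer (S : Set G) with hCdef
  set Cg := C.map (MulAut.conj g).toMonoidHom with hCg
  set Sg := S.map (MulAut.conj g).toMonoidHom with hSg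
  have hVC : V ≤ centralizer (V : Set G) := le_centralizer_iff_isMulCommutative.mpr hVab
  have hinj : Function.Injective (MulAut.conj g).toMonoidHom := (MulAut.conj g).injective
  have hVg : V.map (MulAut.conj g).toMonoidHom = V :=
    mem_normalizer_iff_map_conj_eq.mp ((normalizer_eq_top (H := V)).ge (mem_top g))
  have hCgeq : Cg = V ⊓ centralizer (Sg : Set G) := by
    rw [hCg, hCdef, Subgroup.map_inf _ _ _ hinj, hVg, hSg,
      map_centralizer_mulEquiv (MulAut.conj g)]
  have hgtop : ∀ s ∈ S, s ∉ pCore p G → zpowers s ⊔ Sg = ⊤ := h.gen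
  have hfixall : ∀ s ∈ S, s ∉ pCore p G → ∀ v ∈ Cg, v ∈ centralizer ({s} : Set G) →
      v ∈ V ⊓ centralizer ((⊤ : Subgroup G) : Set G) := by
    intro s hs hsR v hv hvs
    rw [hCgeq] at hv
    refine ⟨hv.1, ?_⟩
    have h1 : zpowers s ≤ centralizer ((zpowers v : Subgroup G) : Set G) :=
      zpowers_le.mpr (le_centralizer_iff.mp (zpowers_le.mpr (show v ∈ centralizer
        ((zpowers s : Subgroup G) : Set G) by
          refine mem_centralizer_iff.mpr fun y hy => ?_
          obtain ⟨i, rfl⟩ := mem_zpowers_iff.mp hy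
          exact ((mem_centralizer_singleton_iff.mp hvs).symm |> fun e : s * v = v * s =>
            (show Commute s v from e).zpow_left i))) (mem_zpowers s))
    have h2 : Sg ≤ centralizer ((zpowers v : Subgroup G) : Set G) :=
      le_centralizer_iff.mp (zpowers_le.mpr hv.2)
    exact le_centralizer_iff.mp ((hgtop s hs hsR).ge.trans (sup_le h1 h2)) (mem_zpowers v)
  obtain ⟨s₀, hs₀, hs₀R⟩ : ∃ x ∈ S, x ∉ pCore p G := by
    by_contra hne
    push Not at hne
    have := h.index_core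
    rw [relIndex_eq_one.mpr hne] at this
    exact absurd this h.one_lt.ne
  have hinf : C ⊓ Cg = V ⊓ centralizer ((⊤ : Subgroup G) : Set G) := by
    refine le_antisymm (fun v hv => hfixall s₀ hs₀ hs₀R v hv.2
      (mem_centralizer_singleton_iff.mpr (mem_centralizer_iff.mp hv.1.2 s₀ hs₀).symm)) ?_
    rw [hCgeq]
    exact le_inf (inf_le_inf_left _ (centralizer_le (Set.subset_univ _ |>.trans_eq coe_top.symm)))
      (inf_le_inf_left _ (centralizer_le (Set.subset_univ _ |>.trans_eq coe_top.symm)))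
  set N := C ⊔ Cg with hN
  have hNV : N ≤ V := sup_le inf_le_left (hCgeq.le.trans inf_le_left)
  have hnorm : ∀ (T : Subgroup G), ⁅V, T⁆ ≤ N → T ≤ normalizer (N : Set G) := by
    intro T hT t ht
    refine mem_normalizer_iff_map_conj_eq.mpr (eq_of_le_of_card_ge ?_
      (card_map_of_injective (MulAut.conj t).injective).ge)
    rintro _ ⟨y, hy, rfl⟩
    have hm := N.mul_mem (N.inv_mem (hT (commutator_mem_commutator (hNV hy) ht))) hy
    rw [commutatorElement_inv, commutatorElement_def] at hm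
    simpa [mul_assoc] using hm
  have hVS' : ⁅V, S⁆ ≤ N :=
    (le_inf (Coprime.commutator_le_of_le_normalizer
      (((normalizer_eq_top (H := V)).ge).trans' le_top)) hquad).trans le_sup_left
  have hVSg : ⁅V, Sg⁆ ≤ N := by
    refine le_trans ?_ le_sup_right
    rw [hCg, hCdef, ← hVg, hSg, ← map_commutator, hVg]
    exact map_mono (le_inf (Coprime.commutator_le_of_le_normalizer
      (((normalizer_eq_top (H := V)).ge).trans' le_top)) hquad)
  haveI hNn : N.Normal := by
    rw [← normalizer_eq_top_iff, eq_top_iff, ← hgtop s₀ hs₀ hs₀R]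
    exact sup_le (zpowers_le.mpr (hnorm S hVS' hs₀)) (hnorm Sg hVSg)
  have hCN : N ⊓ centralizer (S : Set G) = C :=
    le_antisymm (inf_le_inf_right _ hNV) (le_inf le_sup_left inf_le_right)
  have hNeq : N = V := by
    have h1 := h.le_relIndex N (h.isPGroup.to_le (hNV.trans hVS)) (by rw [hCN]; exact hnc)
    rw [hCN] at h1
    refine eq_of_le_of_card_ge hNV ?_
    rw [← LocalEvenBasic.card_mul_relIndex_of_le C V inf_le_left,
      ← LocalEvenBasic.card_mul_relIndex_of_le C N le_sup_left, hidx]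
    exact Nat.mul_le_mul_left _ h1
  have hprod := coe_mul_of_left_le_normalizer_right C Cg (((inf_le_left.trans hVC).trans
    (centralizer_le (hCgeq.le.trans inf_le_left))).trans (centralizer_le_normalizer _))
  have hcard := card_sup_mul_card_inf_of_coe C Cg hprod
  rw [show C ⊔ Cg = V from hNeq, hinf, card_map_of_injective hinj,
    ← LocalEvenBasic.card_mul_relIndex_of_le C V inf_le_left, hidx, mul_assoc] at hcard
  refine ⟨hNeq, hinf, (Nat.eq_of_mul_eq_mul_left Nat.card_pos hcard).symm, fun s hs hsR => ?_⟩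
  refine le_antisymm (fun v hv => ?_) (inf_le_inf_left _ (centralizer_le (by simpa using hs)))
  have hv1 : v ∈ ((C ⊔ Cg : Subgroup G) : Set G) := hNeq.ge hv.1
  rw [hprod] at hv1
  obtain ⟨c, hc, c', hc', rfl⟩ := hv1
  refine C.mul_mem hc ⟨(hCgeq.le hc').1, ?_⟩
  have hcs : c ∈ centralizer ({s} : Set G) :=
    mem_centralizer_singleton_iff.mpr (mem_centralizer_iff.mp hc.2 s hs).symm
  exact centralizer_le (Set.subset_univ _ |>.trans_eq coe_top.symm)
    (hfixall s hs hsR c' hc' ((mul_mem_cancel_left hcs).mp hv.2)).2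

end CfsgLib.LocalEven50
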