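import Cfsg.Agent.LocalEven50.PushingUpStructure
import Cfsg.Agent.LocalEven48.Basic

/-!
# `Z(J(S))` in the basic pushing-up situation

If `Z(S)` is not central then either `J̃(S) = C_S(Z(J(S)))` is normal, or `Z(J(S)) = W₀ Z(S)` with
`W₀` centralised by the normal subgroup `⟨J(S), J(S^g)⟩`.
-/

namespace CfsgLib.LocalEven50

open Subgroup Cfsg
open scoped commutatorElement

variable {G : Type*} [Group G]

/-- An abelian subgroup of `S` of largest order, viewed in `G`. -/
def IsLargeAbelianIn (S A : Subgroup G) : Prop :=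
  A ≤ S ∧ A ≤ centralizer (A : Set G) ∧
    ∀ B : Subgroup G, B ≤ S → B ≤ centralizer (B : Set G) → Nat.card B ≤ Nat.card A

theorem le_centralizer_map {S : Subgroup G} {X : Subgroup ↥S}
    (h : X ≤ centralizer (X : Set ↥S)) :
    X.map S.subtype ≤ centralizer (X.map S.subtype : Set G) := by
  rintro _ ⟨x, hx, rfl⟩
  refine mem_centralizer_iff.mpr ?_
  rintro _ ⟨y, hy, rfl⟩
  exact congrArg Subtype.val (mem_centralizer_iff.mp (h hx) y hy)

theorem isLargeAbelianIn_map {S : Subgroup G} {A : Subgroup ↥S}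
    (hA : A ∈ maxAbelianSubgroups ↥S) : IsLargeAbelianIn S (A.map S.subtype) := by
  refine ⟨map_subtype_le A, le_centralizer_map (le_centralizer_iff_isMulCommutative.mpr hA.1),
    fun B hBS hB => ?_⟩
  rw [card_map_of_injective S.subtype_injective, ← Nat.card_congr (subgroupOfEquivOfLe hBS).toEquiv]
  refine hA.2 _ (le_centralizer_iff_isMulCommutative.mp ?_)
  exact fun x hx => mem_centralizer_iff.mpr fun y hy =>
    Subtype.ext (mem_centralizer_iff.mp (hB hx) y hy)

theorem IsLargeAbelianIn.mem_maxAbelian {S A : Subgroup G} (hA : IsLargeAbelianIn S A) :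
    A.subgroupOf S ∈ maxAbelianSubgroups ↥S := by
  refine ⟨le_centralizer_iff_isMulCommutative.mp fun x hx => mem_centralizer_iff.mpr fun y hy =>
    Subtype.ext (mem_centralizer_iff.mp (hA.2.1 hx) y hy), fun B hB => ?_⟩
  rw [Nat.card_congr (subgroupOfEquivOfLe hA.1).toEquiv,
    ← card_map_of_injective (f := S.subtype) S.subtype_injective]
  exact hA.2.2 _ (map_subtype_le B)
    (le_centralizer_map (le_centralizer_iff_isMulCommutative.mpr hB))

theorem IsLargeAbelianIn.le_thompson {S A : Subgroup G} (hA : IsLargeAbelianIn S A) :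
    A ≤ thompsonSubgroupAOf S :=
  (map_subgroupOf_eq_of_le hA.1).ge.trans (map_mono (le_sSup hA.mem_maxAbelian))

theorem thompsonSubgroupAOf_le_iff {S K : Subgroup G} :
    thompsonSubgroupAOf S ≤ K ↔ ∀ A, IsLargeAbelianIn S A → A ≤ K := by
  refine ⟨fun h A hA => hA.le_thompson.trans h, fun h => ?_⟩
  rw [thompsonSubgroupAOf, map_le_iff_le_comap]
  exact sSup_le fun A hA => map_le_iff_le_comap.mp (h _ (isLargeAbelianIn_map hA))

theorem IsLargeAbelianIn.eq_of_centralizer [Finite G] {S A : Subgroup G}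
    (hA : IsLargeAbelianIn S A) : S ⊓ centralizer (A : Set G) = A := by
  have h := centralizer_maxAbelian hA.mem_maxAbelian
  refine le_antisymm (fun x hx => ?_) (le_inf hA.1 hA.2.1)
  exact h.le (show (⟨x, hx.1⟩ : ↥S) ∈ centralizer (A.subgroupOf S : Set ↥S) from
    mem_centralizer_iff.mpr fun y hy => Subtype.ext (mem_centralizer_iff.mp hx.2 y hy))

theorem IsLargeAbelianIn.map [Finite G] {S A : Subgroup G} (hA : IsLargeAbelianIn S A) (k : G)
    (hk : A.map (MulAut.conj k).toMonoidHom ≤ S) :
    IsLargeAbelianIn S (A.map (MulAut.conj k).toMonoidHom) := by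
  refine ⟨hk, ?_, fun B h1 h2 => ?_⟩
  · rw [← map_centralizer_mulEquiv (MulAut.conj k)]
    exact map_mono hA.2.1
  · rw [card_map_of_injective (MulAut.conj k).injective]
    exact hA.2.2 B h1 h2

variable [Finite G] {p : ℕ} [Fact p.Prime] {S M : Subgroup G} {q : ℕ} {g : G}

theorem normalizer_le_normalizer_thompsonA (S : Subgroup G) :
    normalizer (S : Set G) ≤ normalizer (thompsonSubgroupAOf S : Set G) := by
  intro k hk
  refine mem_normalizer_iff_map_conj_eq.mpr (eq_of_le_of_card_ge ?_
    (card_map_of_injective (MulAut.conj k).injective).ge)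
  refine map_le_iff_le_comap.mpr (thompsonSubgroupAOf_le_iff.mpr fun A hA => ?_)
  refine map_le_iff_le_comap.mp (hA.map k ?_).le_thompson
  exact (map_mono hA.1).trans (mem_normalizer_iff_map_conj_eq.mp hk).le

omit [Finite G] in
theorem thompsonSubgroupAOf_le (S : Subgroup G) : thompsonSubgroupAOf S ≤ S :=
  map_subtype_le _

theorem center_le_centerThompson (S : Subgroup G) :
    S ⊓ centralizer (S : Set G) ≤ centerThompsonAOf S := by
  obtain ⟨A, hA⟩ := exists_maxAbelian (G := ↥S)
  have hA' := isLargeAbelianIn_map hA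
  refine le_inf ?_ (inf_le_right.trans (centralizer_le (thompsonSubgroupAOf_le S)))
  refine le_trans ?_ hA'.le_thompson
  rw [← hA'.eq_of_centralizer]
  exact inf_le_inf_left _ (centralizer_le hA'.1)

omit [Finite G] [Fact p.Prime] in
theorem isPushingUpSituation_of (S : Sylow p G)
    (hE₁ : centralizer (pCore p G : Set G) ≤ pCore p G)
    (hE₂ : ∃! M : Subgroup G, IsCoatom M ∧ (S : Subgroup G) ≤ M) (K : Subgroup G) [K.Normal]
    (F : Type) [Field F] [Fintype F] (n : ℕ) (hF : Fintype.card F = p ^ n)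
    (hE₃ : Nonempty (G ⧸ K ≃* Matrix.ProjectiveSpecialLinearGroup (Fin 2) F)) :
    IsPushingUpSituation p (S : Subgroup G) := by
  refine ⟨fun h => ?_, ⟨S, rfl⟩, hE₁, hE₂, K, inferInstance, F, inferInstance, inferInstance, n, hF,
    hE₃⟩
  obtain ⟨M, ⟨hM, -⟩, -⟩ := hE₂
  exact hM.1 (top_le_iff.mp (h.le.trans bot_le))

/-- `V = Z(O_p(G))` meets `C(S)` in `Z(S)`. -/
theorem PushUpData.center_eq (h : PushUpData p S M q g) :
    (pCore p G ⊓ centralizer (pCore p G : Set G)) ⊓ centralizer (S : Set G) =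
      S ⊓ centralizer (S : Set G) :=
  le_antisymm (inf_le_inf_right _ (inf_le_left.trans h.core_le))
    (le_inf (le_inf ((inf_le_right.trans (centralizer_le h.core_le)).trans h.cpSelf)
      (inf_le_right.trans (centralizer_le h.core_le))) inf_le_right)

/-- `J(S) ≤ O_p(G)` and `Z(S)` noncentral: `J̃(S)` is normal. -/
theorem normal_of_thompson_le (h : PushUpData p S M q g)
    (hnc : ¬ S ⊓ centralizer (S : Set G) ≤ centralizer ((⊤ : Subgroup G) : Set G))
    (hJ : thompsonSubgroupAOf S ≤ pCore p G) :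
    (S ⊓ centralizer (centerThompsonAOf S : Set G)).Normal := by
  haveI := pCore_normal p G
  haveI hJn : (thompsonSubgroupAOf S).Normal := by
    refine ⟨fun y hy x => ?_⟩
    refine (map_le_iff_le_comap.mpr (thompsonSubgroupAOf_le_iff.mpr fun A hA => ?_) :
      (thompsonSubgroupAOf S).map (MulAut.conj x).toMonoidHom ≤ thompsonSubgroupAOf S)
      (mem_map_of_mem (MulAut.conj x).toMonoidHom hy)
    refine map_le_iff_le_comap.mp (hA.map x ?_).le_thompson
    rintro _ ⟨a, ha, rfl⟩
    exact h.core_le (Normal.conj_mem ‹(pCore p G).Normal› a (hJ (hA.le_thompson ha)) x)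
  haveI : (centerThompsonAOf S).Normal := Subgroup.normal_inf_normal _ _
  set N := centralizer (centerThompsonAOf S : Set G)
  by_cases hNM : N ≤ M
  · have hT : S ⊓ N = pCore p G ⊓ N :=
      le_antisymm (le_inf (by rw [inf_comm]; exact h.normal_inf N inferInstance hNM) inf_le_right)
        (inf_le_inf_right _ h.core_le)
    rw [hT]
    exact Subgroup.normal_inf_normal _ _
  · exfalso
    have htop : N ⊔ S = ⊤ := by
      by_contra hne
      exact hNM (le_sup_left.trans (h.unique _ hne le_sup_right))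
    refine hnc ?_
    rw [← htop]
    exact le_centralizer_iff.mp
      (sup_le (centralizer_le (center_le_centerThompson S)) (le_centralizer_iff.mp inf_le_right))

/-- What `J(S) ≰ O_p(G)` gives. -/
structure ThompsonData (p : ℕ) (S : Subgroup G) (g : G) (W₀ : Subgroup G) : Prop where
  sup_core : thompsonSubgroupAOf S ⊔ pCore p G = S
  centerThompson_le : centerThompsonAOf S ≤ pCore p G
  normal : (thompsonSubgroupAOf S ⊔ (thompsonSubgroupAOf S).map (MulAut.conj g).toMonoidHom).Normal
  normal_sup : (centerThompsonAOf S ⊔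
    (pCore p G ⊓ centralizer (pCore p G : Set G))).Normal
  centralizes : thompsonSubgroupAOf S ⊔ (thompsonSubgroupAOf S).map (MulAut.conj g).toMonoidHom ≤
    centralizer (W₀ : Set G)
  core_normalizes : pCore p G ≤ normalizer (W₀ : Set G)
  eq_sup : centerThompsonAOf S = W₀ ⊔ (S ⊓ centralizer (S : Set G))
  sylow_large : ∀ A, IsLargeAbelianIn S A → ¬ A ≤ pCore p G → A ⊔ pCore p G = S ∧
    IsLargeAbelianIn S ((A ⊓ pCore p G) ⊔ (pCore p G ⊓ centralizer (pCore p G : Set G)))
  hasOffender : HasOffender p S (pCore p G ⊓ centralizer (pCore p G : Set G))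

theorem exists_thompsonData (hE : IsPushingUpSituation p S) (h : PushUpData p S M q g)
    (hnc : ¬ S ⊓ centralizer (S : Set G) ≤ centralizer ((⊤ : Subgroup G) : Set G))
    (hJ : ¬ thompsonSubgroupAOf S ≤ pCore p G) : ∃ W₀, ThompsonData p S g W₀ := by
  haveI := pCore_normal p G
  obtain ⟨htorus, hirr, -⟩ := pushUp_torus hE
  set R := pCore p G with hR
  set V := R ⊓ centralizer (R : Set G) with hVdef
  haveI : V.Normal := Subgroup.normal_inf_normal R _
  set C := S ⊓ centralizer (S : Set G) with hCdef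
  have hC : V ⊓ centralizer (S : Set G) = C := h.center_eq
  have hVS : V ≤ S := inf_le_left.trans h.core_le
  have hVc : V ≤ centralizer (V : Set G) :=
    inf_le_right.trans (centralizer_le (inf_le_left (a := R) (b := centralizer (R : Set G))))
  have hRV : R ≤ centralizer (V : Set G) := le_centralizer_iff.mp inf_le_right
  have hCV : C ≤ V := hC ▸ inf_le_left
  set J := thompsonSubgroupAOf S with hJdef
  set Y := centerThompsonAOf S with hYdef
  -- the abelian group `(A ∩ R) V`
  have hB : ∀ A, IsLargeAbelianIn S A →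
      ((A ⊓ R) ⊔ V ≤ centralizer (((A ⊓ R) ⊔ V : Subgroup G) : Set G)) ∧
      Nat.card ↥((A ⊓ R) ⊔ V) * Nat.card ↥(A ⊓ V) = Nat.card ↥(A ⊓ R) * Nat.card V := by
    intro A hA
    have h1 : A ⊓ R ≤ centralizer (V : Set G) := inf_le_right.trans hRV
    refine ⟨le_centralizer_iff_isMulCommutative.mpr (isMulCommutative_sup_of_le_centralizer
      ((inf_le_left.trans hA.2.1).trans (centralizer_le inf_le_left)) hVc h1), ?_⟩
    have h2 := card_sup_mul_card_inf_of_coe (A ⊓ R) V
      (coe_mul_of_left_le_normalizer_right _ _ (h1.trans (centralizer_le_normalizer _)))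
    rwa [inf_assoc, inf_eq_right.mpr (inf_le_left : V ≤ R)] at h2
  have hwR : PLocal.offenderWeight V R = Nat.card R * Nat.card V := by
    show Nat.card R * _ = _
    rw [inf_eq_left.mpr (le_centralizer_iff.mp hRV)]
  have hw : ∀ A, IsLargeAbelianIn S A →
      PLocal.offenderWeight V (A ⊔ R) * Nat.card ↥(A ⊓ R) =
        Nat.card R * (Nat.card A * Nat.card ↥(V ⊓ centralizer (A : Set G))) ∧
      Nat.card ↥(A ⊓ R) * Nat.card V ≤ Nat.card A * Nat.card ↥(V ⊓ centralizer (A : Set G)) := by
    intro A hA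
    have h2 := card_sup_mul_card_inf_of_coe A R (mul_normal A R)
    have h3 : V ⊓ centralizer ((A ⊔ R : Subgroup G) : Set G) = V ⊓ centralizer (A : Set G) := by
      rw [PLocal.centralizer_sup, ← inf_assoc,
        inf_eq_left.mpr (inf_le_left.trans (le_centralizer_iff.mp hRV) :
          V ⊓ centralizer (A : Set G) ≤ centralizer (R : Set G))]
    refine ⟨?_, ?_⟩
    · show Nat.card ↥(A ⊔ R) * Nat.card ↥(V ⊓ centralizer ((A ⊔ R : Subgroup G) : Set G)) * _ = _
      rw [h3, mul_right_comm, h2]; ring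
    · obtain ⟨hBab, hBcard⟩ := hB A hA
      rw [← hBcard]
      exact Nat.mul_le_mul (hA.2.2 _ (sup_le (inf_le_left.trans hA.1) hVS) hBab)
        (card_le_of_le (le_inf inf_le_right (inf_le_left.trans hA.2.1)))
  obtain ⟨A, hA, hAR⟩ : ∃ A, IsLargeAbelianIn S A ∧ ¬ A ≤ R := by
    by_contra hno
    push Not at hno
    exact hJ (thompsonSubgroupAOf_le_iff.mpr hno)
  have hoff : HasOffender p S V := by
    refine ⟨A ⊔ R, lt_of_le_of_ne le_sup_right fun e => hAR (le_sup_left.trans e.ge),
      sup_le hA.1 h.core_le, Nat.le_of_mul_le_mul_right ?_ (Nat.card_pos (α := ↥(A ⊓ R)))⟩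
    rw [hwR, (hw A hA).1, mul_assoc, mul_comm (Nat.card V)]
    exact Nat.mul_le_mul_left _ (hw A hA).2
  have hVab : IsMulCommutative ↥V := le_centralizer_iff_isMulCommutative.mp hVc
  obtain ⟨-, hidx, hmax⟩ := quadratic_of_offender hE h V hVS hVab hRV (hC ▸ hnc) hoff
  obtain ⟨hCCg, hinf, hcardC, hfix⟩ := structure_of_offender hE h V hVS hVab hRV (hC ▸ hnc) hoff
  rw [hC] at hidx hCCg hinf hcardC hfix
  have hcardV : Nat.card V = Nat.card C * q := by
    rw [← hidx]; exact (LocalEvenBasic.card_mul_relIndex_of_le C V hCV).symm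
  have hqR := LocalEvenBasic.card_mul_relIndex_of_le R S h.core_le
  rw [h.index_core] at hqR
  -- the members outside `R`
  have hlarge : ∀ B, IsLargeAbelianIn S B → ¬ B ≤ R →
      B ⊔ R = S ∧ IsLargeAbelianIn S ((B ⊓ R) ⊔ V) ∧ V ⊓ centralizer (B : Set G) = C := by
    intro B hB' hBR
    obtain ⟨b, hb, hbR⟩ := SetLike.not_le_iff_exists.mp hBR
    have hCB : C ≤ B := by
      rw [← hB'.eq_of_centralizer]
      exact inf_le_inf_left _ (centralizer_le hB'.1)
    have hVB : V ⊓ centralizer (B : Set G) = C := by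
      refine le_antisymm ?_ (le_inf hCV (hCB.trans hB'.2.1))
      exact (inf_le_inf_left _ (centralizer_le (by simpa using hb))).trans
        (hfix b (hB'.1 hb) hbR).le
    obtain ⟨h1, h2⟩ := hw B hB'
    rw [hVB] at h1 h2
    have h3 := hmax (B ⊔ R) le_sup_right (sup_le hB'.1 h.core_le)
    rw [hwR] at h3
    have h4 : Nat.card B * Nat.card C ≤ Nat.card V * Nat.card ↥(B ⊓ R) := by
      refine Nat.le_of_mul_le_mul_left ?_ (Nat.card_pos (α := R))
      rw [← h1, ← mul_assoc]
      exact Nat.mul_le_mul_right _ h3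
    have h5 : Nat.card B = q * Nat.card ↥(B ⊓ R) := by
      refine Nat.eq_of_mul_eq_mul_right (Nat.card_pos (α := C)) ?_
      rw [hcardV] at h2 h4
      nlinarith
    refine ⟨?_, ⟨sup_le (inf_le_left.trans hB'.1) hVS, (hB B hB').1, fun B' h' h'' => ?_⟩, hVB⟩
    · refine eq_of_le_of_card_ge (sup_le hB'.1 h.core_le) ?_
      refine Nat.le_of_mul_le_mul_right ?_ (Nat.card_pos (α := ↥(B ⊓ R)))
      rw [card_sup_mul_card_inf_of_coe B R (mul_normal B R), h5, ← hqR]
      exact le_of_eq (by ring)
    · refine (hB'.2.2 B' h' h'').trans (le_of_eq ?_)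
      have h6 : B ⊓ V = C :=
        le_antisymm ((le_inf inf_le_right (inf_le_left.trans hB'.2.1)).trans hVB.le)
          (le_inf hCB hCV)
      have h7 := (hB B hB').2
      rw [h6, hcardV] at h7
      refine Nat.eq_of_mul_eq_mul_right (Nat.card_pos (α := C)) ?_
      rw [h7, h5]; ring
  obtain ⟨hAS, hBlarge, -⟩ := hlarge A hA hAR
  have hJS : J ≤ S := thompsonSubgroupAOf_le S
  have hJR : J ⊔ R = S :=
    le_antisymm (sup_le hJS h.core_le) (hAS.ge.trans (sup_le_sup_right hA.le_thompson R))
  have hVJ : V ≤ J := le_sup_right.trans hBlarge.le_thompson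
  have hYJ : Y ≤ J := inf_le_left
  have hYR : Y ≤ R := by
    intro y hy
    by_contra hyR
    have h1 := hfix y (hJS (hYJ hy)) hyR
    have h2 : V ≤ centralizer ({y} : Set G) := fun v hv =>
      mem_centralizer_singleton_iff.mpr (mem_centralizer_iff.mp hy.2 v (hVJ hv))
    rw [inf_eq_left.mpr h2] at h1
    rw [h1, relIndex_self] at hidx
    exact h.one_lt.ne hidx
  -- `W = C_R(⟨large abelian subgroups inside R⟩)` is normal
  set W := R ⊓ centralizer ((⨆ B : {B : Subgroup G // IsLargeAbelianIn S B ∧ B ≤ R}, B.1 :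
    Subgroup G) : Set G) with hW
  haveI : (⨆ B : {B : Subgroup G // IsLargeAbelianIn S B ∧ B ≤ R}, B.1 : Subgroup G).Normal := by
    refine ⟨fun y hy x => ?_⟩
    refine (map_le_iff_le_comap.mpr (iSup_le fun B => ?_) :
      (⨆ B : {B : Subgroup G // IsLargeAbelianIn S B ∧ B ≤ R}, B.1 : Subgroup G).map
        (MulAut.conj x).toMonoidHom ≤ _) (mem_map_of_mem (MulAut.conj x).toMonoidHom hy)
    have hle : B.1.map (MulAut.conj x).toMonoidHom ≤ R := by
      rintro _ ⟨a, ha, rfl⟩
      exact Normal.conj_mem ‹R.Normal› a (B.2.2 ha) x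
    exact map_le_iff_le_comap.mp
      (le_iSup (fun B : {B : Subgroup G // IsLargeAbelianIn S B ∧ B ≤ R} => B.1)
        ⟨_, B.2.1.map x (hle.trans h.core_le), hle⟩)
  haveI : W.Normal := Subgroup.normal_inf_normal R _
  have hYW : Y ≤ W :=
    le_inf hYR (inf_le_right.trans (centralizer_le (SetLike.coe_subset_coe.mpr
      (iSup_le fun B : {B : Subgroup G // IsLargeAbelianIn S B ∧ B ≤ R} => B.2.1.le_thompson))))
  have habV : ∀ X : Subgroup G, X ≤ R → X ≤ normalizer (V : Set G) := fun X _ => by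
    rw [normalizer_eq_top]; exact le_top
  have hWA : ⁅W, A⁆ ≤ V := by
    have hle : W ≤ (A ⊓ R) ⊔ V := by
      intro x hx
      rw [← hBlarge.eq_of_centralizer]
      refine ⟨h.core_le hx.1, centralizer_le ?_ hx.2⟩
      exact le_iSup (fun B : {B : Subgroup G // IsLargeAbelianIn S B ∧ B ≤ R} => B.1)
        ⟨_, hBlarge, sup_le inf_le_right inf_le_left⟩
    refine commutator_le_of_sup hle (habV _ inf_le_right) (habV _ inf_le_left) ?_
      (Coprime.commutator_le_of_le_normalizer (by rw [normalizer_eq_top]; exact le_top))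
    exact (commutator_eq_bot_iff_le_centralizer.mpr (inf_le_left.trans hA.2.1)).le.trans bot_le
  set Ag := A.map (MulAut.conj g).toMonoidHom with hAgdef
  set Sg := S.map (MulAut.conj g).toMonoidHom with hSgdef
  have hconjR : ∀ N : Subgroup G, N.Normal → N.map (MulAut.conj g).toMonoidHom = N := fun N _ =>
    mem_normalizer_iff_map_conj_eq.mp ((normalizer_eq_top (H := N)).ge (mem_top g))
  have hWAg : ⁅W, Ag⁆ ≤ V := by
    rw [hAgdef, ← hconjR W inferInstance, ← hconjR V inferInstance, ← map_commutator]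
    exact map_mono hWA
  set X := Y ⊔ V with hX
  obtain ⟨s₀, hs₀, hs₀R⟩ := SetLike.not_le_iff_exists.mp hAR
  have hgtop : S ⊔ Sg = ⊤ :=
    top_le_iff.mp ((h.gen s₀ (hA.1 hs₀) hs₀R).ge.trans
      (sup_le_sup_right (zpowers_le.mpr (hA.1 hs₀)) _))
  have hSgeq : Ag ⊔ R = Sg := by
    rw [hSgdef, ← hAS, Subgroup.map_sup, hconjR R inferInstance]
  have hRSg : R ≤ Sg := hSgeq ▸ le_sup_right
  have hSJ : S ≤ normalizer (J : Set G) :=
    le_normalizer.trans (normalizer_le_normalizer_thompsonA S)
  have hSY : S ≤ normalizer (Y : Set G) := fun k hk => by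
    refine mem_normalizer_iff_map_conj_eq.mpr ?_
    have hk' := mem_normalizer_iff_map_conj_eq.mp (hSJ hk)
    rw [hYdef, centerThompsonAOf, Subgroup.map_inf _ _ _ (MulAut.conj k).injective]
    exact congrArg₂ (· ⊓ ·) hk' ((map_centralizer_mulEquiv (MulAut.conj k) _).trans
      (congrArg (fun K : Subgroup G => centralizer (K : Set G)) hk'))
  have hXAg : Ag ≤ normalizer (X : Set G) := by
    intro a ha
    refine mem_normalizer_iff_map_conj_eq.mpr (eq_of_le_of_card_ge ?_
      (card_map_of_injective (MulAut.conj a).injective).ge)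
    rintro _ ⟨y, hy, rfl⟩
    have hyW : y ∈ W ⊔ V := sup_le_sup_right hYW V hy
    have hcom : ⁅W ⊔ V, Ag⁆ ≤ V :=
      commutator_le_of_sup (le_refl (W ⊔ V)) (habV _ inf_le_left) (habV _ inf_le_left) hWAg
        (Coprime.commutator_le_of_le_normalizer (by rw [normalizer_eq_top]; exact le_top))
    have hm := X.mul_mem (X.inv_mem ((le_sup_right : V ≤ X)
      (hcom (commutator_mem_commutator hyW ha)))) hy
    rw [commutatorElement_inv, commutatorElement_def] at hm
    simpa [mul_assoc] using hm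
  have hSX : S ≤ normalizer (X : Set G) :=
    LocalEven48.le_normalizer_sup hSY (by rw [normalizer_eq_top]; exact le_top)
  haveI hXn : X.Normal := by
    rw [← normalizer_eq_top_iff, eq_top_iff, ← hgtop, ← hSgeq]
    exact sup_le hSX (sup_le hXAg (h.core_le.trans hSX))
  -- `W₀`
  set Yg := Y.map (MulAut.conj g).toMonoidHom with hYgdef
  set W₀ := Y ⊓ Yg with hW₀
  have hCY : C ≤ Y := center_le_centerThompson S
  have hVY : V ⊓ Y = C := by
    refine le_antisymm ?_ (le_inf hCV hCY)
    refine le_trans ?_ (hlarge A hA hAR).2.2.le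
    exact inf_le_inf_left _ (inf_le_right.trans (centralizer_le hA.le_thompson))
  have hYV : Y ≤ centralizer (V : Set G) := hYR.trans hRV
  have pX : Nat.card X * Nat.card C = Nat.card Y * Nat.card V := by
    have h1 := card_sup_mul_card_inf_of_coe Y V (mul_normal Y V)
    rwa [inf_comm, hVY] at h1
  have hXY : Nat.card X = Nat.card Y * q := by
    rw [hcardV, ← mul_assoc, mul_right_comm] at pX
    exact Nat.eq_of_mul_eq_mul_right Nat.card_pos pX
  have hW₀V : W₀ ⊓ V = V ⊓ centralizer ((⊤ : Subgroup G) : Set G) := by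
    rw [← hinf, hW₀, inf_inf_distrib_right, inf_comm Y V, hVY,
      ← hconjR V inferInstance, ← Subgroup.map_inf _ _ _ (MulAut.conj g).injective,
      inf_comm Y V, hVY]
  have hv0 : Nat.card C = q * Nat.card ↥(V ⊓ centralizer ((⊤ : Subgroup G) : Set G)) := hcardC
  have hW₀big : Nat.card Y ≤ q * Nat.card W₀ := by
    have h1 := LocalEvenBasic.card_mul_le_inf_mul_sup Y Yg
    have h2 : Y ⊔ Yg ≤ X := by
      refine sup_le le_sup_left ?_
      rw [hYgdef, ← hconjR X hXn]
      exact map_mono le_sup_left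
    rw [card_map_of_injective (MulAut.conj g).injective] at h1
    have h3 := h1.trans (Nat.mul_le_mul_left _ (card_le_of_le h2))
    rw [hXY] at h3
    refine Nat.le_of_mul_le_mul_right ?_ (Nat.card_pos (α := Y))
    calc Nat.card Y * Nat.card Y ≤ Nat.card W₀ * (Nat.card Y * q) := h3
      _ = q * Nat.card W₀ * Nat.card Y := by ring
  have heq : Y = W₀ ⊔ C := by
    refine (eq_of_le_of_card_ge (sup_le inf_le_left hCY) ?_).symm
    have h1 := card_sup_mul_card_inf_of_coe W₀ C (coe_mul_of_left_le_normalizer_right W₀ C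
      (((inf_le_left.trans hYV).trans (centralizer_le hCV)).trans (centralizer_le_normalizer _)))
    have h2 : W₀ ⊓ C = V ⊓ centralizer ((⊤ : Subgroup G) : Set G) := by
      rw [← hW₀V]
      exact le_antisymm (inf_le_inf_left _ hCV)
        (le_inf inf_le_left ((le_inf inf_le_right (inf_le_left.trans inf_le_left)).trans hVY.le))
    rw [h2, hv0] at h1
    refine Nat.le_of_mul_le_mul_right ?_
      (Nat.card_pos (α := ↥(V ⊓ centralizer ((⊤ : Subgroup G) : Set G))))
    rw [h1, mul_comm (Nat.card W₀), mul_assoc, mul_comm _ (Nat.card W₀), ← mul_assoc]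
    exact Nat.mul_le_mul_right _ hW₀big
  set Jg := J.map (MulAut.conj g).toMonoidHom with hJgdef
  have hRnormJg : ∀ K : Subgroup G, S ≤ normalizer (K : Set G) →
      R ≤ normalizer (K.map (MulAut.conj g).toMonoidHom : Set G) := by
    intro K hK r hr
    have hr' : g⁻¹ * r * g ∈ normalizer (K : Set G) :=
      hK (h.core_le (by simpa using Normal.conj_mem ‹R.Normal› r hr g⁻¹))
    refine mem_normalizer_iff_map_conj_eq.mpr ?_
    have e := congrArg (Subgroup.map (MulAut.conj g).toMonoidHom)
      (mem_normalizer_iff_map_conj_eq.mp hr')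
    refine Eq.trans ?_ e
    rw [map_map, map_map]
    congr 1
    ext x
    simp [mul_assoc]
  haveI hLn : (J ⊔ Jg).Normal := by
    have hRn : R ≤ normalizer ((J ⊔ Jg : Subgroup G) : Set G) :=
      LocalEven48.le_normalizer_sup (h.core_le.trans hSJ) (hRnormJg J hSJ)
    rw [← normalizer_eq_top_iff, eq_top_iff, ← hgtop]
    refine sup_le ?_ ?_
    · rw [← hJR]
      exact sup_le (le_sup_left.trans le_normalizer) hRn
    · rw [hSgdef, ← hJR, Subgroup.map_sup, hconjR R inferInstance]
      exact sup_le (le_sup_right.trans le_normalizer) hRn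
  refine ⟨W₀, hJR, hYR, hLn, hXn, sup_le ?_ ?_, ?_, heq,
    fun B hB' hBR => ⟨(hlarge B hB' hBR).1, (hlarge B hB' hBR).2.1⟩, hoff⟩
  · exact (le_centralizer_iff.mp (inf_le_right : Y ≤ _)).trans (centralizer_le inf_le_left)
  · refine le_trans ?_ (centralizer_le (inf_le_right : W₀ ≤ Yg))
    rw [hYgdef, ← map_centralizer_mulEquiv (MulAut.conj g)]
    exact map_mono (le_centralizer_iff.mp inf_le_right)
  · exact le_normalizer_inf' (h.core_le.trans hSY) (hRnormJg Y hSY)
where
  le_normalizer_inf' {X A B : Subgroup G} (hA : X ≤ normalizer (A : Set G))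
      (hB : X ≤ normalizer (B : Set G)) : X ≤ normalizer ((A ⊓ B : Subgroup G) : Set G) :=
    fun x hx => mem_normalizer_iff.mpr fun y =>
      Iff.and (mem_normalizer_iff.mp (hA hx) y) (mem_normalizer_iff.mp (hB hx) y)

/-- `J̃(S)` is the intersection of `S` with a normal subgroup generated by `J̃(S)^G`. -/
theorem inf_normalClosure_le (hE : IsPushingUpSituation p S) (h : PushUpData p S M q g)
    (hnc : ¬ S ⊓ centralizer (S : Set G) ≤ centralizer ((⊤ : Subgroup G) : Set G)) :
    S ⊓ normalClosure ((S ⊓ centralizer (centerThompsonAOf S : Set G) : Subgroup G) : Set G) ≤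
      S ⊓ centralizer (centerThompsonAOf S : Set G) := by
  haveI := pCore_normal p G
  set T := S ⊓ centralizer (centerThompsonAOf S : Set G) with hT
  set J := thompsonSubgroupAOf S with hJdef
  by_cases hJ : J ≤ pCore p G
  · haveI : T.Normal := normal_of_thompson_le h hnc hJ
    exact inf_le_right.trans (normalClosure_le_normal (subset_refl _))
  obtain ⟨W₀, D⟩ := exists_thompsonData hE h hnc hJ
  set R := pCore p G
  set V := R ⊓ centralizer (R : Set G)
  set Y := centerThompsonAOf S
  set L := J ⊔ J.map (MulAut.conj g).toMonoidHom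
  haveI : L.Normal := D.normal
  haveI : (Y ⊔ V).Normal := D.normal_sup
  have hRV : R ≤ centralizer (V : Set G) := le_centralizer_iff.mp inf_le_right
  have hRY : R ⊓ centralizer (Y : Set G) = R ⊓ centralizer ((Y ⊔ V : Subgroup G) : Set G) := by
    rw [PLocal.centralizer_sup]
    exact le_antisymm (le_inf inf_le_left (le_inf inf_le_right (inf_le_left.trans hRV)))
      (inf_le_inf_left _ inf_le_left)
  haveI : (R ⊓ centralizer (Y : Set G)).Normal := by
    rw [hRY]; exact Subgroup.normal_inf_normal _ _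
  have hJY : J ≤ centralizer (Y : Set G) := le_centralizer_iff.mp inf_le_right
  have hTN : T ≤ L ⊔ (R ⊓ centralizer (Y : Set G)) := by
    intro t ht
    have h1 : t ∈ ((J ⊔ R : Subgroup G) : Set G) := D.sup_core.ge ht.1
    rw [mul_normal J R] at h1
    obtain ⟨j, hj, r, hr, rfl⟩ := h1
    exact mul_mem (mem_sup_left (mem_sup_left hj)) (mem_sup_right ⟨hr,
      (mul_mem_cancel_left (hJY hj)).mp ht.2⟩)
  have hN : normalClosure (T : Set G) ≤ centralizer (W₀ : Set G) := by
    refine (normalClosure_le_normal (SetLike.coe_subset_coe.mpr hTN)).trans (sup_le D.centralizes ?_)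
    exact inf_le_right.trans (centralizer_le (le_sup_left.trans_eq D.eq_sup.symm : W₀ ≤ Y))
  refine le_inf inf_le_left ?_
  rw [D.eq_sup, PLocal.centralizer_sup]
  exact le_inf (inf_le_right.trans hN) (inf_le_left.trans (le_centralizer_iff.mp inf_le_right))

end CfsgLib.LocalEven50
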