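import Cfsg.Agent.LocalEven50.PushingUpRankOne
import Cfsg.Agent.LocalEven50.CentralSL2
import Cfsg.Agent.LocalEven.QdOver

/-!
# In case I with `p ≥ 5` the group is `Qd(q) × R₁`
-/

set_option linter.style.haveILetI false
set_option linter.unusedSectionVars false

namespace CfsgLib.LocalEven50

open Subgroup Cfsg
open scoped MatrixGroups commutatorElement

variable {G : Type*} [Group G] [Finite G] {p : ℕ} [Fact p.Prime] {F : Type*} [Field F] [Fintype F]

theorem mulVec_neg_one (w : Fin 2 → F) :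
    ((-1 : SL(2, F)) : Matrix (Fin 2) (Fin 2) F).mulVec w = -w := by
  rw [Matrix.SpecialLinearGroup.coe_neg, Matrix.SpecialLinearGroup.coe_one, Matrix.neg_mulVec,
    Matrix.one_mulVec]

/-- Case I with `p ≥ 5` splits. -/
theorem PUCaseI.exists_split [CharP F p] {ρ : G →* SL(2, F)} {S : Sylow p G}
    (h : PUCaseI p (S : Subgroup G) ρ) (hp : 5 ≤ p) :
    ∃ (R₁ : Subgroup G) (e : ↥(qdOver F) × ↥R₁ ≃* G),
      R₁ ≤ pCore p G ∧ ∀ r : ↥R₁, e (1, r) = r := by
  classical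
  haveI := pCore_normal p G
  have hpr : p.Prime := Fact.out
  set R := pCore p G with hR
  set V := zR p G with hV
  have hRS : R ≤ (S : Subgroup G) := PLocal.pCore_le_sylow S
  have hexp : ∀ r ∈ R, r ^ p = 1 := fun r hr => by
    have h1 := Monoid.pow_exponent_eq_one (⟨r, hRS hr⟩ : ↥(S : Subgroup G))
    rw [h.exponent_odd (by omega)] at h1
    exact congrArg Subtype.val h1
  have hVR : V ≤ R := inf_le_left
  have hkR : ∀ {g : G}, ρ g = 1 ↔ g ∈ R := fun {g} => by rw [hR, ← h.ker, MonoidHom.mem_ker]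
  have hVc : ∀ v ∈ V, ∀ r ∈ R, v * r = r * v := fun v hv r hr =>
    (mem_centralizer_iff.mp hv.2 r hr).symm
  obtain ⟨ψ, hψ, hψker, hψeq⟩ := h.rep
  obtain ⟨N, hN, hNS, hRN⟩ := h.central
  have hhalf : ∀ r ∈ R, (r ^ ((p + 1) / 2)) ^ 2 = r := fun r hr => by
    obtain ⟨j, hj⟩ := hpr.odd_of_ne_two (by omega)
    rw [← pow_mul, show (p + 1) / 2 * 2 = p + 1 by omega, pow_succ, hexp r hr, one_mul]
  have hsq1 : ∀ r ∈ R, r * r = 1 → r = 1 := fun r hr hrr => by
    have := hhalf r hr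
    rw [← pow_mul, mul_comm, pow_mul, sq, hrr, one_pow] at this
    exact this.symm
  -- the involution
  obtain ⟨t, ht2, htρ⟩ : ∃ t : G, t * t = 1 ∧ ρ t = -1 := by
    obtain ⟨x, hx⟩ := h.surj (-1)
    refine ⟨x ^ p, ?_, ?_⟩
    · rw [← pow_add, ← two_mul, pow_mul]
      exact hexp _ (hkR.mp (by rw [map_pow, hx, neg_one_sq]))
    · rw [map_pow, hx, (hpr.odd_of_ne_two (by omega)).neg_one_pow]
  have htinv : t⁻¹ = t := inv_eq_of_mul_eq_one_right ht2
  have htt : ∀ a : G, t * (t * a) = a := fun a => by rw [← mul_assoc, ht2, one_mul]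
  have hconjR : ∀ g : G, g * t * g⁻¹ * t ∈ R := fun g => by
    rw [← hkR]
    simp [htρ]
  -- `V₀`
  let V₀ : Subgroup G :=
    { carrier := {v | v ∈ V ∧ t * v * t = v⁻¹}
      one_mem' := ⟨V.one_mem, by rw [mul_one, ht2, inv_one]⟩
      mul_mem' := fun {a b} ha hb => ⟨V.mul_mem ha.1 hb.1, by
        calc t * (a * b) * t = (t * a * t) * (t * b * t) := by simp only [mul_assoc, htt]
          _ = a⁻¹ * b⁻¹ := by rw [ha.2, hb.2]
          _ = (a * b)⁻¹ := by rw [← mul_inv_rev, hVc a ha.1 b (hVR hb.1)]⟩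
      inv_mem' := fun {a} ha => ⟨V.inv_mem ha.1, by
        calc t * a⁻¹ * t = (t * a * t)⁻¹ := by simp [htinv, mul_assoc]
          _ = a⁻¹⁻¹ := by rw [ha.2]⟩ }
  have hV₀V : V₀ ≤ V := fun v hv => hv.1
  have hfixV : ∀ v ∈ V₀, t * v * t = v → v = 1 := fun v hv hfix =>
    hsq1 v (hVR hv.1) (by
      conv_lhs => arg 1; rw [← hfix, hv.2]
      rw [inv_mul_cancel])
  have hV₀n : ∀ g, ∀ v ∈ V₀, g * v * g⁻¹ ∈ V₀ := fun g v hv => by
    refine ⟨Normal.conj_mem inferInstance v hv.1 g, ?_⟩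
    have hr := hconjR g⁻¹
    rw [inv_inv] at hr
    set r := g⁻¹ * t * g * t with hrdef
    have e : g⁻¹ * t * g = r * t := by rw [hrdef, mul_assoc _ t t, ht2, mul_one]
    calc t * (g * v * g⁻¹) * t = g * ((g⁻¹ * t * g) * v * (g⁻¹ * t * g)⁻¹) * g⁻¹ := by
          simp [htinv, mul_assoc]
      _ = g * (r * (t * v * t) * r⁻¹) * g⁻¹ := by rw [e]; simp [htinv, mul_assoc]
      _ = g * v⁻¹ * g⁻¹ := by
          rw [hv.2, ← hVc _ (V.inv_mem hv.1) r hr, mul_inv_cancel_right]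
      _ = (g * v * g⁻¹)⁻¹ := by group
  have hψneg : ∀ x w : ↥V, (w : G) = t * x * t → (ψ w).toAdd = -(ψ x).toAdd := fun x w e => by
    rw [hψeq t x w (by rw [e, htinv]), htρ, mulVec_neg_one]
  have hVdec : ∀ v ∈ V, ∃ a ∈ V₀, a⁻¹ * v ∈ zG p G := by
    intro v hv
    have hw : t * v * t ∈ V := by
      have := Normal.conj_mem (inferInstanceAs V.Normal) v hv t
      rwa [htinv] at this
    set a := (v * (t * v * t)⁻¹) ^ ((p + 1) / 2) with ha
    have hmem : v * (t * v * t)⁻¹ ∈ V₀ := by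
      refine ⟨V.mul_mem hv (V.inv_mem hw), ?_⟩
      simp only [mul_inv_rev, inv_inv, htinv, mul_assoc, htt, ht2, mul_one]
    have haV : a ∈ V₀ := V₀.pow_mem hmem _
    refine ⟨a, haV, (hψker ⟨_, V.mul_mem (V.inv_mem haV.1) hv⟩).mp ?_⟩
    rw [show (⟨_, V.mul_mem (V.inv_mem haV.1) hv⟩ : ↥V) = ⟨a, haV.1⟩⁻¹ * ⟨v, hv⟩ from rfl, map_mul,
      map_inv, inv_mul_eq_one]
    refine Multiplicative.toAdd.injective ?_
    have e1 : (⟨a, haV.1⟩ : ↥V) ^ 2 = ⟨v, hv⟩ * ⟨t * v * t, hw⟩⁻¹ :=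
      Subtype.ext (hhalf _ (hVR hmem.1))
    have e2 := congrArg (fun z => Multiplicative.toAdd (ψ z)) e1
    simp only [map_pow, map_mul, map_inv, toAdd_pow, toAdd_mul, toAdd_inv] at e2
    rw [hψneg ⟨v, hv⟩ ⟨_, hw⟩ rfl, neg_neg, ← two_nsmul] at e2
    have h2 : (2 : F) ≠ 0 := by
      exact_mod_cast natCast_ne_zero_of_lt (F := F) (p := p) (m := 2) (by norm_num) (by omega)
    funext i
    have e3 := congrFun e2 i
    simp only [Pi.smul_apply, nsmul_eq_mul, Nat.cast_ofNat] at e3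
    exact mul_left_cancel₀ h2 e3
  -- coordinates on `V₀`
  have hψ₀ : Function.Bijective (ψ.comp (inclusion hV₀V)) := by
    constructor
    · rw [injective_iff_map_eq_one]
      rintro ⟨v, hv⟩ hv1
      have hz : v ∈ zG p G := (hψker ⟨v, hV₀V hv⟩).mp hv1
      refine Subtype.ext (hfixV v hv ?_)
      rw [mem_centralizer_iff.mp hz.2 t (mem_top t), mul_assoc, ht2, mul_one]
    · intro w
      obtain ⟨⟨v, hv⟩, rfl⟩ := hψ w
      obtain ⟨a, ha, hz⟩ := hVdec v hv
      refine ⟨⟨a, ha⟩, ?_⟩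
      show ψ ⟨a, hV₀V ha⟩ = ψ ⟨v, hv⟩
      rw [← inv_mul_eq_one, ← map_inv, ← map_mul, hψker]
      exact hz
  let eV := MulEquiv.ofBijective _ hψ₀
  let j : Multiplicative (Fin 2 → F) →* G := V₀.subtype.comp eV.symm.toMonoidHom
  have hjV : ∀ w, j w ∈ V₀ := fun w => (eV.symm w).2
  have hjψ : ∀ w, ψ ⟨j w, hV₀V (hjV w)⟩ = w := fun w => eV.apply_symm_apply w
  have hjsur : ∀ v ∈ V₀, ∃ w, j w = v := fun v hv =>
    ⟨eV ⟨v, hv⟩, congrArg Subtype.val (eV.symm_apply_apply ⟨v, hv⟩)⟩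
  have hjconj : ∀ (g : G) w, g * j w * g⁻¹ =
      j (.ofAdd ((ρ g : Matrix (Fin 2) (Fin 2) F).mulVec w.toAdd)) := by
    intro g w
    have hm := hV₀n g _ (hjV w)
    obtain ⟨w', hw'⟩ := hjsur _ hm
    rw [← hw']
    refine congrArg j (Multiplicative.toAdd.injective ?_)
    rw [toAdd_ofAdd]
    have := hψeq g ⟨j w, hV₀V (hjV w)⟩ ⟨j w', hV₀V (hjV w')⟩ hw'
    rwa [hjψ, hjψ] at this
  -- `R = V₀ R₁`
  set Ct := centralizer ({t} : Set G) with hCt
  set R₁ := R ⊓ Ct with hR₁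
  have hCtmem : ∀ x, t * x * t = x → x ∈ Ct := fun x hx => by
    rw [mem_centralizer_singleton_iff]
    conv_lhs => rw [← hx]
    rw [mul_assoc, ht2, mul_one]
  have hfixR : ∀ x ∈ Ct, t * x * t = x := fun x hx => by
    rw [← mem_centralizer_singleton_iff.mp hx, mul_assoc, ht2, mul_one]
  have hdis : ∀ v ∈ V₀, v ∈ Ct → v = 1 := fun v hv hc => hfixV v hv (hfixR v hc)
  have htord : ¬ p ∣ orderOf t := fun hd => by
    have := Nat.le_of_dvd two_pos (hd.trans (orderOf_dvd_of_pow_eq_one (by rw [sq]; exact ht2)))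
    omega
  have hRdec : ∀ r ∈ R, ∃ v ∈ V₀, ∃ r₁ ∈ R₁, r = v * r₁ := by
    intro r hr
    have hmem : ⁅t, r⁆ ∈ V := by
      rw [← commutatorElement_inv]
      exact V.inv_mem (hRN (commutator_mem_commutator hr (mem_of_sup_eq_top S.2 hNS htord)))
    set v' := ⁅t, r⁆ with hv'
    have hv'₀ : v' ∈ V₀ := ⟨hmem, by
      simp only [hv', commutatorElement_def, mul_inv_rev, inv_inv, htinv, mul_assoc, htt, ht2, mul_one]⟩
    set w := v' ^ ((p + 1) / 2) with hw
    have hw₀ : w ∈ V₀ := V₀.pow_mem hv'₀ _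
    refine ⟨w⁻¹, V₀.inv_mem hw₀, w * r, ⟨R.mul_mem (hVR hw₀.1) hr, hCtmem _ ?_⟩, by group⟩
    calc t * (w * r) * t = (t * w * t) * (t * r * t) := by simp only [mul_assoc, htt]
      _ = w⁻¹ * (v' * r) := by
          rw [hw₀.2, hv', commutatorElement_def, htinv, inv_mul_cancel_right]
      _ = w * r := by rw [← hhalf _ (hVR hmem), ← hw, sq]; group
  have hcov : ∀ g : G, ∃ v ∈ V₀, ∃ c ∈ Ct, g = v * c := by
    intro g
    obtain ⟨v, hv, r₁, hr₁, e⟩ := hRdec _ (hconjR g)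
    have hinvr : t * (g * t * g⁻¹ * t) * t = (g * t * g⁻¹ * t)⁻¹ := by
      simp only [mul_inv_rev, inv_inv, htinv, mul_assoc, ht2, mul_one]
    rw [e] at hinvr
    have hr1 : r₁ = 1 := by
      refine hsq1 r₁ hr₁.1 ?_
      have h1 : t * (v * r₁) * t = v⁻¹ * r₁ := by
        calc t * (v * r₁) * t = (t * v * t) * (t * r₁ * t) := by simp only [mul_assoc, htt]
          _ = _ := by rw [hv.2, hfixR r₁ hr₁.2]
      rw [h1, hVc v hv.1 r₁ hr₁.1, mul_inv_rev] at hinvr
      have h2 := mul_left_cancel hinvr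
      rw [← eq_inv_iff_mul_eq_one]
      exact h2
    rw [hr1, mul_one] at e
    set w := v ^ ((p + 1) / 2)
    have hw₀ : w ∈ V₀ := V₀.pow_mem hv _
    refine ⟨w, hw₀, w⁻¹ * g, mem_centralizer_singleton_iff.mpr ?_, by group⟩
    have e2 : g * t = w * w * t * g := by
      rw [← sq, hhalf v (hVR hv.1), ← e]
      simp only [mul_assoc, htt]
      group
    calc w⁻¹ * g * t = w⁻¹ * (w * w * t * g) := by rw [← e2, mul_assoc]
      _ = w * t * g := by group
      _ = t * w⁻¹ * g := by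
          congr 1
          conv_lhs => rw [← (V₀.inv_mem hw₀).2.trans (inv_inv w)]
          simp only [mul_assoc, ht2, mul_one]
      _ = t * (w⁻¹ * g) := mul_assoc _ _ _
  -- the centraliser of `R₁` in `C(t)` covers `SL₂`
  set L := Ct ⊓ centralizer (R₁ : Set G) with hL
  have hzfix : ∀ v ∈ V, v ∈ Ct → v ∈ zG p G := by
    intro v hv hc
    obtain ⟨a, ha, hz⟩ := hVdec v hv
    have hzc : a⁻¹ * v ∈ Ct := mem_centralizer_singleton_iff.mpr
      (mem_centralizer_iff.mp hz.2 t (mem_top t)).symm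
    have : a⁻¹ ∈ Ct := by simpa using Ct.mul_mem hzc (Ct.inv_mem hc)
    rwa [show a = 1 from inv_eq_one.mp (hdis _ (V₀.inv_mem ha) this), inv_one, one_mul] at hz
  set m := Fintype.card F - 1 with hm
  obtain ⟨n, hn⟩ := FiniteField.card F p
  have hpq : p ≤ Fintype.card F := hn.2 ▸ Nat.le_self_pow n.pos.ne' p
  have hmp : p.Coprime m := by
    refine hpr.coprime_iff_not_dvd.mpr fun hd => ?_
    have hq : p ∣ Fintype.card F := hn.2 ▸ dvd_pow_self p n.pos.ne'
    have h2 := Nat.dvd_sub hq hd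
    rw [hm, Nat.sub_sub_self (by omega), Nat.dvd_one] at h2
    omega
  have hlift : ∀ y : SL(2, F), y ^ m = 1 → y ∈ L.map ρ := by
    intro y hy
    obtain ⟨g, hg⟩ := h.surj y
    obtain ⟨v, hv, c, hc, rfl⟩ := hcov g
    have hρv : ρ v = 1 := hkR.mpr (hVR hv.1)
    rw [map_mul, hρv, one_mul] at hg
    obtain ⟨k, hk⟩ := exists_pow_eq_self_of_coprime
      (hmp.of_dvd_right (orderOf_dvd_of_pow_eq_one hy))
    set x := (c ^ p) ^ k with hx
    have hxρ : ρ x = y := by rw [hx, map_pow, map_pow, hg, hk]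
    have hxm : x ^ m = 1 := by
      rw [hx, ← pow_mul, ← pow_mul, show p * (k * m) = m * (p * k) by ring, pow_mul, pow_mul,
        hexp (c ^ m) (hkR.mp (by rw [map_pow, hg, hy])), one_pow]
    have hxC : x ∈ Ct := Ct.pow_mem (Ct.pow_mem hc _) _
    have hxp : ¬ p ∣ orderOf x := fun hd =>
      absurd (hpr.coprime_iff_not_dvd.mp hmp (hd.trans (orderOf_dvd_of_pow_eq_one hxm))) id
    refine ⟨x, ⟨hxC, mem_centralizer_iff.mpr fun r hr => ?_⟩, hxρ⟩
    refine (commute_step S.2 (X := R₁) (Y := zG p G) ((inf_le_left.trans hVR).trans hRS) hxp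
      (fun z hz => mem_centralizer_iff.mp hz.2 x (mem_top x)) (fun r hr => ?_) r hr).eq.symm
    exact hzfix _ (hRN (commutator_mem_commutator hr.1 (mem_of_sup_eq_top S.2 hNS hxp)))
      (Ct.mul_mem (Ct.mul_mem (Ct.mul_mem hr.2 hxC) (Ct.inv_mem hr.2)) (Ct.inv_mem hxC))
  have hΓ : ∀ A : SL(2, F), A ∈ L.map ρ := by
    have h2 : (2 : F) ≠ 0 := by
      exact_mod_cast natCast_ne_zero_of_lt (F := F) (p := p) (m := 2) (by norm_num) (by omega)
    set a : Fˣ := Units.mk0 2 h2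
    have ha : ((a : F) * a)⁻¹ - 1 ≠ 0 := by
      rw [sub_ne_zero, inv_ne_one, Units.val_mk0]
      intro h4
      have h3 : ((3 : ℕ) : F) = 0 := by push_cast; linear_combination h4
      exact natCast_ne_zero_of_lt (F := F) (p := p) (by norm_num) (by omega) h3
    have hdiag : diagHom a ^ m = 1 := by
      rw [← map_pow, hm, ← Nat.card_eq_fintype_card, ← Nat.card_units, pow_card_eq_one',
        map_one]
    have hconj : ∀ z, (z * diagHom a * z⁻¹) ^ m = 1 := fun z => by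
      rw [conj_pow, hdiag, mul_one, mul_inv_cancel]
    have hup : ∀ s : F, ∃ z, z * diagHom a * z⁻¹ = diagHom a * upperHom F (.ofAdd s) := by
      intro s
      set x := s / (((a : F) * a)⁻¹ - 1) with hx
      refine ⟨upperHom F (.ofAdd x), ?_⟩
      have e1 : x = (a : F) * a * (x * ((a : F) * a)⁻¹) := by
        rw [mul_comm x, ← mul_assoc, mul_inv_cancel₀ (mul_ne_zero a.ne_zero a.ne_zero), one_mul]
      rw [← map_inv, ← ofAdd_neg]
      conv_lhs => enter [1, 1]; rw [e1]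
      rw [← diag_mul_upper, mul_assoc, ← map_mul, ← ofAdd_add, ← sub_eq_add_neg]
      congr 3
      rw [hx, ← mul_sub_one, div_mul_cancel₀ _ ha]
    intro A
    refine closure_upper_lower F _ (fun s => ?_) (fun s => ?_) A
    · obtain ⟨z, hz⟩ := hup s.toAdd
      have := mul_mem (inv_mem (hlift _ hdiag)) (hlift _ (hconj z))
      rwa [hz, inv_mul_cancel_left] at this
    · obtain ⟨z, hz⟩ := hup (-s.toAdd)
      have h1 := hlift _ (show ((rotSL : SL(2, F)) * diagHom a * rotSL⁻¹) ^ m = 1 from hconj _)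
      have h3 := hlift _ (hconj (rotSL * z))
      have := mul_mem (inv_mem h1) h3
      rw [lower_eq, show s⁻¹ = Multiplicative.ofAdd (-s.toAdd) from rfl]
      convert this using 1
      calc rotSL * upperHom F (.ofAdd (-s.toAdd)) * rotSL⁻¹
          = (rotSL * diagHom a * rotSL⁻¹)⁻¹ *
            (rotSL * (diagHom a * upperHom F (.ofAdd (-s.toAdd))) * rotSL⁻¹) := by group
        _ = _ := by rw [← hz]; group
  -- the complement
  obtain ⟨l₀, hl₀⟩ := exists_section_of_central (p := p) hp (ρ.comp L.subtype)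
    (fun A => by obtain ⟨x, hx, rfl⟩ := hΓ A; exact ⟨⟨x, hx⟩, rfl⟩)
    (fun ⟨x, hx⟩ hk => by
      have hxR : x ∈ R := hkR.mp hk
      exact mem_center_iff.mpr fun ⟨y, hy⟩ =>
        Subtype.ext (mem_centralizer_iff.mp hy.2 x ⟨hxR, hx.1⟩).symm)
    (fun ⟨⟨x, hx⟩, hk⟩ => ⟨1, Subtype.ext (Subtype.ext (by
      simpa using hexp x (hkR.mp hk)))⟩)
  set l := L.subtype.comp l₀ with hl
  have hlρ : ∀ A, ρ (l A) = A := hl₀
  -- the isomorphism
  let θ₀ : ↥(qdOver F) → G := fun M =>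
    j (.ofAdd ![M.1.1 0 2, M.1.1 1 2]) * l (LocalEven.QdOver.block M)
  have hθmk : ∀ a b c d x y (hh : a * d - b * c = 1),
      θ₀ (LocalEven.QdOver.mk a b c d x y hh) =
        j (.ofAdd ![x, y]) * l (LocalEven.QdOver.sl2 a b c d hh) := by
    intro a b c d x y hh
    simp [θ₀, LocalEven.QdOver.block_mk, LocalEven.QdOver.val_mk]
  let θ : ↥(qdOver F) →* G := MonoidHom.mk' θ₀ (by
    intro M₁ M₂
    obtain ⟨a, b, c, d, x, y, hh, rfl⟩ := LocalEven.QdOver.exists_eq_mk M₁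
    obtain ⟨a', b', c', d', x', y', hh', rfl⟩ := LocalEven.QdOver.exists_eq_mk M₂
    set A := LocalEven.QdOver.sl2 a b c d hh with hA
    set B := LocalEven.QdOver.sl2 a' b' c' d' hh'
    rw [LocalEven.QdOver.mk_mul, hθmk, hθmk, hθmk,
      show j (.ofAdd ![x, y]) * l A * (j (.ofAdd ![x', y']) * l B) =
        j (.ofAdd ![x, y]) * (l A * j (.ofAdd ![x', y']) * (l A)⁻¹) * (l A * l B) by group,
      hjconj, hlρ, ← map_mul j, ← map_mul l, ← ofAdd_add]
    congr 2
    · rw [toAdd_ofAdd, hA, LocalEven.QdOver.sl2_val]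
      congr 1
      funext i
      fin_cases i <;> simp [Matrix.mulVec, dotProduct, Fin.sum_univ_two] <;> ring
    · apply Subtype.ext
      show _ = A.1 * B.1
      simp only [A, B, LocalEven.QdOver.sl2_val]
      ext i k
      fin_cases i <;> fin_cases k <;> simp [Matrix.mul_apply, Fin.sum_univ_two])
  have hθcomm : ∀ M (r : ↥R₁), Commute (θ M) (r : G) := fun M r => by
    refine Commute.mul_left (hVc _ (hV₀V (hjV _)) r r.2.1) ?_
    exact (mem_centralizer_iff.mp (l₀ (LocalEven.QdOver.block M)).2.2 r r.2).symm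
  let f := MonoidHom.noncommCoprod θ R₁.subtype hθcomm
  have hinj : Function.Injective f := by
    rw [injective_iff_map_eq_one]
    rintro ⟨M, r⟩ (hf : θ M * (r : G) = 1)
    obtain ⟨a, b, c, d, x, y, hh, rfl⟩ := LocalEven.QdOver.exists_eq_mk M
    set w := j (.ofAdd ![x, y])
    have hθ : θ (LocalEven.QdOver.mk a b c d x y hh) =
        w * l (LocalEven.QdOver.sl2 a b c d hh) := hθmk a b c d x y hh
    rw [hθ] at hf
    have hA := congrArg ρ hf
    have hρr : ρ (r : G) = 1 := hkR.mpr r.2.1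
    have hρw : ρ w = 1 := hkR.mpr (hVR (hjV _).1)
    rw [map_mul, map_mul, hρr, hρw, one_mul, mul_one, hlρ, map_one] at hA
    rw [hA, map_one, mul_one] at hf
    have hw1 : w = 1 := hdis w (hjV _) (by
      rw [eq_inv_of_mul_eq_one_left hf]; exact Ct.inv_mem r.2.2)
    rw [hw1, one_mul] at hf
    have hxy : (![x, y] : Fin 2 → F) = 0 := by
      have h1 : eV.symm (.ofAdd ![x, y]) = 1 := Subtype.ext hw1
      rw [MulEquiv.map_eq_one_iff] at h1
      exact congrArg Multiplicative.toAdd h1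
    have hA' := congrArg (fun B : SL(2, F) => (B : Matrix (Fin 2) (Fin 2) F)) hA
    simp only [LocalEven.QdOver.sl2_val, Matrix.SpecialLinearGroup.coe_one] at hA'
    refine Prod.ext ?_ (Subtype.ext hf)
    show LocalEven.QdOver.mk a b c d x y hh = 1
    rw [← LocalEven.QdOver.mk_one]
    exact LocalEven.QdOver.mk_congr (by simpa using congrFun (congrFun hA' 0) 0)
      (by simpa using congrFun (congrFun hA' 0) 1) (by simpa using congrFun (congrFun hA' 1) 0)
      (by simpa using congrFun (congrFun hA' 1) 1) (by simpa using congrFun hxy 0)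
      (by simpa using congrFun hxy 1)
  have hsur : Function.Surjective f := by
    intro g
    have hr : g * (l (ρ g))⁻¹ ∈ R := by
      rw [← hkR, map_mul, map_inv, hlρ, mul_inv_cancel]
    obtain ⟨v, hv, r, hr₁, e⟩ := hRdec _ hr
    obtain ⟨w, rfl⟩ := hjsur v hv
    refine ⟨(LocalEven.QdOver.mk _ _ _ _ (w.toAdd 0) (w.toAdd 1)
      (LocalEven.QdOver.sl2_eta (ρ g)), ⟨r, hr₁⟩), ?_⟩
    show θ₀ _ * r = g
    rw [hθmk]
    have e1 : (![w.toAdd 0, w.toAdd 1] : Fin 2 → F) = w.toAdd := by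
      funext i; fin_cases i <;> rfl
    have e2 : LocalEven.QdOver.sl2 _ _ _ _ (LocalEven.QdOver.sl2_eta (ρ g)) = ρ g :=
      Subtype.ext (Matrix.eta_fin_two _).symm
    have e3 : r * l (ρ g) = l (ρ g) * r := mem_centralizer_iff.mp (l₀ (ρ g)).2.2 r hr₁
    rw [e1, e2, ofAdd_toAdd, mul_assoc, ← e3, ← mul_assoc,
      ← e, inv_mul_cancel_right]
  refine ⟨R₁, MulEquiv.ofBijective f ⟨hinj, hsur⟩, inf_le_left, fun r => ?_⟩
  show θ 1 * (r : G) = r
  rw [map_one, one_mul]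

end CfsgLib.LocalEven50
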