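import Cfsg.Agent.LocalEven50.PSL2Gen
import Cfsg.Agent.LocalEven.QdOver

/-!
# The Sylow subgroup of `Qd(q)`

Its noncommuting pairs have central centraliser, which controls endomorphisms of `Unip × R`.
-/

namespace CfsgLib.LocalEven50

open Subgroup Cfsg
open scoped MatrixGroups commutatorElement
open CfsgLib.LocalEven.QdOver (mk tr block)

variable (F : Type*) [Field F]

/-- The upper unitriangular subgroup of `Qd(F)`. -/
def qdUnip : Subgroup ↥(qdOver F) := (upperHom F).range.comap block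

theorem exists_of_mem_qdUnip {u : ↥(qdOver F)} (hu : u ∈ qdUnip F) :
    ∃ s x y, u = mk (1 : F) s 0 1 x y (by ring) := by
  obtain ⟨a, b, c, d, x, y, h, rfl⟩ := LocalEven.QdOver.exists_eq_mk u
  obtain ⟨s, hs⟩ := hu
  rw [LocalEven.QdOver.block_mk] at hs
  have hs' := congrArg (fun g : SL(2, F) => (g : Matrix (Fin 2) (Fin 2) F)) hs
  change !![1, s.toAdd; 0, 1] = !![a, b; c, d] at hs'
  exact ⟨s.toAdd, x, y, LocalEven.QdOver.mk_congr (by simpa using (congrFun (congrFun hs' 0) 0).symm)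
    (by simpa using (congrFun (congrFun hs' 0) 1).symm)
    (by simpa using (congrFun (congrFun hs' 1) 0).symm)
    (by simpa using (congrFun (congrFun hs' 1) 1).symm) rfl rfl⟩

theorem mk_mem_qdUnip (s x y : F) : mk (1 : F) s 0 1 x y (by ring) ∈ qdUnip F := by
  refine ⟨.ofAdd s, ?_⟩
  rw [LocalEven.QdOver.block_mk]
  apply Subtype.ext
  rw [LocalEven.QdOver.sl2_val]
  rfl

theorem commute_unip_iff (s x y s' x' y' : F) :
    Commute (mk (1 : F) s 0 1 x y (by ring)) (mk (1 : F) s' 0 1 x' y' (by ring)) ↔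
      s * y' = s' * y := by
  rw [commute_iff_eq, LocalEven.QdOver.mk_mul, LocalEven.QdOver.mk_mul]
  constructor
  · intro h
    linear_combination (LocalEven.QdOver.mk_inj h).2.2.2.2.1
  · intro h
    exact LocalEven.QdOver.mk_congr (by ring) (by ring) (by ring) (by ring)
      (by linear_combination h) (by ring)

theorem central_of_commute_pair {a b c : ↥(qdUnip F)} (hab : ¬ Commute a b) (hca : Commute c a)
    (hcb : Commute c b) : ∀ d : ↥(qdUnip F), Commute c d := by
  obtain ⟨sa, xa, ya, ea⟩ := exists_of_mem_qdUnip F a.2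
  obtain ⟨sb, xb, yb, eb⟩ := exists_of_mem_qdUnip F b.2
  obtain ⟨s, x, y, ec⟩ := exists_of_mem_qdUnip F c.2
  have hca' := hca.map (qdUnip F).subtype
  have hcb' := hcb.map (qdUnip F).subtype
  rw [coe_subtype, ec, ea, commute_unip_iff] at hca'
  rw [coe_subtype, ec, eb, commute_unip_iff] at hcb'
  have hD : sa * yb - sb * ya ≠ 0 := fun h => hab (by
    refine Subtype.ext ?_
    show (a : ↥(qdOver F)) * b = b * a
    rw [ea, eb]
    exact (commute_unip_iff F _ _ _ _ _ _).mpr (sub_eq_zero.mp h))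
  have hs : s = 0 := by
    have : s * (sa * yb - sb * ya) = 0 := by linear_combination sa * hcb' - sb * hca'
    exact (mul_eq_zero.mp this).resolve_right hD
  have hy : y = 0 := by
    have : y * (sa * yb - sb * ya) = 0 := by linear_combination ya * hcb' - yb * hca'
    exact (mul_eq_zero.mp this).resolve_right hD
  intro d
  obtain ⟨sd, xd, yd, ed⟩ := exists_of_mem_qdUnip F d.2
  refine Subtype.ext ?_
  show (c : ↥(qdOver F)) * d = d * c
  rw [ec, ed]
  exact (commute_unip_iff F _ _ _ _ _ _).mpr (by rw [hs, hy]; ring)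

/-- An endomorphism of `Unip × R` sending some derived element of `R` outside the derived part of
`R` sends the derived elements of `Unip` into it. -/
theorem map_commutator_qdUnip {R : Type*} [Group R]
    (θ : ↥(qdUnip F) × R →* ↥(qdUnip F) × R) {r r' : R}
    (hdis : ∀ a b : R, θ (1, ⁅r, r'⁆) ≠ (1, ⁅a, b⁆)) (u u' : ↥(qdUnip F)) :
    ∃ a b : R, θ (⁅u, u'⁆, 1) = (1, ⁅a, b⁆) := by
  have hcomm : ∀ z w : ↥(qdUnip F) × R, ⁅z, w⁆ = (⁅z.1, w.1⁆, ⁅z.2, w.2⁆) := fun _ _ => rfl
  have hnc : ¬ Commute (θ (1, r)).1 (θ (1, r')).1 := fun h => hdis (θ (1, r)).2 (θ (1, r')).2 (by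
    rw [show ((1 : ↥(qdUnip F)), ⁅r, r'⁆) = ⁅((1 : ↥(qdUnip F)), r), ((1 : ↥(qdUnip F)), r')⁆ by
      rw [hcomm, commutatorElement_self], map_commutatorElement, hcomm,
      commutatorElement_eq_one_iff_mul_comm.mpr h.eq])
  have hcen : ∀ v : ↥(qdUnip F), ∀ d, Commute (θ (v, 1)).1 d := fun v =>
    central_of_commute_pair F hnc
      ((((Commute.one_right v).prod (Commute.one_left r)).map θ).map (MonoidHom.fst _ _))
      ((((Commute.one_right v).prod (Commute.one_left r')).map θ).map (MonoidHom.fst _ _))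
  refine ⟨(θ (u, 1)).2, (θ (u', 1)).2, ?_⟩
  rw [show ((⁅u, u'⁆ : ↥(qdUnip F)), (1 : R)) = ⁅(u, (1 : R)), (u', (1 : R))⁆ by
    rw [hcomm, commutatorElement_self], map_commutatorElement, hcomm,
    commutatorElement_eq_one_iff_mul_comm.mpr (hcen u _).eq]

end CfsgLib.LocalEven50
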