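import Mathlib

/-! A linear space of matrices as large as the underlying space, closed under `b ↦ a * b * a`, in which
all non-zero matrices are invertible, is commutative. -/

set_option autoImplicit false

namespace CfsgLib.LocalEven50

open Matrix Polynomial

variable {ι : Type*} [Fintype ι] [DecidableEq ι] {F : Type*} [Field F]

/-- The determinant of a matrix with entries of degree at most one has degree at most its size. -/
theorem totalDegree_det_le (M : Matrix ι ι (MvPolynomial ι F))
    (hM : ∀ i j, (M i j).totalDegree ≤ 1) : M.det.totalDegree ≤ Fintype.card ι := by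
  rw [Matrix.det_apply]
  refine MvPolynomial.totalDegree_finsetSum_le fun σ _ => ?_
  rw [Units.smul_def, zsmul_eq_mul]
  refine (MvPolynomial.totalDegree_mul _ _).trans ?_
  have h1 : ((Equiv.Perm.sign σ : ℤ) : MvPolynomial ι F).totalDegree = 0 := by
    rw [← map_intCast (MvPolynomial.C (σ := ι) (R := F)), MvPolynomial.totalDegree_C]
  rw [h1, zero_add]
  refine (MvPolynomial.totalDegree_finset_prod _ _).trans ?_
  exact (Finset.sum_le_sum fun i _ => hM _ i).trans (by simp)

variable [Finite F]

/-- Commutativity of a spread set closed under `b ↦ a * b * a`. -/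
theorem commute_of_spread (S : Submodule F (Matrix ι ι F))
    (hdim : Module.finrank F S = Fintype.card ι) (h1 : (1 : Matrix ι ι F) ∈ S)
    (hU : ∀ a ∈ S, ∀ b ∈ S, a * b * a ∈ S) (hdet : ∀ a ∈ S, a ≠ 0 → a.det ≠ 0) :
    ∀ a ∈ S, ∀ b ∈ S, a * b = b * a := by
  classical
  haveI := Fintype.ofFinite F
  set e := (Module.finBasisOfFinrankEq F S hdim).reindex (Fintype.equivFin ι).symm
  set s : ι → Matrix ι ι F := fun i => (e i : Matrix ι ι F) with hsdef
  let R := MvPolynomial ι F
  let K := FractionRing R
  let φ : R →+* K := algebraMap R K
  have hφ : Function.Injective φ := IsFractionRing.injective R K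
  let XR : Matrix ι ι R := fun i j => ∑ k, MvPolynomial.X k * MvPolynomial.C (s k i j)
  let XK : Matrix ι ι K := XR.map φ
  let ψ : F →+* K := φ.comp MvPolynomial.C
  let sK : ι → Matrix ι ι K := fun k => (s k).map ψ
  let SK : Submodule K (Matrix ι ι K) := Submodule.span K (Set.range sK)
  let x : ι → K := fun k => φ (MvPolynomial.X k)
  have hXK : XK = ∑ k, x k • sK k := by
    ext i j
    show φ (XR i j) = _
    simp [XR, sK, x, ψ, Matrix.sum_apply, map_sum]
  have hmap : ∀ b ∈ S, b.map ψ ∈ SK := by
    intro b hb
    have : b = ∑ k, (e.repr ⟨b, hb⟩ k) • s k := by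
      have h := congrArg Subtype.val (e.sum_repr ⟨b, hb⟩)
      rw [AddSubmonoidClass.coe_finsetSum] at h
      simpa only [SetLike.val_smul, hsdef] using h.symm
    have h' : b.map ψ = ∑ k, ψ (e.repr ⟨b, hb⟩ k) • sK k := by
      conv_lhs => rw [this]
      ext i j
      simp [sK, Matrix.sum_apply, map_sum, map_mul]
    rw [h']
    exact Submodule.sum_mem _ fun k _ => Submodule.smul_mem _ _ (Submodule.subset_span ⟨k, rfl⟩)
  have hlin : ∀ a ∈ S, ∀ b ∈ S, ∀ c ∈ S, a * b * c + c * b * a ∈ S := by
    intro a ha b hb c hc
    have h := hU _ (add_mem ha hc) b hb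
    have e' : (a + c) * b * (a + c) - a * b * a - c * b * c = a * b * c + c * b * a := by
      simp only [add_mul, mul_add]; abel
    rw [← e']
    exact sub_mem (sub_mem h (hU a ha b hb)) (hU c hc b hb)
  -- the generic element stays in the span
  have hquad : ∀ (l : List ι), l.Nodup → ∀ B ∈ SK,
      (l.map fun k => x k • sK k).sum * B * (l.map fun k => x k • sK k).sum ∈ SK := by
    intro l
    induction l with
    | nil => intro _ B _; simp
    | cons k t ih =>
      intro hnd B hB
      rw [List.nodup_cons] at hnd
      simp only [List.map_cons, List.sum_cons]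
      set T := (t.map fun k => x k • sK k).sum with hT
      have hkk : sK k * B * sK k ∈ SK := by
        induction hB using Submodule.span_induction with
        | mem z hz =>
          obtain ⟨m, rfl⟩ := hz
          have := hmap _ (hU _ (e k).2 _ (e m).2)
          rw [Matrix.map_mul, Matrix.map_mul] at this
          exact this
        | zero => simp
        | add y z _ _ hy hz => rw [mul_add, add_mul]; exact add_mem hy hz
        | smul c z _ hz => rw [mul_smul_comm, smul_mul_assoc]; exact SK.smul_mem c hz
      have hkm : ∀ m, sK k * B * sK m + sK m * B * sK k ∈ SK := by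
        intro m
        clear hkk
        induction hB using Submodule.span_induction with
        | mem z hz =>
          obtain ⟨i, rfl⟩ := hz
          have := hmap _ (hlin _ (e k).2 _ (e i).2 _ (e m).2)
          rw [Matrix.map_add _ (map_add ψ), Matrix.map_mul, Matrix.map_mul, Matrix.map_mul,
            Matrix.map_mul] at this
          exact this
        | zero => simp
        | add y z _ _ hy hz =>
          have e' : sK k * (y + z) * sK m + sK m * (y + z) * sK k =
              (sK k * y * sK m + sK m * y * sK k) + (sK k * z * sK m + sK m * z * sK k) := by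
            simp only [mul_add, add_mul]; abel
          rw [e']; exact add_mem hy hz
        | smul c z _ hz =>
          rw [mul_smul_comm, smul_mul_assoc, mul_smul_comm, smul_mul_assoc, ← smul_add]
          exact SK.smul_mem c hz
      have hkT : x k • sK k * B * T + T * B * (x k • sK k) ∈ SK := by
        clear ih hnd
        rw [hT]
        clear hT T
        induction t with
        | nil => simp
        | cons m u ih2 =>
          simp only [List.map_cons, List.sum_cons]
          set U' := (u.map fun k => x k • sK k).sum
          have e' : x k • sK k * B * (x m • sK m + U') + (x m • sK m + U') * B * (x k • sK k) =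
              (x k * x m) • (sK k * B * sK m + sK m * B * sK k) +
                (x k • sK k * B * U' + U' * B * (x k • sK k)) := by
            simp only [mul_add, add_mul, smul_mul_assoc, mul_smul_comm, smul_smul, smul_add,
              mul_comm (x m) (x k)]
            abel
          rw [e']
          exact add_mem (SK.smul_mem _ (hkm m)) ih2
      have e' : (x k • sK k + T) * B * (x k • sK k + T) =
          (x k * x k) • (sK k * B * sK k) + (x k • sK k * B * T + T * B * (x k • sK k)) +
            T * B * T := by
        simp only [mul_add, add_mul, smul_mul_assoc, mul_smul_comm, smul_add, smul_smul]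
        abel
      rw [e']
      exact add_mem (add_mem (SK.smul_mem _ hkk) hkT) (ih hnd.2 B hB)
  have hX2 : ∀ B ∈ SK, XK * B * XK ∈ SK := by
    intro B hB
    have := hquad Finset.univ.toList (Finset.nodup_toList _) B hB
    rwa [Finset.sum_map_toList, ← hXK] at this
  have hXmem : XK ∈ SK := by
    rw [hXK]
    exact Submodule.sum_mem _ fun k _ => Submodule.smul_mem _ _ (Submodule.subset_span ⟨k, rfl⟩)
  have hpow : ∀ j : ℕ, XK ^ j ∈ SK ∧ XK ^ (j + 1) ∈ SK := by
    intro j
    induction j with
    | zero =>
      refine ⟨?_, by simpa using hXmem⟩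
      have h := hmap 1 h1
      rw [Matrix.map_one _ (map_zero ψ) (map_one ψ)] at h
      simpa using h
    | succ j ih =>
      refine ⟨ih.2, ?_⟩
      have := hX2 _ ih.1
      rwa [← pow_succ', ← pow_succ] at this
  have hint : IsIntegral K XK := Matrix.isIntegral XK
  set d := (minpoly K XK).natDegree with hd
  -- the minimal polynomial of the generic element has full degree
  have hdN : Fintype.card ι ≤ d := by
    by_contra hlt
    push Not at hlt
    have hdvd : minpoly K XK ∣ (XR.charpoly).map φ := by
      rw [← Matrix.charpoly_map]
      exact Matrix.minpoly_dvd_charpoly XK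
    obtain ⟨μ, hμ⟩ := IsIntegrallyClosed.eq_map_mul_C_of_dvd K XR.charpoly_monic hdvd
    rw [(minpoly.monic hint).leadingCoeff, C_1, mul_one] at hμ
    have hμm : μ.Monic := Polynomial.monic_of_injective hφ (by rw [hμ]; exact minpoly.monic hint)
    have hμd : μ.natDegree = d := by rw [hd, ← hμ, natDegree_map_eq_of_injective hφ]
    have hμdvd : μ ∣ XR.charpoly := by
      rw [← Polynomial.map_dvd_map φ hφ hμm, hμ]
      exact hdvd
    obtain ⟨q, hq⟩ := hμdvd
    have hqm : q.Monic := Polynomial.Monic.of_mul_monic_left hμm (hq ▸ XR.charpoly_monic)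
    have hqd : 0 < q.natDegree := by
      have h := congrArg natDegree hq
      rw [Matrix.charpoly_natDegree_eq_dim, hμm.natDegree_mul hqm, hμd] at h
      omega
    have hspec : ∀ v : ι → F, XR.map (MvPolynomial.eval v) = ∑ k, v k • s k := by
      intro v; ext i j; show MvPolynomial.eval v (XR i j) = _; simp [XR, Matrix.sum_apply]
    have hprod : μ.coeff 0 * q.coeff 0 = (-1) ^ Fintype.card ι * XR.det := by
      rw [← Polynomial.mul_coeff_zero, ← hq, Matrix.det_eq_sign_charpoly_coeff XR, ← mul_assoc,
        ← mul_pow, neg_one_mul, neg_neg, one_pow, one_mul]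
    have hne : ∀ v : ι → F, v ≠ 0 → MvPolynomial.eval v XR.det ≠ 0 := by
      intro v hv
      rw [RingHom.map_det, RingHom.mapMatrix_apply, hspec]
      refine hdet _ (Submodule.sum_mem _ fun k _ => S.smul_mem _ (e k).2) fun h0 => hv ?_
      have h0' : ∑ k, v k • e k = 0 := Subtype.ext (by
        rw [AddSubmonoidClass.coe_finsetSum]; simpa only [SetLike.val_smul, hsdef, ZeroMemClass.coe_zero] using h0)
      funext k
      exact Fintype.linearIndependent_iff.mp e.linearIndependent v h0' k
    have hzero : ∀ g : R[X], g.Monic → 0 < g.natDegree → g ∣ XR.charpoly →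
        MvPolynomial.eval (0 : ι → F) (g.coeff 0) = 0 := by
      intro g hg hgd hdv
      have h := Polynomial.map_dvd (MvPolynomial.eval (0 : ι → F)) hdv
      have hX : XR.charpoly.map (MvPolynomial.eval (0 : ι → F)) = X ^ Fintype.card ι := by
        rw [← Matrix.charpoly_map, hspec]; simp
      rw [hX] at h
      obtain ⟨n, -, hn⟩ := (dvd_prime_pow Polynomial.prime_X _).mp h
      have hn' := natDegree_eq_of_degree_eq (degree_eq_degree_of_associated hn)
      rw [hg.natDegree_map, natDegree_X_pow] at hn'
      have hX' : X ∣ g.map (MvPolynomial.eval (0 : ι → F)) :=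
        (dvd_pow_self X (by omega)).trans hn.symm.dvd
      rwa [X_dvd_iff, coeff_map] at hX'
    have hd0 : 0 < d := by
      haveI : Nonempty ι := Fintype.card_pos_iff.mp (by omega)
      exact minpoly.natDegree_pos hint
    have hμ0 := hzero μ hμm (by omega) ⟨q, hq⟩
    have hq0 := hzero q hqm hqd ⟨μ, by rw [hq, mul_comm]⟩
    have hdet0 : XR.det ≠ 0 := fun h => by
      obtain ⟨k⟩ := Fintype.card_pos_iff.mp (show 0 < Fintype.card ι by omega)
      exact hne (Pi.single k 1) (by simp) (by rw [h, map_zero])
    have hpne : (-1 : R) ^ Fintype.card ι * XR.det ≠ 0 :=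
      mul_ne_zero (pow_ne_zero _ (neg_ne_zero.mpr one_ne_zero)) hdet0
    rw [← hprod] at hpne
    have hqpos : 0 < (q.coeff 0).totalDegree := by
      by_contra h0
      rw [not_lt, Nat.le_zero, MvPolynomial.totalDegree_eq_zero_iff_eq_C] at h0
      have : MvPolynomial.coeff 0 (q.coeff 0) = 0 := by
        rw [h0] at hq0; simpa using hq0
      exact right_ne_zero_of_mul hpne (by rw [h0, this, map_zero])
    have hdeg : (μ.coeff 0).totalDegree < Fintype.card ι := by
      have h := MvPolynomial.totalDegree_mul_of_isDomain (left_ne_zero_of_mul hpne)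
        (right_ne_zero_of_mul hpne)
      have hXd : ∀ i j, (XR i j).totalDegree ≤ 1 := fun i j =>
        MvPolynomial.totalDegree_finsetSum_le fun k _ => by
          refine (MvPolynomial.totalDegree_mul _ _).trans ?_
          simp [MvPolynomial.totalDegree_C]
      have h2 : ((-1 : R) ^ Fintype.card ι * XR.det).totalDegree ≤ Fintype.card ι := by
        rcases neg_one_pow_eq_or R (Fintype.card ι) with h' | h' <;> rw [h']
        · simpa using totalDegree_det_le XR hXd
        · rw [neg_one_mul]; exact (MvPolynomial.totalDegree_neg _).le.trans (totalDegree_det_le XR hXd)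
      rw [← hprod, h] at h2
      omega
    obtain ⟨p, hp⟩ := CharP.exists F
    haveI := hp
    haveI : Fact p.Prime := ⟨CharP.char_is_prime F p⟩
    have hcw := char_dvd_card_solutions p hdeg
    have hone : Fintype.card { v : ι → F // MvPolynomial.eval v (μ.coeff 0) = 0 } = 1 := by
      refine Fintype.card_eq_one_iff.mpr ⟨⟨0, hμ0⟩, fun v => Subtype.ext ?_⟩
      by_contra hv
      have h := congrArg (MvPolynomial.eval v.1) hprod
      rw [map_mul, v.2, zero_mul, map_mul] at h
      rcases mul_eq_zero.mp h.symm with h' | h'
      · simp at h'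
      · exact hne v.1 hv h'
    rw [hone, Nat.dvd_one] at hcw
    exact (Fact.out : p.Prime).ne_one hcw
  -- the powers of the generic element span everything
  have hspan : Submodule.span K (Set.range fun i : Fin d => XK ^ (i : ℕ)) = SK := by
    refine Submodule.eq_of_le_of_finrank_le
      (Submodule.span_le.mpr (Set.range_subset_iff.mpr fun i => (hpow i).1)) ?_
    rw [finrank_span_eq_card (linearIndependent_pow XK), Fintype.card_fin]
    exact le_trans (finrank_range_le_card sK) hdN
  have hcomm : ∀ m, sK m * XK = XK * sK m := by
    intro m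
    have hm : sK m ∈ SK := Submodule.subset_span ⟨m, rfl⟩
    rw [← hspan] at hm
    generalize sK m = y at hm ⊢
    induction hm using Submodule.span_induction with
    | mem z hz => obtain ⟨i, rfl⟩ := hz; exact (Commute.pow_self XK i).eq
    | zero => simp
    | add y z _ _ hy hz => rw [add_mul, mul_add, hy, hz]
    | smul c z _ hz => rw [smul_mul_assoc, mul_smul_comm, hz]
  have hss : ∀ m k, s m * s k = s k * s m := by
    intro m k
    have hR : (s m).map MvPolynomial.C * XR = XR * (s m).map MvPolynomial.C := by
      apply Matrix.map_injective hφ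
      show (((s m).map MvPolynomial.C) * XR).map φ = (XR * (s m).map MvPolynomial.C).map φ
      rw [Matrix.map_mul, Matrix.map_mul, Matrix.map_map]
      exact hcomm m
    have h := congrArg (fun M => Matrix.map M (MvPolynomial.eval (Pi.single k 1 : ι → F))) hR
    have hk : XR.map (MvPolynomial.eval (Pi.single k 1 : ι → F)) = s k := by
      ext i j; show MvPolynomial.eval _ (XR i j) = _; simp [XR, Pi.single_apply]
    have hm' : ((s m).map MvPolynomial.C).map (MvPolynomial.eval (Pi.single k 1 : ι → F)) = s m := by
      ext i j; simp [Matrix.map_apply]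
    simpa only [Matrix.map_mul, hk, hm'] using h
  intro a ha b hb
  have hsub : ∀ c ∈ S, c ∈ Submodule.span F (Set.range s) := by
    intro c hc
    have h := congrArg Subtype.val (e.sum_repr ⟨c, hc⟩)
    rw [AddSubmonoidClass.coe_finsetSum] at h
    rw [← show _ = c from h]
    exact Submodule.sum_mem _ fun k _ =>
      Submodule.smul_mem _ _ (Submodule.subset_span ⟨k, rfl⟩)
  have hgen : ∀ c ∈ Submodule.span F (Set.range s), ∀ m, s m * c = c * s m := by
    intro c hc m
    induction hc using Submodule.span_induction with
    | mem y hy => obtain ⟨k, rfl⟩ := hy; exact hss m k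
    | zero => simp
    | add y z _ _ hy hz => rw [add_mul, mul_add, hy, hz]
    | smul c z _ hz => rw [smul_mul_assoc, mul_smul_comm, hz]
  have hall : ∀ c ∈ Submodule.span F (Set.range s), c * b = b * c := by
    intro c hc
    induction hc using Submodule.span_induction with
    | mem z hz => obtain ⟨m, rfl⟩ := hz; exact hgen b (hsub b hb) m
    | zero => simp
    | add y z _ _ hy hz => rw [add_mul, mul_add, hy, hz]
    | smul c z _ hz => rw [smul_mul_assoc, mul_smul_comm, hz]
  exact hall a (hsub a ha)

end CfsgLib.LocalEven50
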