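import Cfsg.Agent.LocalEven50.SpreadField

/-! Two opposite spread families of elementary abelian quadratic endomorphisms give a coordinate system
over a finite field. -/

set_option autoImplicit false

namespace CfsgLib.LocalEven50

variable {p : ℕ} [Fact p.Prime]

/-- A subgroup of endomorphisms forming a spread set closed under `b ↦ a * b * a` is commutative. -/
theorem endo_commute_of_spread' {U : Type*} [AddCommGroup U] [Finite U] [Module (ZMod p) U]
    (S : AddSubgroup (AddMonoid.End U)) (h1 : (1 : AddMonoid.End U) ∈ S)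
    (hcard : Nat.card S = Nat.card U) (hU : ∀ a ∈ S, ∀ b ∈ S, a * b * a ∈ S)
    (hunit : ∀ a ∈ S, a ≠ 0 → ∃ b, a * b = 1 ∧ b * a = 1) :
    ∀ a ∈ S, ∀ b ∈ S, a * b = b * a := by
  classical
  haveI : Module.Finite (ZMod p) U := Module.Finite.of_finite (R := ZMod p)
  let B : Module.Basis (Fin (Module.finrank (ZMod p) U)) (ZMod p) U :=
    Module.finBasis (ZMod p) U
  let toLin : AddMonoid.End U ≃+* Module.End (ZMod p) U :=
    { toFun := fun f => AddMonoidHom.toZModLinearMap p f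
      invFun := fun f => f.toAddMonoidHom
      left_inv := fun _ => rfl
      right_inv := fun _ => rfl
      map_mul' := fun _ _ => rfl
      map_add' := fun _ _ => rfl }
  let Θ : AddMonoid.End U ≃+* Matrix _ _ (ZMod p) :=
    toLin.trans (LinearMap.toMatrixAlgEquiv B).toRingEquiv
  let S' : Submodule (ZMod p) (Matrix (Fin (Module.finrank (ZMod p) U))
      (Fin (Module.finrank (ZMod p) U)) (ZMod p)) :=
    AddSubgroup.toZModSubmodule p (S.map Θ.toAddEquiv.toAddMonoidHom)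
  have hmem : ∀ c, c ∈ S' ↔ ∃ a ∈ S, Θ a = c := fun c => by
    simp [S', AddSubgroup.mem_map]
  have hdim : Module.finrank (ZMod p) S' = Fintype.card (Fin (Module.finrank (ZMod p) U)) := by
    have h : Nat.card S' = Nat.card U := by
      rw [← hcard]
      exact (Nat.card_congr
        (S.equivMapOfInjective Θ.toAddEquiv.toAddMonoidHom Θ.injective).toEquiv).symm
    rw [Module.natCard_eq_pow_finrank (K := ZMod p) (V := U),
      Module.natCard_eq_pow_finrank (K := ZMod p) (V := S')] at h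
    rw [Fintype.card_fin]
    rw [Nat.card_zmod] at h
    exact Nat.pow_right_injective (Fact.out : p.Prime).two_le h
  have key := commute_of_spread S' hdim ((hmem _).mpr ⟨1, h1, map_one Θ⟩)
    (fun a ha b hb => by
      obtain ⟨x, hx, rfl⟩ := (hmem a).mp ha
      obtain ⟨y, hy, rfl⟩ := (hmem b).mp hb
      exact (hmem _).mpr ⟨_, hU x hx y hy, by rw [map_mul, map_mul]⟩)
    (fun a ha h0 => by
      obtain ⟨x, hx, rfl⟩ := (hmem a).mp ha
      obtain ⟨b, hb, -⟩ := hunit x hx fun h => h0 (by rw [h, map_zero])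
      have h2 := congrArg Matrix.det (show Θ x * Θ b = 1 by rw [← map_mul, hb, map_one])
      rw [Matrix.det_mul, Matrix.det_one] at h2
      exact left_ne_zero_of_mul (h2 ▸ one_ne_zero))
  intro a ha b hb
  apply Θ.injective
  rw [map_mul, map_mul]
  exact key _ ((hmem _).mpr ⟨a, ha, rfl⟩) _ ((hmem _).mpr ⟨b, hb, rfl⟩)

/-- A spread set in an elementary abelian group closed under `b ↦ a * b * a` is commutative. -/
theorem endo_commute_of_spread {U : Type*} [AddCommGroup U] [Finite U] (hp : ∀ u : U, p • u = 0)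
    (S : AddSubgroup (AddMonoid.End U)) (h1 : (1 : AddMonoid.End U) ∈ S)
    (hcard : Nat.card S = Nat.card U) (hU : ∀ a ∈ S, ∀ b ∈ S, a * b * a ∈ S)
    (hunit : ∀ a ∈ S, a ≠ 0 → ∃ b, a * b = 1 ∧ b * a = 1) :
    ∀ a ∈ S, ∀ b ∈ S, a * b = b * a :=
  @endo_commute_of_spread' p _ U _ _ (AddCommGroup.zmodModule hp) S h1 hcard hU hunit

/-- Commutative spread sets closed under `b ↦ a * b * a` are closed under products. -/
theorem endo_mul_mem_of_spread {U : Type*} [AddCommGroup U] [Finite U] (hp : ∀ u : U, p • u = 0)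
    (S : AddSubgroup (AddMonoid.End U)) (h1 : (1 : AddMonoid.End U) ∈ S)
    (hU : ∀ a ∈ S, ∀ b ∈ S, a * b * a ∈ S)
    (hunit : ∀ a ∈ S, a ≠ 0 → ∃ b, a * b = 1 ∧ b * a = 1)
    (hcomm : ∀ a ∈ S, ∀ b ∈ S, a * b = b * a) {a b : AddMonoid.End U} (ha : a ∈ S) (hb : b ∈ S) :
    a * b ∈ S := by
  classical
  haveI : Finite (AddMonoid.End U) := Finite.of_injective (fun f => (f : U → U)) DFunLike.coe_injective
  have hpE : ∀ f : AddMonoid.End U, p • f = 0 := fun f => AddMonoidHom.ext fun u => hp (f u)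
  rcases (Fact.out : p.Prime).eq_two_or_odd with h2 | hodd
  · -- every element is a square of an element of `S`
    have hsq : ∀ x ∈ S, x * x ∈ S := fun x hx => by simpa using hU x hx 1 h1
    let sq : S → S := fun x => ⟨_, hsq x.1 x.2⟩
    have hinj : Function.Injective sq := by
      rintro ⟨x, hx⟩ ⟨y, hy⟩ he
      have he' : x * x = y * y := congrArg Subtype.val he
      apply Subtype.ext
      show x = y
      by_contra hne
      obtain ⟨c, -, hc⟩ := hunit (x - y) (sub_mem hx hy) (sub_ne_zero.mpr hne)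
      have e : (x - y) * (x - y) = 0 := by
        have e1 : (x - y) * (x - y) = x * x + y * y - (x * y + y * x) := by
          simp only [mul_sub, sub_mul]; abel
        rw [e1, he', hcomm y hy x hx, ← two_nsmul, ← two_nsmul, ← h2, hpE, hpE, sub_zero]
      apply hne
      rw [← sub_eq_zero]
      calc x - y = c * (x - y) * (x - y) := by rw [hc, one_mul]
        _ = 0 := by rw [mul_assoc, e, mul_zero]
    obtain ⟨⟨c, hc⟩, hcb⟩ := (Finite.injective_iff_surjective.mp hinj) ⟨b, hb⟩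
    have hcb' : c * c = b := congrArg Subtype.val hcb
    rw [← hcb', ← mul_assoc, hcomm a ha c hc]
    exact hU c hc a ha
  · have h2 : a * b + a * b ∈ S := by
      have h := hU (a + 1) (add_mem ha h1) b hb
      have e : (a + 1) * b * (a + 1) - a * b * a - b = a * b + b * a := by
        simp only [add_mul, mul_add, one_mul, mul_one]; abel
      have h' : a * b + b * a ∈ S := e ▸ sub_mem (sub_mem h (hU a ha b hb)) hb
      rwa [hcomm b hb a ha] at h'
    obtain ⟨k, hk⟩ : ∃ k : ℕ, 2 * k = p + 1 := ⟨(p + 1) / 2, by omega⟩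
    have e : k • (a * b + a * b) = a * b := by
      rw [← two_nsmul, ← mul_nsmul, hk, add_nsmul, hpE, zero_add, one_nsmul]
    exact e ▸ nsmul_mem h2 k

/-- Coordinates for two opposite spread families. -/
theorem exists_field_coordinates {W : Type*} [AddCommGroup W] [Finite W] (hp : ∀ w : W, p • w = 0)
    (U U' : AddSubgroup W) (hc : U ⊓ U' = ⊥) (hs : U ⊔ U' = ⊤) (hne : U ≠ ⊥)
    (hcard : Nat.card U' = Nat.card U) (NA NB : AddSubgroup (AddMonoid.End W))
    (hA : ∀ n ∈ NA, (∀ u ∈ U, n u = 0) ∧ ∀ w, n w ∈ U)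
    (hAinj : ∀ n ∈ NA, n ≠ 0 → ∀ w ∈ U', n w = 0 → w = 0) (hAcard : Nat.card NA = Nat.card U)
    (hB : ∀ m ∈ NB, (∀ u ∈ U', m u = 0) ∧ ∀ w, m w ∈ U')
    (hBinj : ∀ m ∈ NB, m ≠ 0 → ∀ w ∈ U, m w = 0 → w = 0) (hBcard : Nat.card NB = Nat.card U)
    (hrel : ∀ m ∈ NB, m ≠ 0 → ∃ n ∈ NA, ∀ u ∈ U, n (m u) = u) :
    ∃ k, 1 ≤ k ∧ Nat.card U = p ^ k ∧ ∃ Ψ : W ≃+ (Fin 2 → GaloisField p k),
      (∀ n ∈ NA, ∃ s, ∀ w, Ψ (n w) = ![s * Ψ w 1, 0]) ∧
      (∀ m ∈ NB, ∃ t, ∀ w, Ψ (m w) = ![0, t * Ψ w 0]) ∧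
      (∀ s, ∃ n ∈ NA, ∀ w, Ψ (n w) = ![s * Ψ w 1, 0]) ∧
      (∀ t, ∃ m ∈ NB, ∀ w, Ψ (m w) = ![0, t * Ψ w 0]) := by
  classical
  have hdec : ∀ w : W, ∃ u ∈ U, ∃ u' ∈ U', u + u' = w := fun w =>
    AddSubgroup.mem_sup.mp (hs ▸ AddSubgroup.mem_top w)
  have hdisj : ∀ x ∈ U, x ∈ U' → x = 0 := fun x h1 h2 =>
    AddSubgroup.mem_bot.mp (hc ▸ AddSubgroup.mem_inf.mpr ⟨h1, h2⟩)
  have hU1 : 1 < Nat.card U := (AddSubgroup.one_lt_card_iff_ne_bot _).mpr hne
  obtain ⟨n0, hn0, hn00⟩ : ∃ n ∈ NA, n ≠ 0 := by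
    by_contra! h
    have : NA = ⊥ := (AddSubgroup.eq_bot_iff_forall _).mpr h
    rw [this, AddSubgroup.card_bot] at hAcard
    omega
  let f0 : U' →+ U := (n0.comp U'.subtype).codRestrict U fun w => (hA n0 hn0).2 _
  have hf0 : Function.Bijective f0 := by
    refine (Nat.bijective_iff_injective_and_card f0).mpr ⟨?_, hcard⟩
    rw [injective_iff_map_eq_zero]
    exact fun w hw => Subtype.ext (hAinj n0 hn0 hn00 w w.2 (congrArg Subtype.val hw))
  let e : U' ≃+ U := AddEquiv.ofBijective f0 hf0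
  let σ : ↥NA →+ AddMonoid.End U :=
    { toFun := fun n => AddMonoidHom.mk'
        (fun u => ⟨n.1 (e.symm u).1, (hA n.1 n.2).2 _⟩) fun u v => by
          apply Subtype.ext; simp
      map_zero' := by ext u; rfl
      map_add' := fun n n' => by ext u; rfl }
  let τ : ↥NB →+ AddMonoid.End U :=
    { toFun := fun m => AddMonoidHom.mk'
        (fun u => e ⟨m.1 u.1, (hB m.1 m.2).2 _⟩) fun u v => by
          rw [← map_add]; congr 1; apply Subtype.ext; simp
      map_zero' := by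
        ext u
        show ((e _ : U) : W) = _
        rw [show (⟨((0 : ↥NB) : AddMonoid.End W) u.1, (hB _ (0 : ↥NB).2).2 _⟩ : U') = 0 from
          Subtype.ext rfl, map_zero]; rfl
      map_add' := fun m m' => by
        ext u
        show ((e _ : U) : W) = ((e _ + e _ : U) : W)
        rw [← map_add]; rfl }
  have hσv : ∀ (n : NA) (u : U), (σ n u : W) = n.1 (e.symm u).1 := fun _ _ => rfl
  have hτv : ∀ (m : NB) (u : U), τ m u = e ⟨m.1 u.1, (hB m.1 m.2).2 _⟩ := fun _ _ => rfl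
  have hσi : Function.Injective σ := by
    rw [injective_iff_map_eq_zero]
    intro n hn
    apply Subtype.ext
    ext w
    obtain ⟨u, hu, u', hu', rfl⟩ := hdec w
    have h := congrArg (fun f : AddMonoid.End U => (f (e ⟨u', hu'⟩) : W)) hn
    simp only [hσv, AddEquiv.symm_apply_apply] at h
    rw [map_add, (hA n.1 n.2).1 u hu, zero_add, h]
    rfl
  have hτi : Function.Injective τ := by
    rw [injective_iff_map_eq_zero]
    intro m hm
    apply Subtype.ext
    ext w
    obtain ⟨u, hu, u', hu', rfl⟩ := hdec w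
    have h := congrArg (fun f : AddMonoid.End U => f ⟨u, hu⟩) hm
    rw [hτv] at h
    have h' := congrArg Subtype.val ((AddEquiv.map_eq_zero_iff e).mp h)
    rw [map_add, (hB m.1 m.2).1 u' hu', add_zero]
    exact h'
  set S := σ.range with hSdef
  set T := τ.range with hTdef
  have hScard : Nat.card S = Nat.card U := by
    rw [hSdef, ← Nat.card_congr (AddMonoidHom.ofInjective hσi).toEquiv, hAcard]
  have hTcard : Nat.card T = Nat.card U := by
    rw [hTdef, ← Nat.card_congr (AddMonoidHom.ofInjective hτi).toEquiv, hBcard]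
  haveI : Finite (AddMonoid.End U) := Finite.of_injective (fun f => (f : U → U)) DFunLike.coe_injective
  haveI : Nontrivial U := Finite.one_lt_card_iff_nontrivial.mp hU1
  have h10 : (1 : AddMonoid.End U) ≠ 0 := fun h => by
    obtain ⟨u, hu⟩ := exists_ne (0 : U)
    exact hu (congrArg (fun f : AddMonoid.End U => f u) h)
  have h1S : (1 : AddMonoid.End U) ∈ S := ⟨⟨n0, hn0⟩, by
    ext u
    rw [hσv]
    show ((f0 (e.symm u) : U) : W) = _
    rw [show f0 (e.symm u) = u from e.apply_symm_apply u]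
    rfl⟩
  -- inverses
  have hTinv : ∀ t ∈ T, t ≠ 0 → ∃ s ∈ S, s * t = 1 ∧ t * s = 1 := by
    rintro _ ⟨m, rfl⟩ hm0
    obtain ⟨n, hn, hnm⟩ := hrel m.1 m.2 fun h => hm0 (by
      rw [show m = 0 from Subtype.ext h, map_zero])
    refine ⟨σ ⟨n, hn⟩, ⟨_, rfl⟩, ?_, ?_⟩
    · ext u
      show (σ ⟨n, hn⟩ (τ m u) : W) = _
      rw [hσv, hτv, AddEquiv.symm_apply_apply]
      exact hnm u u.2
    · have hl : ∀ u, σ ⟨n, hn⟩ (τ m u) = u := fun u => Subtype.ext (by
        rw [hσv, hτv, AddEquiv.symm_apply_apply]; exact hnm u u.2)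
      have hsur : Function.Surjective (τ m) := Finite.injective_iff_surjective.mp
        fun x y h => by rw [← hl x, ← hl y, h]
      refine AddMonoidHom.ext fun v => ?_
      obtain ⟨u, rfl⟩ := hsur v
      show τ m (σ ⟨n, hn⟩ (τ m u)) = τ m u
      rw [hl]
  have hSinv : ∀ s ∈ S, s ≠ 0 → ∃ t ∈ T, s * t = 1 ∧ t * s = 1 := by
    intro s hs hs0
    choose g hg using hTinv
    let G : {t : T // t.1 ≠ 0} → {s : S // s.1 ≠ 0} := fun t =>
      ⟨⟨g t.1.1 t.1.2 t.2, (hg _ t.1.2 t.2).1⟩, fun h => h10 (by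
        rw [← (hg _ t.1.2 t.2).2.1, show g t.1.1 t.1.2 t.2 = 0 from h, zero_mul])⟩
    have hinj : Function.Injective G := by
      intro t t' h
      have h' : g t.1.1 t.1.2 t.2 = g t'.1.1 t'.1.2 t'.2 :=
        congrArg (fun x : {s : S // s.1 ≠ 0} => x.1.1) h
      apply Subtype.ext; apply Subtype.ext
      calc t.1.1 = t.1.1 * (g t'.1.1 t'.1.2 t'.2 * t'.1.1) := by
            rw [(hg _ t'.1.2 t'.2).2.1, mul_one]
        _ = t'.1.1 := by rw [← mul_assoc, ← h', (hg _ t.1.2 t.2).2.2, one_mul]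
    have hc' : Nat.card {t : T // t.1 ≠ 0} = Nat.card {s : S // s.1 ≠ 0} := by
      haveI := Fintype.ofFinite T
      haveI := Fintype.ofFinite S
      have hT' : ∀ {X : AddSubgroup (AddMonoid.End U)} [Fintype X],
          Nat.card {t : X // t.1 ≠ 0} = Nat.card X - 1 := by
        intro X _
        rw [Nat.card_eq_fintype_card, Nat.card_eq_fintype_card, Fintype.card_subtype_compl]
        congr 1
        exact Fintype.card_eq_one_iff.mpr ⟨⟨0, rfl⟩, fun x => Subtype.ext (Subtype.ext x.2)⟩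
      rw [hT', hT', hScard, hTcard]
    obtain ⟨t, ht⟩ := ((Nat.bijective_iff_injective_and_card G).mpr ⟨hinj, hc'⟩).2 ⟨⟨s, hs⟩, hs0⟩
    have ht' : g t.1.1 t.1.2 t.2 = s := congrArg (fun x : {s : S // s.1 ≠ 0} => x.1.1) ht
    obtain ⟨-, ha, hb⟩ := hg _ t.1.2 t.2
    rw [ht'] at ha hb
    exact ⟨t.1.1, t.1.2, ha, hb⟩
  have h1T : (1 : AddMonoid.End U) ∈ T := by
    obtain ⟨t, ht, h1, -⟩ := hSinv 1 h1S h10
    rw [one_mul] at h1
    exact h1 ▸ ht
  -- the identity of Hua
  have hhua : ∀ a ∈ S, ∀ b ∈ T, a * b * a ∈ S := by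
    intro a ha b hb
    rcases eq_or_ne a 0 with rfl | ha0
    · simp
    rcases eq_or_ne b 0 with rfl | hb0
    · simp
    obtain ⟨a', ha', haa, -⟩ := hSinv a ha ha0
    obtain ⟨b', hb', hbb, hbb'⟩ := hTinv b hb hb0
    rcases eq_or_ne (b' - a) 0 with h0 | h0
    · rw [← sub_eq_zero.mp h0]
      rw [hbb, one_mul]; exact hb'
    obtain ⟨c', hc', hcc, -⟩ := hSinv (b' - a) (sub_mem hb' ha) h0
    have e1 : c' - b * a * c' = b := by
      calc c' - b * a * c' = (1 - b * a) * c' := by rw [sub_mul, one_mul]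
        _ = b * (b' - a) * c' := by rw [mul_sub b, hbb']
        _ = b := by rw [mul_assoc, hcc, mul_one]
    have e2 : (a - a * b * a) * (a' + c') = 1 := by
      have : (a - a * b * a) * (a' + c') =
          a * a' - a * b * (a * a') + a * (c' - b * a * c') := by
        simp only [mul_add, sub_mul, mul_sub, mul_assoc]
      rw [this, e1, haa, mul_one, sub_add_cancel]
    obtain ⟨e', he', -, hde⟩ := hTinv (a' + c') (add_mem ha' hc') fun h => h10 (by
      rw [← e2, h, mul_zero])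
    have e3 : a - a * b * a = e' := by
      rw [← mul_one (a - a * b * a), ← hde, ← mul_assoc, e2, one_mul]
    have := sub_mem ha (e3 ▸ he' : a - a * b * a ∈ S)
    simpa using this
  have hTS : T = S :=
    AddSubgroup.eq_of_le_of_card_ge (fun b hb => by simpa using hhua 1 h1S b hb)
      (by rw [hScard, hTcard])
  have hU : ∀ a ∈ S, ∀ b ∈ S, a * b * a ∈ S := fun a ha b hb => hhua a ha b (hTS.symm ▸ hb)
  have hunit : ∀ a ∈ S, a ≠ 0 → ∃ b, a * b = 1 ∧ b * a = 1 := fun a ha h0 => by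
    obtain ⟨t, -, h⟩ := hSinv a ha h0; exact ⟨t, h⟩
  have hpU : ∀ u : U, p • u = 0 := fun u => Subtype.ext (by simpa using hp u.1)
  have hcomm := endo_commute_of_spread hpU S h1S hScard hU hunit
  -- the field
  let K : Subring (AddMonoid.End U) :=
    { carrier := (S : Set (AddMonoid.End U))
      mul_mem' := fun ha hb => endo_mul_mem_of_spread hpU S h1S hU hunit hcomm ha hb
      one_mem' := h1S
      add_mem' := fun ha hb => add_mem ha hb
      zero_mem' := zero_mem S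
      neg_mem' := fun ha => neg_mem ha }
  have hKf : IsField K := by
    refine ⟨⟨0, 1, fun h => h10 (congrArg Subtype.val h).symm⟩, fun a b => ?_, ?_⟩
    · exact Subtype.ext (hcomm _ a.2 _ b.2)
    · intro a ha
      obtain ⟨t, ht, h, -⟩ := hSinv a.1 a.2 fun h => ha (Subtype.ext h)
      exact ⟨⟨t, (hTS ▸ ht : t ∈ S)⟩, Subtype.ext h⟩
  letI : Field K := hKf.toField
  haveI : CharP K p := by
    refine (CharP.charP_iff_prime_eq_zero Fact.out).mpr (Subtype.ext ?_)
    show ((p : K) : AddMonoid.End U) = 0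
    rw [Subring.coe_natCast]
    ext u
    rw [← nsmul_one]
    exact congrArg Subtype.val (hpU ((1 : AddMonoid.End U) u))
  haveI := Fintype.ofFinite K
  obtain ⟨k, -, hk⟩ := FiniteField.card K p
  have hKU : Nat.card K = Nat.card U := hScard
  refine ⟨k, k.pos, by rw [← hKU, Nat.card_eq_fintype_card, hk], ?_⟩
  haveI := Fintype.ofFinite (GaloisField p k)
  let θ : GaloisField p k ≃+* K := FiniteField.ringEquivOfCardEq (by
    rw [hk, ← Nat.card_eq_fintype_card, GaloisField.card p k k.pos.ne'])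
  obtain ⟨u0, hu0⟩ := exists_ne (0 : U)
  have hev : Function.Bijective fun a : K => a.1 u0 := by
    refine (Nat.bijective_iff_injective_and_card _).mpr ⟨?_, hKU⟩
    intro a b h
    by_contra hne
    obtain ⟨c, -, hc⟩ := hunit (a.1 - b.1) (sub_mem a.2 b.2)
      (sub_ne_zero.mpr fun h' => hne (Subtype.ext h'))
    apply hu0
    calc u0 = c ((a.1 - b.1) u0) := (congrArg (fun f : AddMonoid.End U => f u0) hc).symm
      _ = 0 := by rw [show (a.1 - b.1) u0 = a.1 u0 - b.1 u0 from rfl, show a.1 u0 = b.1 u0 from h,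
                    sub_self, map_zero]
  have hθ : ∀ a b, θ (a + b) = θ a + θ b := fun a b => map_add θ a b
  let Φ : (Fin 2 → GaloisField p k) →+ W := AddMonoidHom.mk'
    (fun v => (((θ (v 0)).1 u0 : U) : W) + ((e.symm ((θ (v 1)).1 u0) : U') : W)) fun v w => by
      simp only [Pi.add_apply, hθ, Subring.coe_add]
      show (((θ (v 0)).1 u0 + (θ (w 0)).1 u0 : U) : W) +
        ((e.symm ((θ (v 1)).1 u0 + (θ (w 1)).1 u0) : U') : W) = _
      rw [map_add, AddSubgroup.coe_add, AddSubgroup.coe_add]; abel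
  have hΦ : Function.Bijective Φ := by
    constructor
    · rw [injective_iff_map_eq_zero]
      intro v hv
      have h0 : ((θ (v 0)).1 u0 : W) = 0 := hdisj _ ((θ (v 0)).1 u0).2 (by
        rw [eq_neg_of_add_eq_zero_left hv]; exact neg_mem (e.symm _).2)
      have h1 : ((e.symm ((θ (v 1)).1 u0) : U') : W) = 0 := by
        have hv' : ((θ (v 0)).1 u0 : W) + (e.symm ((θ (v 1)).1 u0) : U').1 = 0 := hv
        rwa [h0, zero_add] at hv'
      have hz : ∀ x, (θ x).1 u0 = 0 → x = 0 := fun x hx => θ.injective (by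
        rw [map_zero]; exact hev.1 (hx.trans (by simp)))
      funext i
      fin_cases i
      · exact hz _ (Subtype.ext h0)
      · exact hz _ ((AddEquiv.map_eq_zero_iff e.symm).mp (Subtype.ext h1))
    · intro w
      obtain ⟨u, hu, u', hu', rfl⟩ := hdec w
      obtain ⟨a, ha⟩ := hev.2 ⟨u, hu⟩
      obtain ⟨b, hb⟩ := hev.2 (e ⟨u', hu'⟩)
      refine ⟨![θ.symm a, θ.symm b], ?_⟩
      show ((θ (θ.symm a)).1 u0 : W) + ((e.symm ((θ (θ.symm b)).1 u0) : U') : W) = _
      rw [θ.apply_symm_apply, θ.apply_symm_apply, show a.1 u0 = _ from ha,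
        show b.1 u0 = _ from hb, e.symm_apply_apply]
  let Φ' := AddEquiv.ofBijective Φ hΦ
  have hactA : ∀ (n : NA) (s : GaloisField p k), σ n = (θ s).1 →
      ∀ w, Φ'.symm (n.1 w) = ![s * Φ'.symm w 1, 0] := by
    intro n s hns w
    obtain ⟨v, rfl⟩ := hΦ.2 w
    rw [show Φ'.symm (Φ v) = v from Φ'.symm_apply_apply v, AddEquiv.symm_apply_eq]
    show n.1 (((θ (v 0)).1 u0 : W) + ((e.symm ((θ (v 1)).1 u0) : U') : W)) =
      ((θ (s * v 1)).1 u0 : W) + ((e.symm ((θ 0).1 u0) : U') : W)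
    rw [map_add, (hA n.1 n.2).1 _ ((θ (v 0)).1 u0).2, zero_add, ← hσv, hns, map_mul, map_zero]
    simp
  have hactB : ∀ (m : NB) (t : GaloisField p k), τ m = (θ t).1 →
      ∀ w, Φ'.symm (m.1 w) = ![0, t * Φ'.symm w 0] := by
    intro m t hmt w
    obtain ⟨v, rfl⟩ := hΦ.2 w
    rw [show Φ'.symm (Φ v) = v from Φ'.symm_apply_apply v, AddEquiv.symm_apply_eq]
    show m.1 (((θ (v 0)).1 u0 : W) + ((e.symm ((θ (v 1)).1 u0) : U') : W)) =
      ((θ 0).1 u0 : W) + ((e.symm ((θ (t * v 0)).1 u0) : U') : W)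
    rw [map_add, (hB m.1 m.2).1 _ (e.symm _).2, add_zero, map_mul, map_zero]
    simp only [Subring.coe_mul, AddMonoid.End.coe_mul, Function.comp_apply, ← hmt, hτv,
      AddEquiv.symm_apply_apply]
    simp
  refine ⟨Φ'.symm, fun n hn => ?_, fun m hm => ?_, fun s => ?_, fun t => ?_⟩
  · exact ⟨θ.symm ⟨σ ⟨n, hn⟩, ⟨_, rfl⟩⟩, hactA ⟨n, hn⟩ _ (by rw [θ.apply_symm_apply])⟩
  · have hmem : τ ⟨m, hm⟩ ∈ S := hTS ▸ ⟨_, rfl⟩
    exact ⟨θ.symm ⟨τ ⟨m, hm⟩, hmem⟩, hactB ⟨m, hm⟩ _ (by rw [θ.apply_symm_apply])⟩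
  · obtain ⟨n, hn⟩ := (θ s).2
    exact ⟨n.1, n.2, hactA n s hn⟩
  · obtain ⟨m, hm⟩ : (θ t).1 ∈ T := hTS.symm ▸ (θ t).2
    exact ⟨m.1, m.2, hactB m t hm⟩

end CfsgLib.LocalEven50
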