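import Mathlib.GroupTheory.Transfer
import Cfsg.Agent.Subnormal.Join
import Cfsg.Agent.LocalStructure.Cores
import Cfsg.Agent.Coprime.Action
import Cfsg.Agent.S0542

/-!
# Joins of subnormal subgroups: `O^p` and Sylow subgroups (Wielandt)

* `pResOf_sup`: `O^p(⟨A, B⟩) = ⟨O^p(A), O^p(B)⟩` for subnormal `A`, `B`.
* `sup_inf_sylow`: `⟨A, B⟩ ∩ S = ⟨A ∩ S, B ∩ S⟩` for a Sylow subgroup `S`.
-/

namespace CfsgLib.LocalEven50

open Subgroup CfsgLib.LocalStructure
open scoped commutatorElement

universe u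

variable {G : Type u} [Group G] {p : ℕ}

/-- A `p`-element acting on an abelian `p'`-subgroup moves it only inside the subnormal subgroups
containing that element. -/
theorem commutator_zpowers_le_of_isSubnormal [Finite G] [Fact p.Prime] {R A : Subgroup G}
    [R.Normal] (hR : (Nat.card R).Coprime p) (hA : A.IsSubnormal) {a : G} (ha : a ∈ A) {k : ℕ}
    (hk : orderOf a = p ^ k) : ⁅R, zpowers a⁆ ≤ A := by
  have hN : zpowers a ≤ normalizer (R : Set G) := by
    rw [normalizer_eq_top]; exact le_top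
  have hcop : (Nat.card (zpowers a)).Coprime (Nat.card R) := by
    rw [Nat.card_zpowers, hk]; exact (hR.pow_right k).symm
  induction hA with
  | top => exact le_top
  | step H K hle _ hn ih =>
    have h1 := ih (hle ha)
    rw [← CfsgLib.Coprime.commutator_commutator_eq hN hcop]
    refine (commutator_mono h1 le_rfl).trans ?_
    have hKH : K ≤ normalizer (H : Set G) := (normal_subgroupOf_iff_le_normalizer hle).1 hn
    rw [commutator_le]
    intro x hx y hy
    have hyH : y ∈ H := zpowers_le.mpr ha hy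
    rw [commutatorElement_def]
    exact H.mul_mem ((mem_normalizer_iff.1 (hKH hx) y).1 hyH) (H.inv_mem hyH)

theorem isPGroup_map_of_pResOf_le [Finite G] [Fact p.Prime] {G' : Type*} [Group G'] [Finite G']
    (f : G →* G') {A : Subgroup G} (h : pResOf p A ≤ f.ker) : IsPGroup p (A.map f) :=
  pResOf_eq_bot.1 (by rw [← map_pResOf, Subgroup.map_eq_bot_iff]; exact h)

/-- A subnormal subgroup is generated by its `O^p` and its intersection with a Sylow subgroup. -/
theorem le_pResOf_sup_inf_sylow [Finite G] [Fact p.Prime] {A : Subgroup G} (hA : A.IsSubnormal)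
    (S : Sylow p G) : A ≤ pResOf p A ⊔ A ⊓ (S : Subgroup G) := by
  obtain ⟨Q, hQ⟩ := Cfsg.Agent.S0542.result p A hA S
  have h := congrArg (Subgroup.map A.subtype) (sylow_sup_pResidual Q)
  rw [Subgroup.map_sup, hQ, subgroupOf_map_subtype, map_pResidual, ← MonoidHom.range_eq_map,
    range_subtype, inf_comm (S : Subgroup G) A, sup_comm] at h
  exact h.ge

/-- For subnormal `A`, `B` and a minimal normal `M`, the join of `M ∩ A` and `M ∩ B` is normal in
`⟨A, B⟩`. -/
theorem sup_inf_normal [Finite G] {M A B : Subgroup G} [M.Normal]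
    (hmin : ∀ K : Subgroup G, K.Normal → K ≤ M → K = ⊥ ∨ K = M) (hA : A.IsSubnormal)
    (hB : B.IsSubnormal) (hAB : A ⊔ B = ⊤) : ((M ⊓ A) ⊔ (M ⊓ B)).Normal := by
  have key : ∀ {A B : Subgroup G}, A.IsSubnormal →
      A ≤ normalizer (((M ⊓ A) ⊔ (M ⊓ B) : Subgroup G) : Set G) := by
    intro A B hA a ha
    refine mem_normalizer_iff_map_conj_eq.2 (eq_of_le_of_card_ge ?_
      (card_map_of_injective (MulAut.conj a).injective).ge)
    rw [Subgroup.map_sup]
    refine sup_le ?_ ?_
    · rintro _ ⟨x, hx, rfl⟩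
      exact mem_sup_left ⟨Normal.conj_mem inferInstance x hx.1 a,
        A.mul_mem (A.mul_mem ha hx.2) (A.inv_mem ha)⟩
    · rintro _ ⟨x, hx, rfl⟩
      have h1 : a * x * a⁻¹ * x⁻¹ ∈ M ⊓ A := by
        refine ⟨M.mul_mem (Normal.conj_mem inferInstance x hx.1 a) (M.inv_mem hx.1), ?_⟩
        have h2 := (mem_normalizer_iff.1
          (Subnormal.le_normalizer_of_isSubnormal hmin hA hx.1) a⁻¹).1 (A.inv_mem ha)
        simpa [mul_assoc] using A.mul_mem ha h2
      have h3 := mul_mem (mem_sup_left h1 : _ ∈ (M ⊓ A) ⊔ (M ⊓ B)) (mem_sup_right hx)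
      simpa using h3
  refine normalizer_eq_top_iff.1 (top_le_iff.1 ?_)
  rw [← hAB]
  refine sup_le (key hA) ?_
  rw [sup_comm (M ⊓ A)]
  exact key hB

/-- If `M` meets two subnormal generators trivially, it is central. -/
theorem commute_of_inf_eq_bot [Finite G] {M A B : Subgroup G} [M.Normal]
    (hmin : ∀ K : Subgroup G, K.Normal → K ≤ M → K = ⊥ ∨ K = M) (hA : A.IsSubnormal)
    (hB : B.IsSubnormal) (hAB : A ⊔ B = ⊤) (hW : (M ⊓ A) ⊔ (M ⊓ B) = ⊥) :
    M ≤ centralizer ((⊤ : Subgroup G) : Set G) := by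
  have key : ∀ {A : Subgroup G}, A.IsSubnormal → M ⊓ A = ⊥ → A ≤ centralizer (M : Set G) := by
    intro A hA h a ha
    refine mem_centralizer_iff.2 fun x hx => ?_
    have h1 : x * a * x⁻¹ * a⁻¹ ∈ M ⊓ A := by
      refine ⟨?_, A.mul_mem ((mem_normalizer_iff.1
        (Subnormal.le_normalizer_of_isSubnormal hmin hA hx) a).1 ha) (A.inv_mem ha)⟩
      have := M.mul_mem hx (Normal.conj_mem ‹M.Normal› x⁻¹ (M.inv_mem hx) a)
      simpa [mul_assoc] using this
    rw [h, mem_bot] at h1
    exact commutatorElement_eq_one_iff_mul_comm.1 (by rw [commutatorElement_def]; exact h1)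
  rw [le_centralizer_iff, ← hAB]
  exact sup_le (key hA (le_bot_iff.1 (le_sup_left.trans hW.le)))
    (key hB (le_bot_iff.1 (le_sup_right.trans hW.le)))

private theorem pResOf_sup_aux [Fact p.Prime] (n : ℕ) : ∀ (G : Type u) [Group G] [Finite G],
    Nat.card G = n → ∀ A B : Subgroup G, A.IsSubnormal → B.IsSubnormal →
      pResOf p (A ⊔ B) = pResOf p A ⊔ pResOf p B := by
  induction n using Nat.strongRecOn with | ind n ih => ?_
  intro G _ _ hn A B hA hB
  refine le_antisymm ?_ (sup_le (pResOf_mono le_sup_left) (pResOf_mono le_sup_right))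
  -- reduction to `⟨A, B⟩ = G`
  have inside : ∀ (K A B : Subgroup G), Nat.card K < n → A ≤ K → B ≤ K →
      (A.subgroupOf K).IsSubnormal → (B.subgroupOf K).IsSubnormal →
      pResOf p (A ⊔ B) = pResOf p A ⊔ pResOf p B := by
    intro K A B hlt hAK hBK hA hB
    have := congrArg (Subgroup.map K.subtype) (ih _ hlt K rfl _ _ hA hB)
    simpa only [Subgroup.map_sup, map_pResOf, map_subgroupOf_eq_of_le hAK,
      map_subgroupOf_eq_of_le hBK] using this
  by_cases htop : A ⊔ B = ⊤
  swap
  · refine (inside (A ⊔ B) A B ?_ le_sup_left le_sup_right hA.subgroupOf hB.subgroupOf).le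
    rw [← hn]
    exact lt_of_le_of_ne (card_le_card_group _) (fun h => htop (eq_top_of_card_eq _ h))
  rcases subsingleton_or_nontrivial G with hG | hG
  · exact (Subsingleton.elim _ _ : pResOf p (A ⊔ B) = _).le
  rw [htop]
  set X := pResOf p A ⊔ pResOf p B with hX
  have hXs : X.IsSubnormal :=
    Subnormal.isSubnormal_sup (pResOf_isSubnormal hA) (pResOf_isSubnormal hB)
  set R := pResOf p (⊤ : Subgroup G) with hR
  have hXR : X ≤ R := sup_le (pResOf_mono le_top) (pResOf_mono le_top)
  haveI hRn : R.Normal := pResOf_normal _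
  haveI : (⁅R, R⁆).Normal := Subgroup.commutator_normal R R
  rcases eq_or_ne ⁅R, R⁆ ⊥ with hR' | hR'
  · -- `R` is abelian
    letI : CommGroup R := { (inferInstance : Group R) with
      mul_comm := fun a b => Subtype.ext (commutatorElement_eq_one_iff_mul_comm.1
        (mem_bot.1 (hR' ▸ commutator_mem_commutator a.2 b.2))) }
    have hcop : ∀ r ∈ R, (orderOf r).Coprime p := by
      intro r hr
      induction hr using closure_induction with
      | mem x hx => exact hx.2
      | one => simp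
      | mul x y hx hy ihx ihy =>
        have hxy : Commute x y := congrArg Subtype.val (mul_comm (⟨x, hx⟩ : R) ⟨y, hy⟩)
        exact (Nat.Coprime.mul_left ihx ihy).coprime_dvd_left hxy.orderOf_mul_dvd_mul_orderOf
      | inv x _ ih => rwa [orderOf_inv]
    have hRcard : (Nat.card R).Coprime p := by
      refine (Nat.Prime.coprime_iff_not_dvd (Fact.out : p.Prime)).2 (fun hd => ?_) |>.symm
      obtain ⟨x, hx⟩ := exists_prime_orderOf_dvd_card' p hd
      have := hcop x x.2
      rw [Subgroup.orderOf_coe, hx, Nat.coprime_self] at this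
      exact (Fact.out : p.Prime).ne_one this
    have key : ∀ A : Subgroup G, A.IsSubnormal → pResOf p A ≤ X →
        A ≤ normalizer (X : Set G) := by
      intro A hA hAX a ha
      obtain ⟨b, c, hb, hc, ⟨k, hk⟩, hcc, hbc⟩ := exists_pPart_mul (p := p) a
      rw [← hbc]
      refine mul_mem ?_ (le_normalizer (hAX (mem_pResOf (zpowers_le.2 ha hc) hcc)))
      refine mem_normalizer_iff_map_conj_eq.2 (eq_of_le_of_card_ge ?_
        (card_map_of_injective (MulAut.conj b).injective).ge)
      rintro _ ⟨x, hx, rfl⟩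
      have h1 : ⁅x, b⁆ ∈ A ⊓ R := by
        refine ⟨commutator_zpowers_le_of_isSubnormal hRcard hA (zpowers_le.2 ha hb) hk
          (commutator_mem_commutator (hXR hx) (mem_zpowers b)), ?_⟩
        have := R.mul_mem (hXR hx) (Normal.conj_mem hRn x⁻¹ (R.inv_mem (hXR hx)) b)
        simpa [commutatorElement_def, mul_assoc] using this
      have h2 : ⁅x, b⁆⁻¹ * x ∈ X :=
        X.mul_mem (X.inv_mem (hAX (mem_pResOf h1.1 (hcop _ h1.2)))) hx
      simpa [commutatorElement_def, mul_assoc] using h2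
    haveI : X.Normal := normalizer_eq_top_iff.1 (top_le_iff.1
      (htop.ge.trans (sup_le (key A hA le_sup_left) (key B hB le_sup_right))))
    set f := QuotientGroup.mk' X
    have hq : ∀ A : Subgroup G, A.IsSubnormal → pResOf p A ≤ X →
        A.map f ≤ Cfsg.pCore p (G ⧸ X) := fun A hA hAX =>
      le_pCore_of_isSubnormal hA.quotient
        (isPGroup_map_of_pResOf_le f (by rwa [QuotientGroup.ker_mk']))
    have hp : IsPGroup p ((⊤ : Subgroup G).map f) := by
      rw [← htop, Subgroup.map_sup]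
      exact pCore_isPGroup.to_le (sup_le (hq A hA le_sup_left) (hq B hB le_sup_right))
    rw [← pResOf_eq_bot, ← map_pResOf, Subgroup.map_eq_bot_iff, QuotientGroup.ker_mk'] at hp
    exact hp
  obtain ⟨M, hM, hMne, hMR, hmin⟩ :=
    Solvable.exists_minimal_normal_le ‹(⁅R, R⁆).Normal› hR'
  haveI := hM
  set f := QuotientGroup.mk' M
  have hlt : Nat.card (G ⧸ M) < n := by
    rw [← hn, ← M.index_eq_card, ← M.card_mul_index]
    exact lt_mul_of_one_lt_left (Nat.pos_of_ne_zero index_ne_zero_of_finite)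
      (M.one_lt_card_iff_ne_bot.mpr hMne)
  have hRX : R ≤ X ⊔ M := by
    have h1 := ih _ hlt (G ⧸ M) rfl _ _ hA.quotient hB.quotient
    rw [← Subgroup.map_sup, ← map_pResOf, ← map_pResOf, ← map_pResOf, ← Subgroup.map_sup,
      htop] at h1
    have h2 : R.map f ≤ X.map f := h1.le
    rwa [map_le_iff_le_comap, comap_map_eq, QuotientGroup.ker_mk'] at h2
  by_cases hMp : IsPGroup p M
  · calc R = pResOf p R := (pResOf_idem _).symm
      _ ≤ pResOf p (M ⊔ X) := pResOf_mono (sup_comm M X ▸ hRX)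
      _ = pResOf p X := pResOf_sup_eq_of_isSubnormal hMp hXs
      _ ≤ X := pResOf_le _
  refine hRX.trans (sup_le le_rfl ?_)
  rcases hmin _ (sup_inf_normal hmin hA hB htop) (sup_le inf_le_left inf_le_left) with hW | hW
  · have hc := commute_of_inf_eq_bot hmin hA hB htop hW
    refine hMR.trans (commutator_le.2 fun r hr s hs => ?_)
    have hXM : X ≤ normalizer (M : Set G) := by rw [normalizer_eq_top]; exact le_top
    obtain ⟨x, hx, m, hm, rfl⟩ :=
      (coe_mul_of_left_le_normalizer_right X M hXM).le (hRX hr)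
    obtain ⟨y, hy, l, hl, rfl⟩ :=
      (coe_mul_of_left_le_normalizer_right X M hXM).le (hRX hs)
    have cm : ∀ g, g * m = m * g := fun g => mem_centralizer_iff.1 (hc hm) g (mem_top g)
    have cl : ∀ g, g * l = l * g := fun g => mem_centralizer_iff.1 (hc hl) g (mem_top g)
    have e : ⁅x * m, y * l⁆ = ⁅x, y⁆ := by
      calc ⁅x * m, y * l⁆ = x * m * y * l * m⁻¹ * x⁻¹ * l⁻¹ * y⁻¹ := by
            rw [commutatorElement_def]; group
        _ = x * y * m * l * m⁻¹ * x⁻¹ * l⁻¹ * y⁻¹ := by rw [mul_assoc x m y, ← cm y, ← mul_assoc]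
        _ = x * y * (m * l * m⁻¹) * x⁻¹ * l⁻¹ * y⁻¹ := by group
        _ = x * y * (l * x⁻¹) * l⁻¹ * y⁻¹ := by
            rw [cl m, mul_inv_cancel_right]; simp only [mul_assoc]
        _ = ⁅x, y⁆ := by rw [← cl x⁻¹, commutatorElement_def]; group
    simp only at *
    rw [e]
    exact X.mul_mem (X.mul_mem (X.mul_mem hx hy) (X.inv_mem hx)) (X.inv_mem hy)
  · by_cases hMtop : M = ⊤
    · -- `G` is simple
      have hs : ∀ K : Subgroup G, K.IsSubnormal → K = ⊥ ∨ K = ⊤ := by
        intro K hK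
        by_contra hne
        push Not at hne
        obtain ⟨N, hN, hKN, hlt'⟩ := hK.exists_normal_and_le_and_lt_top_of_ne hne.2
        rcases hmin N hN (hMtop ▸ le_top) with h | h
        · exact hne.1 (le_bot_iff.1 (h ▸ hKN))
        · exact hlt'.ne (h.trans hMtop)
      intro x _
      rcases hs A hA with rfl | rfl
      · rw [bot_sup_eq] at htop
        subst htop
        exact mem_sup_right (hMR.trans ((commutator_le_right R R).trans le_rfl) (hMtop ▸ mem_top x))
      · exact mem_sup_left (hMR.trans ((commutator_le_right R R).trans le_rfl) (hMtop ▸ mem_top x))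
    have hMlt : Nat.card M < n := by
      rw [← hn]
      exact lt_of_le_of_ne (card_le_card_group _) (fun h => hMtop (eq_top_of_card_eq _ h))
    have h1 := inside M (M ⊓ A) (M ⊓ B) hMlt inf_le_left inf_le_left
      (by rw [inf_subgroupOf_left]; exact hA.subgroupOf)
      (by rw [inf_subgroupOf_left]; exact hB.subgroupOf)
    rw [hW] at h1
    have hMM : pResOf p M = M :=
      (hmin _ (pResOf_normal M) (pResOf_le M)).resolve_left fun h => hMp (pResOf_eq_bot.1 h)
    rw [← hMM, h1]
    exact sup_le_sup (pResOf_mono inf_le_right) (pResOf_mono inf_le_right)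

/-- `O^p(⟨A, B⟩) = ⟨O^p(A), O^p(B)⟩` for subnormal subgroups of a finite group. -/
theorem pResOf_sup [Finite G] [Fact p.Prime] {A B : Subgroup G} (hA : A.IsSubnormal)
    (hB : B.IsSubnormal) : pResOf p (A ⊔ B) = pResOf p A ⊔ pResOf p B :=
  pResOf_sup_aux _ G rfl A B hA hB

/-- The image of `A ∩ S` is the intersection of the images, for subnormal `A`. -/
theorem map_inf_sylow [Finite G] [Fact p.Prime] {G' : Type*} [Group G'] [Finite G'] (f : G →* G')
    {A : Subgroup G} (hA : A.IsSubnormal) (S : Sylow p G) :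
    (A ⊓ (S : Subgroup G)).map f = A.map f ⊓ (S : Subgroup G).map f := by
  refine le_antisymm (map_inf_le A S f) ?_
  obtain ⟨Q, hQ⟩ := Cfsg.Agent.S0542.result p A hA S
  set P := A.map f ⊓ (S : Subgroup G).map f
  set g := (f.domRestrict A).rangeRestrict
  let T := Q.mapSurjective (f := g) (f.domRestrict A).rangeRestrict_surjective
  have hT : (T : Subgroup _).map (f.domRestrict A).range.subtype =
      (A ⊓ (S : Subgroup G)).map f := by
    rw [Sylow.coe_mapSurjective, hQ]
    ext x
    constructor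
    · rintro ⟨_, ⟨a, ha, rfl⟩, rfl⟩
      exact ⟨a, ⟨a.2, mem_subgroupOf.1 ha⟩, rfl⟩
    · rintro ⟨a, ha, rfl⟩
      exact ⟨_, ⟨⟨a, ha.1⟩, mem_subgroupOf.2 ha.2, rfl⟩, rfl⟩
  have hP : IsPGroup p (P.subgroupOf (f.domRestrict A).range) :=
    ((S.2.map f).to_le inf_le_right).comap_subtype
  have hle : (T : Subgroup _) ≤ P.subgroupOf (f.domRestrict A).range := by
    intro x hx
    rw [mem_subgroupOf]
    exact map_inf_le A S f (hT.le (mem_map_of_mem _ hx))
  intro x hx
  have hxr : x ∈ (f.domRestrict A).range := by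
    rw [MonoidHom.domRestrict_range]; exact hx.1
  exact hT.le ⟨⟨x, hxr⟩, (T.3 hP hle).le (mem_subgroupOf.2 hx), rfl⟩

private theorem sup_inf_sylow_aux [Fact p.Prime] (n : ℕ) : ∀ (G : Type u) [Group G] [Finite G],
    Nat.card G = n → ∀ (S : Sylow p G) (A B : Subgroup G), A.IsSubnormal → B.IsSubnormal →
      (A ⊔ B) ⊓ (S : Subgroup G) ≤ A ⊓ (S : Subgroup G) ⊔ B ⊓ (S : Subgroup G) := by
  induction n using Nat.strongRecOn with | ind n ih => ?_
  intro G _ _ hn S A B hA hB
  have inside : ∀ (K A B : Subgroup G), K.IsSubnormal → Nat.card K < n → A ≤ K → B ≤ K →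
      (A.subgroupOf K).IsSubnormal → (B.subgroupOf K).IsSubnormal →
      (A ⊔ B) ⊓ (S : Subgroup G) ≤ A ⊓ (S : Subgroup G) ⊔ B ⊓ (S : Subgroup G) := by
    intro K A B hKs hlt hAK hBK hA hB
    obtain ⟨P, hP⟩ := Cfsg.Agent.S0542.result p K hKs S
    have h := Subgroup.map_mono (f := K.subtype) (ih _ hlt K rfl P _ _ hA hB)
    rw [hP, Subgroup.map_sup, ← subgroupOf_sup hAK hBK] at h
    have e : ∀ X : Subgroup G, X ≤ K →
        (X.subgroupOf K ⊓ (S : Subgroup G).subgroupOf K).map K.subtype =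
          X ⊓ (S : Subgroup G) := by
      intro X hX
      rw [subgroupOf, subgroupOf, ← comap_inf, ← subgroupOf,
        map_subgroupOf_eq_of_le (inf_le_left.trans hX)]
    rwa [e _ (sup_le hAK hBK), e _ hAK, e _ hBK] at h
  by_cases htop : A ⊔ B = ⊤
  swap
  · refine inside (A ⊔ B) A B (Subnormal.isSubnormal_sup hA hB) ?_ le_sup_left le_sup_right
      hA.subgroupOf hB.subgroupOf
    rw [← hn]
    exact lt_of_le_of_ne (card_le_card_group _) (fun h => htop (eq_top_of_card_eq _ h))
  rcases subsingleton_or_nontrivial G with hG | hG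
  · exact (Subsingleton.elim _ _ : (A ⊔ B) ⊓ (S : Subgroup G) = _).le
  rw [htop, top_inf_eq]
  set T := A ⊓ (S : Subgroup G) ⊔ B ⊓ (S : Subgroup G) with hT
  have hTS : T ≤ S := sup_le inf_le_right inf_le_right
  set R := pResOf p (⊤ : Subgroup G) with hR
  haveI hRn : R.Normal := pResOf_normal _
  have hRX : R = pResOf p A ⊔ pResOf p B := by rw [hR, ← htop, pResOf_sup hA hB]
  by_cases hRtop : R = ⊤
  swap
  · have hRlt : Nat.card R < n := by
      rw [← hn]
      exact lt_of_le_of_ne (card_le_card_group _) (fun h => hRtop (eq_top_of_card_eq _ h))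
    have hRs : (S : Subgroup G) ⊓ R ≤ T := by
      have h1 := inside R (pResOf p A) (pResOf p B) hRn.isSubnormal hRlt
        (pResOf_mono le_top) (pResOf_mono le_top)
        (pResOf_isSubnormal hA).subgroupOf (pResOf_isSubnormal hB).subgroupOf
      rw [← hRX, inf_comm] at h1
      exact h1.trans (sup_le_sup (inf_le_inf_right _ (pResOf_le A))
        (inf_le_inf_right _ (pResOf_le B)))
    have htop' : (⊤ : Subgroup G) ≤ R ⊔ T := by
      rw [← htop]
      refine sup_le ((le_pResOf_sup_inf_sylow hA S).trans (sup_le_sup ?_ le_sup_left))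
        ((le_pResOf_sup_inf_sylow hB S).trans (sup_le_sup ?_ le_sup_right)) <;>
      exact pResOf_mono le_top
    intro s hs
    obtain ⟨r, hr, t, ht, rfl⟩ := mem_sup_of_normal_left.1 (htop' (mem_top s))
    exact mul_mem (hRs ⟨(mul_mem_cancel_right (hTS ht)).1 hs, hr⟩) ht
  -- now `G = O^p(G)`
  obtain ⟨M, hM, hMne, hmin⟩ := Solvable.exists_minimal_normal (G := G)
  haveI := hM
  set f := QuotientGroup.mk' M
  have hlt : Nat.card (G ⧸ M) < n := by
    rw [← hn, ← M.index_eq_card, ← M.card_mul_index]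
    exact lt_mul_of_one_lt_left (Nat.pos_of_ne_zero index_ne_zero_of_finite)
      (M.one_lt_card_iff_ne_bot.mpr hMne)
  have hSTM : (S : Subgroup G) ≤ T ⊔ M := by
    have h1 := ih _ hlt (G ⧸ M) rfl (S.mapSurjective (QuotientGroup.mk'_surjective M)) _ _
      hA.quotient hB.quotient
    rw [Sylow.coe_mapSurjective, ← Subgroup.map_sup, htop,
      map_top_of_surjective _ (QuotientGroup.mk'_surjective M), top_inf_eq,
      ← map_inf_sylow f hA S, ← map_inf_sylow f hB S, ← Subgroup.map_sup,
      map_le_iff_le_comap, comap_map_eq, QuotientGroup.ker_mk'] at h1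
    exact h1
  suffices hMS : (S : Subgroup G) ⊓ M ≤ T by
    intro s hs
    obtain ⟨t, ht, m, hm, rfl⟩ := mem_sup_of_normal_right.1 (hSTM hs)
    exact mul_mem ht (hMS ⟨(mul_mem_cancel_left (hTS ht)).1 hs, hm⟩)
  rcases hmin _ (sup_inf_normal hmin hA hB htop) (sup_le inf_le_left inf_le_left) with hW | hW
  · -- `M` is central
    have hc := commute_of_inf_eq_bot hmin hA hB htop hW
    by_contra hMT
    obtain ⟨m, hm, hmT⟩ := SetLike.not_le_iff_exists.1 hMT
    obtain ⟨k, hk⟩ := IsPGroup.iff_orderOf.1 S.2 ⟨m, hm.1⟩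
    rw [Subgroup.orderOf_mk] at hk
    have hm1 : m ≠ 1 := fun h => hmT (h ▸ T.one_mem)
    -- `M` is generated by an element of order `p`
    obtain ⟨j, rfl⟩ : ∃ j, k = j + 1 := Nat.exists_eq_succ_of_ne_zero (by
      rintro rfl; exact hm1 (orderOf_eq_one_iff.1 (by simpa using hk)))
    set z := m ^ p ^ j with hz
    have hzo : orderOf z = p := by
      rw [hz, orderOf_pow' m (pow_ne_zero j (Fact.out : p.Prime).ne_zero), hk,
        Nat.gcd_eq_right (pow_dvd_pow p (Nat.le_succ j)), pow_succ,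
        Nat.mul_div_cancel_left _ (pow_pos (Fact.out : p.Prime).pos j)]
    have hzM : zpowers z ≤ M := zpowers_le.2 (pow_mem hm.2 _)
    have hcz : ∀ x ∈ M, ∀ g : G, g * x = x * g :=
      fun x hx g => mem_centralizer_iff.1 (hc hx) g (mem_top g)
    haveI : (zpowers z).Normal := ⟨fun x hx g => by
      rwa [hcz x (hzM hx) g, mul_inv_cancel_right]⟩
    have hMz : zpowers z = M := (hmin _ ‹_› hzM).resolve_left fun h => by
      rw [zpowers_eq_bot] at h
      rw [h, orderOf_one] at hzo
      exact (Fact.out : p.Prime).ne_one hzo.symm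
    have hMS : M ≤ S := hMz ▸ zpowers_le.2 (pow_mem hm.1 _)
    have hdisj : ∀ x ∈ M, x ∈ T → x = 1 := by
      intro x hx hxT
      by_contra hx1
      apply hmT
      have hxz : zpowers x = M := by
        refine eq_of_le_of_card_ge (zpowers_le.2 hx) ?_
        have hd : orderOf x ∣ p := by
          rw [← hzo, ← Nat.card_zpowers z, hMz]; exact Subgroup.orderOf_dvd_natCard _ hx
        rw [← hMz, Nat.card_zpowers, Nat.card_zpowers, hzo]
        exact ((Nat.dvd_prime Fact.out).1 hd).resolve_left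
          (fun h => hx1 (orderOf_eq_one_iff.1 h)) |>.ge
      exact zpowers_le.2 hxT (hxz.ge hm.2)
    -- transfer to `S / T`
    set T₀ := T.subgroupOf (S : Subgroup G) with hT₀
    have hdec : ∀ s : S, ∃ t : S, t ∈ T₀ ∧ ∃ l : S, (l : G) ∈ M ∧ s = l * t := by
      intro s
      obtain ⟨t, ht, l, hl, e⟩ := mem_sup_of_normal_right.1 (hSTM s.2)
      exact ⟨⟨t, hTS ht⟩, ht, ⟨l, hMS hl⟩, hl, Subtype.ext (by
        show (s : G) = l * t; rw [← e]; exact hcz l hl t)⟩
    haveI : T₀.Normal := ⟨fun x hx s => by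
      obtain ⟨t, ht, l, hl, rfl⟩ := hdec s
      have h1 : t * x * t⁻¹ ∈ T₀ := mul_mem (mul_mem ht hx) (inv_mem ht)
      have h2 : l * (t * x * t⁻¹) * l⁻¹ = t * x * t⁻¹ := by
        refine Subtype.ext ?_
        show (l : G) * ((t : G) * x * (t : G)⁻¹) * (l : G)⁻¹ = (t : G) * x * (t : G)⁻¹
        rw [← hcz (l : G) hl, mul_inv_cancel_right]
      have h3 : l * t * x * (l * t)⁻¹ = l * (t * x * t⁻¹) * l⁻¹ := by group
      rw [h3, h2]
      exact h1⟩
    letI : CommGroup (S ⧸ T₀) := { (inferInstance : Group (S ⧸ T₀)) with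
      mul_comm := fun a b => by
        obtain ⟨a, rfl⟩ := QuotientGroup.mk'_surjective T₀ a
        obtain ⟨b, rfl⟩ := QuotientGroup.mk'_surjective T₀ b
        obtain ⟨t, ht, l, hl, rfl⟩ := hdec a
        obtain ⟨t', ht', l', hl', rfl⟩ := hdec b
        simp only [map_mul, QuotientGroup.mk'_apply, (QuotientGroup.eq_one_iff t).2 ht,
          (QuotientGroup.eq_one_iff t').2 ht', mul_one]
        rw [← QuotientGroup.mk_mul, ← QuotientGroup.mk_mul]
        exact congrArg QuotientGroup.mk (Subtype.ext (hcz (l' : G) hl' (l : G))) }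
    set τ := MonoidHom.transfer (QuotientGroup.mk' T₀) with hτ
    have hτz : τ z = 1 := by
      have hzR : z ∈ R := hRtop ▸ mem_top z
      have hle : R ≤ τ.ker := by
        refine pResOf_le_of_forall fun g _ hg => orderOf_eq_one_iff.1 ?_
        obtain ⟨i, hi⟩ := IsPGroup.iff_orderOf.1 (S.2.to_quotient T₀) (τ g)
        exact Nat.eq_one_of_dvd_coprimes (hg.pow_right i) (orderOf_map_dvd τ g) (hi ▸ dvd_rfl)
      exact hle hzR
    rw [hτ, MonoidHom.transfer_eq_pow (QuotientGroup.mk' T₀) z (fun i g₀ _ => by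
      rw [mul_assoc, ← hcz _ (M.pow_mem (hzM (mem_zpowers z)) i) g₀, inv_mul_cancel_left])] at hτz
    have h5 : z ^ (S : Subgroup G).index = 1 :=
      hdisj _ (M.pow_mem (hzM (mem_zpowers z)) _)
        (mem_subgroupOf.1 ((QuotientGroup.eq_one_iff _).1 hτz))
    have h6 := orderOf_dvd_of_pow_eq_one h5
    rw [hzo] at h6
    exact S.not_dvd_index h6
  · by_cases hMtop : M = ⊤
    · have hs : ∀ K : Subgroup G, K.IsSubnormal → K = ⊥ ∨ K = ⊤ := by
        intro K hK
        by_contra hne
        push Not at hne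
        obtain ⟨N, hN, hKN, hlt'⟩ := hK.exists_normal_and_le_and_lt_top_of_ne hne.2
        rcases hmin N hN (hMtop ▸ le_top) with h | h
        · exact hne.1 (le_bot_iff.1 (h ▸ hKN))
        · exact hlt'.ne (h.trans hMtop)
      intro x hx
      rcases hs A hA with rfl | rfl
      · rw [bot_sup_eq] at htop
        subst htop
        exact mem_sup_right ⟨mem_top x, hx.1⟩
      · exact mem_sup_left ⟨mem_top x, hx.1⟩
    have hMlt : Nat.card M < n := by
      rw [← hn]
      exact lt_of_le_of_ne (card_le_card_group _) (fun h => hMtop (eq_top_of_card_eq _ h))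
    have h1 := inside M (M ⊓ A) (M ⊓ B) hM.isSubnormal hMlt inf_le_left inf_le_left
      (by rw [inf_subgroupOf_left]; exact hA.subgroupOf)
      (by rw [inf_subgroupOf_left]; exact hB.subgroupOf)
    rw [hW, inf_comm] at h1
    exact h1.trans (sup_le_sup (inf_le_inf_right _ inf_le_right)
      (inf_le_inf_right _ inf_le_right))

/-- Wielandt: a Sylow subgroup meets the join of two subnormal subgroups in the join of the
intersections. -/
theorem sup_inf_sylow [Finite G] [Fact p.Prime] (S : Sylow p G) {A B : Subgroup G}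
    (hA : A.IsSubnormal) (hB : B.IsSubnormal) :
    (A ⊔ B) ⊓ (S : Subgroup G) = A ⊓ (S : Subgroup G) ⊔ B ⊓ (S : Subgroup G) :=
  le_antisymm (sup_inf_sylow_aux _ G rfl S A B hA hB)
    (sup_le (inf_le_inf_right _ le_sup_left) (inf_le_inf_right _ le_sup_right))

end CfsgLib.LocalEven50
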