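import Mathlib.GroupTheory.Transfer
import Mathlib.GroupTheory.SpecificGroups.Cyclic

/-!
# Wielandt's relative complement transfer

If every element of `M ∩ g M g⁻¹` (`g ∉ M`) is killed by the homomorphism `φ` of `M` to a
commutative group, then the transfer of `φ` extends `φ` to the whole group.
-/

namespace CfsgLib.LocalEven50

open Subgroup MulAction

variable {G : Type*} [Group G] [Finite G] {A : Type*} [CommGroup A]

theorem transfer_eq_of_killed (M : Subgroup G) (φ : ↥M →* A)
    (h : ∀ g : G, g ∉ M → ∀ m : ↥M, g * (m : G) * g⁻¹ ∈ M → φ m = 1) (m : ↥M) :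
    MonoidHom.transfer φ (m : G) = φ m := by
  classical
  letI : Fintype (Quotient (orbitRel (zpowers (m : G)) (G ⧸ M))) := Fintype.ofFinite _
  rw [MonoidHom.transfer_eq_prod_quotient_orbitRel_zpowers_quot]
  set q₀ : Quotient (orbitRel (zpowers (m : G)) (G ⧸ M)) :=
    Quotient.mk'' ((1 : G) : G ⧸ M) with hq₀
  have hfix : (m : G) • ((1 : G) : G ⧸ M) = ((1 : G) : G ⧸ M) := by
    rw [MulAction.Quotient.smul_coe, QuotientGroup.eq, smul_eq_mul, mul_one, mul_one]
    exact M.inv_mem m.2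
  have hq : q₀.out = ((1 : G) : G ⧸ M) := by
    have h1 : q₀.out ∈ orbit (zpowers (m : G)) ((1 : G) : G ⧸ M) := by
      rw [← MulAction.orbitRel_apply]
      exact Quotient.exact ((Quotient.out_eq q₀).trans hq₀)
    obtain ⟨⟨z, hz⟩, hz'⟩ := h1
    rw [← hz']
    exact (mem_stabilizer_iff).mp
      ((zpowers_le.mpr (mem_stabilizer_iff.mpr hfix) : zpowers (m : G) ≤ stabilizer G _) hz)
  rw [Fintype.prod_eq_single q₀]
  · have ha : q₀.out.out ∈ M := by
      rw [hq]
      have := QuotientGroup.out_eq' ((1 : G) : G ⧸ M)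
      rw [QuotientGroup.eq, mul_one] at this
      exact inv_mem_iff.mp this
    have hper : Function.minimalPeriod ((m : G) • ·) q₀.out = 1 := by
      rw [hq]
      exact Function.minimalPeriod_eq_one_iff_isFixedPt.mpr hfix
    calc φ _ = φ (⟨_, ha⟩⁻¹ * m * ⟨_, ha⟩) := congrArg φ (Subtype.ext (by
          simp only [hper, pow_one, Subgroup.coe_mul, InvMemClass.coe_inv]))
      _ = φ m := by simp
  · intro q hne
    have hout : q.out.out ∉ M := by
      intro hmem
      apply hne
      rw [← Quotient.out_eq q, hq₀]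
      refine congrArg Quotient.mk'' ?_
      rw [← QuotientGroup.out_eq' q.out, QuotientGroup.eq, mul_one]
      exact M.inv_mem hmem
    refine h _ hout _ ?_
    change q.out.out * (q.out.out⁻¹ * (m : G) ^ _ * q.out.out) * q.out.out⁻¹ ∈ M
    simpa [mul_assoc] using M.pow_mem m.2 _

/-- Wielandt: there is a homomorphism on the whole group extending `φ`. -/
theorem exists_extension_of_killed (M : Subgroup G) (φ : ↥M →* A)
    (h : ∀ g : G, g ∉ M → ∀ m : ↥M, g * (m : G) * g⁻¹ ∈ M → φ m = 1) :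
    ∃ ψ : G →* A, ∀ m : ↥M, ψ (m : G) = φ m :=
  ⟨MonoidHom.transfer φ, transfer_eq_of_killed M φ h⟩

/-- The quotient by a normal subgroup that is maximal is commutative when the group is generated by
it and any single element outside. -/
theorem isCyclic_quotient_of_isCoatom (H : Subgroup G) [H.Normal] (hH : IsCoatom H) :
    IsCyclic (G ⧸ H) := by
  obtain ⟨m, -, hm⟩ := SetLike.exists_of_lt hH.lt_top
  refine ⟨⟨(m : G ⧸ H), fun x => ?_⟩⟩
  obtain ⟨y, rfl⟩ := QuotientGroup.mk_surjective x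
  have hlt : H < (zpowers (m : G ⧸ H)).comap (QuotientGroup.mk' H) := by
    refine SetLike.lt_iff_le_and_exists.mpr ⟨fun z hz => ?_, m, mem_zpowers _, hm⟩
    rw [mem_comap, (show QuotientGroup.mk' H z = 1 from (QuotientGroup.eq_one_iff z).mpr hz)]
    exact one_mem _
  exact (hH.2 _ hlt).ge (mem_top y)

/-- If `H ≤ M`, `M` normalises `H` and `M ⊓ g M g⁻¹ ≤ H` for `g ∉ M`, some normal subgroup of
`G` meets `M` exactly in `H`, provided `H` is maximal in `M`. -/
theorem exists_normal_inf_eq {H M : Subgroup G} (hHM : H ≤ M) (hn : (H.subgroupOf M).Normal)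
    (hmax : IsCoatom (H.subgroupOf M))
    (h : ∀ g : G, g ∉ M → ∀ m ∈ M, g * m * g⁻¹ ∈ M → m ∈ H) :
    ∃ K : Subgroup G, K.Normal ∧ K ⊓ M = H := by
  haveI := hn
  haveI := isCyclic_quotient_of_isCoatom (H.subgroupOf M) hmax
  letI : CommGroup (↥M ⧸ H.subgroupOf M) := IsCyclic.commGroup
  obtain ⟨ψ, hψ⟩ := exists_extension_of_killed M (QuotientGroup.mk' (H.subgroupOf M))
    fun g hg m hgm => (QuotientGroup.eq_one_iff m).mpr (h g hg m m.2 hgm)
  refine ⟨ψ.ker, inferInstance, le_antisymm ?_ ?_⟩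
  · rintro x ⟨hx, hxM⟩
    have h1 : ψ x = 1 := hx
    rw [show x = ((⟨x, hxM⟩ : ↥M) : G) from rfl, hψ] at h1
    exact mem_subgroupOf.mp ((QuotientGroup.eq_one_iff (⟨x, hxM⟩ : ↥M)).mp h1)
  · intro x hx
    refine ⟨?_, hHM hx⟩
    show ψ x = 1
    rw [show x = ((⟨x, hHM hx⟩ : ↥M) : G) from rfl, hψ]
    exact (QuotientGroup.eq_one_iff _).mpr hx

end CfsgLib.LocalEven50
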